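import Groth.Agent.Lib.RlimTrunc.AbSheaf
import Groth.Agent.Lib.ModSS29.ExtCompare
import Groth.Agent.Lib.ModSS29.TA
import Groth.Agent.Lib.ModSS29.SS

/-!
# Derived limits for modules on a ringed site
-/

set_option autoImplicit false
set_option linter.unusedSectionVars false

universe w u

open CategoryTheory CategoryTheory.Limits Opposite Abelian DerivedCategory

namespace Groth.Agent.Lib.RlimTrunc.ModSheaf

open Single Devissage Main Groth.Agent.Lib.FreeMod Groth.Agent.Lib.SiteCoh.FreeRes

variable {C : Type u} [SmallCategory C] {J : GrothendieckTopology C} (O : Sheaf J CommRingCat.{u})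

/-- The free modules on the objects. -/
noncomputable abbrev free : C ⥤ _root_.ModSite.Mod O := yoneda ⋙ Basic.FrP O

/-- Maps out of a free module are maps out of the free abelian sheaf. -/
noncomputable def e (U : C) (M : _root_.ModSite.Mod O) :
    ((free O).obj U ⟶ M) ≃ ((AbSheaf.free J).obj U ⟶ _root_.ModSite.toAb M) :=
  TotAcyclic.homEquivAb O (yoneda.obj U) M

lemma e_left {U V : C} (f : V ⟶ U) {M : _root_.ModSite.Mod O} (s : (free O).obj U ⟶ M) :
    e O V M ((free O).map f ≫ s) = (AbSheaf.free J).map f ≫ e O U M s :=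
  TotAcyclic.homEquivAb_left O (yoneda.map f) s

lemma e_right {U : C} {M N : _root_.ModSite.Mod O} (s : (free O).obj U ⟶ M) (ψ : M ⟶ N) :
    e O U N (s ≫ ψ) = e O U M s ≫ (SheafOfModules.toSheaf _).map ψ := by
  refine (TotAcyclic.homEquivAb_eq O (yoneda.obj U) (s ≫ ψ)).trans ?_
  rw [Functor.map_comp, ← Category.assoc]
  exact congrArg (· ≫ (SheafOfModules.toSheaf _).map ψ)
    (TotAcyclic.homEquivAb_eq O (yoneda.obj U) s).symm

lemma e_add {U : C} {M : _root_.ModSite.Mod O} (s t : (free O).obj U ⟶ M) :
    e O U M (s + t) = e O U M s + e O U M t := by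
  refine (TotAcyclic.homEquivAb_eq O (yoneda.obj U) (s + t)).trans ?_
  rw [Functor.map_add, Preadditive.comp_add]
  exact congrArg₂ (· + ·) (TotAcyclic.homEquivAb_eq O (yoneda.obj U) s).symm
    (TotAcyclic.homEquivAb_eq O (yoneda.obj U) t).symm

lemma e_zero (U : C) (M : _root_.ModSite.Mod O) : e O U M 0 = 0 :=
  map_zero (AddEquiv.mk' (e O U M) (fun s t => e_add O s t))

theorem isDetecting : IsDetecting J (free O) where
  eq_zero_of_local {U M} s S hS h := by
    apply (e O U M).injective
    rw [e_zero]
    refine (AbSheaf.isDetecting J).eq_zero_of_local _ S hS fun Y f hf => ?_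
    rw [← e_left, h f hf, e_zero]
  exists_liftSieve {U M N} p hp s := by
    haveI := hp
    obtain ⟨S, hS, hS'⟩ := (AbSheaf.isDetecting J).exists_liftSieve
      ((SheafOfModules.toSheaf _).map p) inferInstance (e O U N s)
    refine ⟨S, hS, fun Y f hf => ?_⟩
    obtain ⟨x, hx⟩ := hS' f hf
    refine ⟨(e O Y M).symm x, (e O Y N).injective ?_⟩
    rw [e_right, Equiv.apply_symm_apply, e_left, hx]
  separating {M N} ψ h := by
    apply (SheafOfModules.toSheaf _).map_injective
    rw [Functor.map_zero]
    refine (AbSheaf.isDetecting J).separating _ fun U s => ?_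
    have h' := congrArg (e O U N) (h U ((e O U M).symm s))
    rwa [e_right, Equiv.apply_symm_apply, e_zero] at h'

/-- Maps out of the free module on `U` agree with maps out of the free abelian sheaf on `U`. -/
noncomputable def homIso (U : C) :
    SheafOfModules.toSheaf (_root_.ModSite.ringSh O) ⋙
      SpecSeq.HomExt.homFunctor ((AbSheaf.free J).obj U) ≅
        SpecSeq.HomExt.homFunctor ((free O).obj U) :=
  (NatIso.ofComponents (fun M => (AddEquiv.mk' (e O U M) (fun s t => e_add O s t)).toAddCommGrpIso)
    fun {M N} ψ => by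
      ext s
      exact e_right O s ψ).symm

/-- Vanishing of cohomology gives vanishing of `Ext` out of free modules, as a group. -/
theorem subsingleton_ext_of_subsingleton_hu (U : C) (M : _root_.ModSite.Mod O) (k : ℕ)
    (h : Subsingleton (_root_.ModSite.HU O M k U)) : Subsingleton (Ext ((free O).obj U) M k) := by
  obtain ⟨eqv⟩ := ModSS29.ExtCompare.nonempty_extEquiv (SheafOfModules.toSheaf _)
    ((free O).obj U) ((AbSheaf.free J).obj U) (homIso O U)
    (fun I _ p => SiteCoh.FreeSheaf.subsingleton_hu_of_isTotallyAcyclic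
      (ModSS29.TA.ta_injective O I) U p) k M
  exact @Equiv.subsingleton _ _ eqv.toEquiv h

/-- Vanishing of cohomology gives vanishing of `Ext` out of free modules. -/
theorem extVanish_of_subsingleton_hu [HasDerivedCategory.{w} (_root_.ModSite.Mod O)] (U : C)
    (M : _root_.ModSite.Mod O) (k : ℕ) (h : Subsingleton (_root_.ModSite.HU O M k U)) :
    ExtVanish ((free O).obj U) M k :=
  extVanish_of_subsingleton (subsingleton_ext_of_subsingleton_hu O U M k h)

/-- The truncation theorem for modules on a ringed site. -/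
theorem isRlimVia_truncTower [HasDerivedCategory.{w} (_root_.ModSite.Mod O)]
    (E : DerivedCategory (_root_.ModSite.Mod O)) [HasProduct (CohCx.truncTower E)]
    (h : CofinalGood.{u, u, u} J fun Y (p : ℤ → ℤ) => ∀ (m : ℤ) (k : ℕ), p m < k →
      Subsingleton (_root_.ModSite.HU O
        ((homologyFunctor (_root_.ModSite.Mod O) (m - k)).obj E) k Y)) :
    CohCx.IsRlimVia (CohCx.truncTower E) (CohCx.truncTowerMap E) E (CohCx.toTruncTower E) := by
  refine Trunc.isRlimVia_truncTower E (isDetecting O)
    (h.imp (fun p m => (p m - m).toNat + (-m).toNat) fun Y p hv m n hn =>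
      extVanish_of_subsingleton_hu O Y _ _ ?_)
  replace hn : (p m - m).toNat + (-m).toNat ≤ n := hn
  have hk : ((m + n + 1).toNat : ℤ) = m + n + 1 := Int.toNat_of_nonneg (by omega)
  have := hv m (m + n + 1).toNat (by omega)
  rwa [hk, show m - (m + (n : ℤ) + 1) = -((n : ℤ) + 1) by ring] at this

end Groth.Agent.Lib.RlimTrunc.ModSheaf
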