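import Groth.Agent.Lib.RlimTrunc.RightSingle
import Groth.Agent.Lib.DerCat29.CohIn
import Mathlib.Algebra.Homology.DerivedCategory.DerivabilityStructureInjectives

/-!
# The right derived functor on bounded below objects with cohomology in a class
-/

set_option autoImplicit false
set_option linter.unusedSectionVars false

universe w w' v v₁ u u₁

open CategoryTheory CategoryTheory.Limits DerivedCategory

namespace Groth.Agent.Lib.RlimTrunc.RightGE

open Single DerivedOX.RightDerived RightPres DerCat29.Devissage SpecSeq.RightHom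

variable {A : Type u} [Category.{v} A] [Abelian A] [HasDerivedCategory.{w} A]
  {B : Type u₁} [Category.{v₁} B] [Abelian B] [HasDerivedCategory.{w'} B]
  [(DerivedCategory.Qh (C := B)).IsLeftAdjoint] [EnoughInjectives B] [HasInjectiveResolutions B]
  (G : B ⥤ A) [G.Additive]

theorem preservesGE : PreservesGE (R G) := fun X n hX => by
  haveI := hX
  obtain ⟨K, hK, ⟨e⟩⟩ := exists_iso_Q_obj_of_isGE X n
  haveI := hK
  obtain ⟨I, s, hs, hI, hIn⟩ := CochainComplex.Plus.modelCategoryQuillen.exists_quasiIso_injective K n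
  haveI := hIn
  haveI : I.IsKInjective := CochainComplex.isKInjective_of_injective I n
  haveI := isIso_unit_of_isKInjective I
  let i : (R G).obj X ≅ DerivedCategory.Q.obj ((G.mapHomologicalComplex (ComplexShape.up ℤ)).obj I) :=
    (R G).mapIso (e ≪≫ @asIso _ _ _ _ (DerivedCategory.Q.map s)
      ((DerivedCategory.isIso_Q_map_iff_quasiIso _ s).2 hs)) ≪≫
    (DerivedCategory.Qh.mapIso ((G.mapHomotopyCategory (ComplexShape.up ℤ)).mapIso
      (asIso ((resAdj B).unit.app ((HomotopyCategory.quotient B (ComplexShape.up ℤ)).obj I))).symm))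
  have : CochainComplex.IsStrictlyGE ((G.mapHomologicalComplex (ComplexShape.up ℤ)).obj I) n :=
    (CochainComplex.isStrictlyGE_iff _ _).2 fun j hj =>
      G.map_isZero (CochainComplex.isZero_of_isStrictlyGE I n j hj)
  exact TStructure.t.isGE_of_iso i.symm n

/-- `RG` of a bounded below object with cohomology in `P` has cohomology in `Q`. -/
theorem cohIn (P : ObjectProperty B) [WSerre.IsWeakSerre P] (Q : ObjectProperty A)
    [WSerre.IsWeakSerre Q] (h : ∀ M, P M → ∀ p : ℕ, Q ((G.rightDerived p).obj M))
    (X : DerivedCategory B) (n₀ : ℤ) (hX : X.IsGE n₀) (hP : WSerre.cohIn P X) :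
    WSerre.cohIn Q ((R G).obj X) := by
  refine DerCat29.CohIn.cohIn_obj P Q (R G) (preservesGE G) (fun M hM i => ?_) X n₀ hX hP
  change Q ((homologyFunctor A i).obj ((R G).obj (W M 0)))
  by_cases hi : i < 0
  · exact DerCat29.CohIn.prop_of_isZero Q
      (RightSingle.isZero_homology_R_W G M 0 i fun p hp => absurd hp (by omega))
  · obtain ⟨p, rfl⟩ := Int.eq_ofNat_of_zero_le (not_lt.1 hi)
    exact Q.prop_of_iso (((homologyFunctor A (p : ℤ)).mapIso
      (RightSingle.RWIso G (injectiveResolution M))) ≪≫ (hIso _ (p : ℤ)).symm ≪≫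
        DerCat.RFObj.mapResHomologyIso G (injectiveResolution M) p).symm (h M hM p)

end Groth.Agent.Lib.RlimTrunc.RightGE
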