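import Groth.Agent.Lib.RlimTrunc.RightPres
import Groth.Agent.Lib.DerCat.RFObj

/-!
# Cohomology of a right derived functor on objects concentrated in one degree
-/

set_option autoImplicit false
set_option linter.unusedSectionVars false

universe w w' v v₁ u u₁

open CategoryTheory CategoryTheory.Limits CategoryTheory.Pretriangulated DerivedCategory

namespace Groth.Agent.Lib.RlimTrunc.RightSingle

open Single Devissage DerivedOX.RightDerived RightPres SpecSeq.RightHom

variable {A : Type u} [Category.{v} A] [Abelian A] [HasDerivedCategory.{w} A]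
  {B : Type u₁} [Category.{v₁} B] [Abelian B] [HasDerivedCategory.{w'} B]
  [(DerivedCategory.Qh (C := B)).IsLeftAdjoint] [HasInjectiveResolutions B]
  (G : B ⥤ A) [G.Additive]

/-- `RG` on one object, by an injective resolution. -/
noncomputable def RWIso {M : B} (P : InjectiveResolution M) :
    (R G).obj (W M 0) ≅
      DerivedCategory.Q.obj ((G.mapHomologicalComplex (ComplexShape.up ℤ)).obj P.cochainComplex) :=
  haveI : P.cochainComplex.IsKInjective := CochainComplex.isKInjective_of_injective _ 0
  haveI := isIso_unit_of_isKInjective P.cochainComplex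
  (R G).mapIso (@asIso _ _ (W M 0) (DerivedCategory.Q.obj P.cochainComplex) (DerivedCategory.Q.map P.ι')
      ((DerivedCategory.isIso_Q_map_iff_quasiIso _ P.ι').2 inferInstance)) ≪≫
    (DerivedCategory.Qh.mapIso ((G.mapHomotopyCategory (ComplexShape.up ℤ)).mapIso
      (asIso ((resAdj B).unit.app
        ((HomotopyCategory.quotient B (ComplexShape.up ℤ)).obj P.cochainComplex))).symm))

/-- `H^i(RG(M[-q]))` vanishes with `R^(i-q) G M`. -/
theorem isZero_homology_R_W (M : B) (q i : ℤ)
    (h : ∀ p : ℕ, q + (p : ℤ) = i → IsZero ((G.rightDerived p).obj M)) :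
    IsZero ((homologyFunctor A i).obj ((R G).obj (W M q))) := by
  let P := injectiveResolution M
  let e : (R G).obj (W M q) ≅ ((R G).obj (W M 0))⟦-q⟧ :=
    (R G).mapIso (shiftW M (-q) q 0 (by omega)).symm ≪≫ ((R G).commShiftIso (-q)).app (W M 0)
  refine IsZero.of_iso ?_ ((homologyFunctor A i).mapIso e ≪≫
    ((homologyFunctor A 0).shiftIso (-q) i (i - q) (by omega)).app _ ≪≫
    (homologyFunctor A (i - q)).mapIso (RWIso G P) ≪≫ (hIso _ (i - q)).symm)
  rcases Int.lt_or_le (i - q) 0 with hn | hn
  · exact DerCat.RFObj.isZero_homology_mapRes G P _ hn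
  · obtain ⟨p, hp⟩ := Int.eq_ofNat_of_zero_le hn
    rw [hp]
    exact (h p (by omega)).of_iso (DerCat.RFObj.mapResHomologyIso G P p)

/-- `H^i(RG Z)` for `Z` concentrated in degree `q`. -/
theorem isZero_homology_R (Z : DerivedCategory B) (q i : ℤ) [Z.IsGE q] [Z.IsLE q]
    (h : ∀ p : ℕ, q + (p : ℤ) = i →
      IsZero ((G.rightDerived p).obj ((homologyFunctor B q).obj Z))) :
    IsZero ((homologyFunctor A i).obj ((R G).obj Z)) := by
  obtain ⟨M, ⟨e⟩⟩ := exists_iso_singleFunctor_obj_of_isGE_of_isLE Z q
  refine (isZero_homology_R_W G M q i fun p hp => ?_).of_iso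
    ((homologyFunctor A i).mapIso ((R G).mapIso e))
  exact (h p hp).of_iso ((G.rightDerived p).mapIso
    (((singleFunctorCompHomologyFunctorIso B q).app M).symm ≪≫
      ((homologyFunctor B q).mapIso e).symm))

/-- A morphism whose cone is invisible in the degrees `i`, `i - 1` of `RG` is invertible there. -/
theorem isIso_homologyMap_R (T : Triangle (DerivedCategory B))
    (hT : T ∈ distTriang (DerivedCategory B)) (i : ℤ)
    (h₀ : IsZero ((homologyFunctor A (i - 1)).obj ((R G).obj T.obj₃)))
    (h₁ : IsZero ((homologyFunctor A i).obj ((R G).obj T.obj₃))) :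
    IsIso ((homologyFunctor A i).map ((R G).map T.mor₁)) := by
  have hT' : (R G).mapTriangle.obj T ∈ distTriang (DerivedCategory A) := (R G).map_distinguished T hT
  have : Epi ((homologyFunctor A i).map ((R G).map T.mor₁)) :=
    (HomologySequence.epi_homologyMap_mor₁_iff _ hT' i).2 (h₁.eq_of_tgt _ _)
  have : Mono ((homologyFunctor A i).map ((R G).map T.mor₁)) :=
    (HomologySequence.mono_homologyMap_mor₁_iff _ hT' (i - 1) i (by omega)).2 (h₀.eq_of_src _ _)
  exact isIso_of_mono_of_epi _

end Groth.Agent.Lib.RlimTrunc.RightSingle
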