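import Groth.Agent.Lib.RlimTrunc.HomAcyclic
import Groth.Agent.Lib.RlimTrunc.RightSingle

/-!
# Degeneration: vanishing of `Ext` out of `F g` from vanishing out of `g`
-/

set_option autoImplicit false
set_option linter.unusedSectionVars false

universe w w' w'' v v₁ u u₁

open CategoryTheory CategoryTheory.Limits DerivedCategory

namespace Groth.Agent.Lib.RlimTrunc.RightVanish

open Single Devissage Tower RightPres DerivedOX.RightDerived HomAcyclic

variable {A : Type u} [Category.{v} A] [Abelian A] [HasDerivedCategory.{w} A] [HasExt.{w''} A]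
  [EnoughInjectives A]
  {B : Type u₁} [Category.{v₁} B] [Abelian B] [HasDerivedCategory.{w'} B]
  [(DerivedCategory.Qh (C := B)).IsLeftAdjoint] [HasInjectiveResolutions B]
  {F : A ⥤ B} {G : B ⥤ A} [G.Additive] (adj : F ⊣ G)

include adj in
/-- The transposition is injective on morphisms into an injective resolution. -/
theorem eq_zero_of_ξ_eq_zero {g : A} (hg : ∀ J : B, Injective J → IsAcyc g (G.obj J)) {M : B}
    (P : InjectiveResolution M) (k : ℤ)
    (w : W (F.obj g) k ⟶ DerivedCategory.Qh.obj
      ((HomotopyCategory.quotient B (ComplexShape.up ℤ)).obj P.cochainComplex))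
    (h : ξ adj w = 0) : w = 0 := by
  let qI := (HomotopyCategory.quotient B (ComplexShape.up ℤ)).obj P.cochainComplex
  let S := (HomologicalComplex.single B (ComplexShape.up ℤ) k).obj (F.obj g)
  let qS := (HomotopyCategory.quotient B (ComplexShape.up ℤ)).obj S
  haveI : P.cochainComplex.IsKInjective := CochainComplex.isKInjective_of_injective _ 0
  obtain ⟨χ, hχ⟩ := (CochainComplex.IsKInjective.Qh_map_bijective qS P.cochainComplex).2 w
  obtain ⟨ψ, rfl⟩ := (HomotopyCategory.quotient B (ComplexShape.up ℤ)).map_surjective χ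
  have hu : (resAdj B).homEquiv qS (DerivedCategory.Qh.obj qI) w =
      (HomotopyCategory.quotient B (ComplexShape.up ℤ)).map ψ ≫ (resAdj B).unit.app qI := by
    rw [← hχ, Adjunction.homEquiv_unit]
    exact ((resAdj B).unit.naturality _).symm
  haveI := isIso_unit_of_isKInjective P.cochainComplex
  have h0 : DerivedCategory.Qh.map ((HomotopyCategory.quotient A (ComplexShape.up ℤ)).map (tr adj ψ)) ≫
      DerivedCategory.Qh.map ((G.mapHomotopyCategory (ComplexShape.up ℤ)).map
        ((resAdj B).unit.app qI)) = 0 := by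
    refine Eq.trans ?_ h
    refine Eq.symm ((congrArg (fun l => DerivedCategory.Qh.map (η adj g k ≫
      (G.mapHomotopyCategory (ComplexShape.up ℤ)).map l)) hu).trans ?_)
    exact (congrArg DerivedCategory.Qh.map
      (((congrArg (η adj g k ≫ ·) ((G.mapHomotopyCategory (ComplexShape.up ℤ)).map_comp _ _)).trans
        (Category.assoc _ _ _).symm).trans (congrArg (· ≫ _) (η_map adj ψ)))).trans
          (DerivedCategory.Qh.map_comp _ _)
  have h1 : DerivedCategory.Qh.map
      ((HomotopyCategory.quotient A (ComplexShape.up ℤ)).map (tr adj ψ)) = 0 :=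
    Preadditive.IsIso.comp_right_eq_zero _ (DerivedCategory.Qh.map ((G.mapHomotopyCategory
      (ComplexShape.up ℤ)).map ((resAdj B).unit.app qI))) |>.1 h0
  have : CochainComplex.IsStrictlyGE
      ((G.mapHomologicalComplex (ComplexShape.up ℤ)).obj P.cochainComplex) 0 :=
    (CochainComplex.isStrictlyGE_iff _ _).2 fun i hi =>
      G.map_isZero (CochainComplex.isZero_of_isStrictlyGE P.cochainComplex 0 i hi)
  have h2 := quotient_map_eq_zero_of_Q g
    ((G.mapHomologicalComplex (ComplexShape.up ℤ)).obj P.cochainComplex) 0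
    (fun i => hg _ inferInstance) k (tr adj ψ) h1
  obtain ⟨H⟩ := (HomotopyCategory.quotient_map_eq_zero_iff _).1 h2
  let x : g ⟶ G.obj (P.cochainComplex.X (k - 1)) :=
    (HomologicalComplex.singleObjXSelf (ComplexShape.up ℤ) k g).inv ≫ H.hom k (k - 1)
  have hx : x ≫ G.map (P.cochainComplex.d (k - 1) k) = adj.homEquiv _ _
      ((HomologicalComplex.singleObjXSelf (ComplexShape.up ℤ) k (F.obj g)).inv ≫ ψ.f k) := by
    have hc := H.comm k
    rw [dNext_eq _ (show (ComplexShape.up ℤ).Rel k (k + 1) from rfl),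
      prevD_eq _ (show (ComplexShape.up ℤ).Rel (k - 1) k from by simp)] at hc
    have := congrArg ((HomologicalComplex.singleObjXSelf (ComplexShape.up ℤ) k g).inv ≫ ·) hc
    simp [tr_f] at this
    exact (Category.assoc _ _ _).trans this.symm
  have h3 : (HomotopyCategory.quotient B (ComplexShape.up ℤ)).map ψ = 0 := by
    refine Single.quotient_map_eq_zero ψ ((adj.homEquiv _ _).symm x) ?_
    apply (adj.homEquiv _ _).injective
    rw [adj.homEquiv_naturality_right, Equiv.apply_symm_apply, hx]
  rw [← hχ, h3]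
  exact DerivedCategory.Qh.map_zero _ _

lemma homZero_shift {Z W' : DerivedCategory B} (h : HomZero W' Z) (n : ℤ) :
    HomZero (W'⟦n⟧) (Z⟦n⟧) := fun f => by
  obtain ⟨f', rfl⟩ := (shiftFunctor (DerivedCategory B) n).map_surjective f
  rw [h f', Functor.map_zero]

include adj in
/-- Degeneration: `Ext^k(F g, M) = 0` for large `k`. -/
theorem extVanish_obj {g : A} (hg : ∀ J : B, Injective J → IsAcyc g (G.obj J)) {M : B}
    (N : ℕ) (d : ℕ) (hN : ∀ p : ℕ, N < p → IsZero ((G.rightDerived p).obj M))
    (hd : ∀ (p i : ℕ), d < i → ExtVanish g ((G.rightDerived p).obj M) i)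
    (k : ℕ) (hk : d + N < k) : ExtVanish (F.obj g) M k := by
  have h0 : HomZero (W (F.obj g) (k : ℤ)) (W M 0) := fun w => by
    let P := injectiveResolution M
    let e : W M 0 ≅ DerivedCategory.Q.obj P.cochainComplex :=
      @asIso _ _ (W M 0) (DerivedCategory.Q.obj P.cochainComplex) (DerivedCategory.Q.map P.ι')
        ((DerivedCategory.isIso_Q_map_iff_quasiIso _ P.ι').2 inferInstance)
    have hR : ξ adj w = 0 := by
      have : ((R G).obj (W M 0)).IsGE 0 := (isGE_iff _ _).2 fun i hi =>
        RightSingle.isZero_homology_R_W G M 0 i fun p hp => absurd hp (by omega)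
      refine homZero_of_forall (k + 1) 0 _ (by push_cast; ring) (fun q hq₀ hq => ?_) _
      obtain ⟨p, rfl⟩ := Int.eq_ofNat_of_zero_le hq₀
      by_cases hp : N < p
      · exact extVanish_of_isZero _ (RightSingle.isZero_homology_R_W G M 0 p
          fun p' hp' => hN p' (by omega)) _
      · exact (hd p _ (by omega)).of_iso (((homologyFunctor A (p : ℤ)).mapIso
          (RightSingle.RWIso G P)) ≪≫ (hIso _ (p : ℤ)).symm ≪≫
            DerCat.RFObj.mapResHomologyIso G P p).symm
    have hwe : w ≫ e.hom = 0 := eq_zero_of_ξ_eq_zero adj hg P k _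
      ((ξ_comp adj w e.hom).trans ((congrArg (· ≫ _) hR).trans zero_comp))
    exact (Preadditive.IsIso.comp_right_eq_zero w e.hom).1 hwe
  exact (homZero_shift h0 (k : ℤ)).of_iso (shiftW (F.obj g) (k : ℤ) 0 k (by omega)) (Iso.refl _)

end Groth.Agent.Lib.RlimTrunc.RightVanish
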