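import Groth.Agent.Lib.RlimTrunc.TruncR
import Groth.Agent.Lib.RlimTrunc.ModSheaf
import Groth.Agent.Lib.RlimTrunc.RightVanish
import Groth.Agent.Lib.RlimTrunc.RightGE
import Groth.Agent.Lib.ModSS29.TAPush
import Groth.Agent.Lib.SiteKFlat.Basic
import Groth.Prelude.Def_SiteCmp

/-!
# Truncations and the derived direct image of modules
-/

set_option autoImplicit false
set_option linter.unusedSectionVars false

universe w w' u t

open CategoryTheory CategoryTheory.Limits Opposite Abelian DerivedCategory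

namespace Groth.Agent.Lib.RlimTrunc.ModPush

open Single Devissage Main

variable {C : Type u} [SmallCategory C] {J : GrothendieckTopology C} {O_C : Sheaf J CommRingCat.{u}}
  {D : Type u} [SmallCategory D] {K : GrothendieckTopology D} {O_D : Sheaf K CommRingCat.{u}}
  (f : _root_.ModSite.RMor O_C O_D)

/-- Maps out of `f^*` of a free module are sections over the image object. -/
noncomputable def e (U : D) (M : _root_.ModSite.Mod O_C) :
    (f.pull.obj ((ModSheaf.free O_D).obj U) ⟶ M) ≃
      ((AbSheaf.free J).obj (f.fn.obj U) ⟶ _root_.ModSite.toAb M) :=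
  ((f.adj.homEquiv _ M).trans (ModSheaf.e O_D U (f.push.obj M))).trans
    (((SiteCoh.Basic.homEquiv U (_root_.ModSite.toAb (f.push.obj M))).toEquiv).trans
      (SiteCoh.Basic.homEquiv (f.fn.obj U) (_root_.ModSite.toAb M)).symm.toEquiv)

lemma e_right {U : D} {M N : _root_.ModSite.Mod O_C} (s : f.pull.obj ((ModSheaf.free O_D).obj U) ⟶ M)
    (ψ : M ⟶ N) : e f U N (s ≫ ψ) = e f U M s ≫ (SheafOfModules.toSheaf _).map ψ := by
  refine Eq.trans ?_ (SiteCoh.Basic.homEquiv_symm_comp _ _).symm
  refine congrArg (SiteCoh.Basic.homEquiv (f.fn.obj U) (_root_.ModSite.toAb N)).symm ?_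
  have h := (congrArg (ModSheaf.e O_D U (f.push.obj N)) (f.adj.homEquiv_naturality_right s ψ)).trans
    (ModSheaf.e_right O_D _ (f.push.map ψ))
  exact (congrArg (SiteCoh.Basic.homEquiv U (_root_.ModSite.toAb (f.push.obj N))) h).trans
    (SiteCoh.Basic.homEquiv_comp _ _)

lemma e_add {U : D} {M : _root_.ModSite.Mod O_C}
    (s t : f.pull.obj ((ModSheaf.free O_D).obj U) ⟶ M) : e f U M (s + t) = e f U M s + e f U M t := by
  have h : f.adj.homEquiv _ M (s + t) = f.adj.homEquiv _ M s + f.adj.homEquiv _ M t := by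
    simp [Adjunction.homEquiv_unit]
  change (SiteCoh.Basic.homEquiv (f.fn.obj U) (_root_.ModSite.toAb M)).symm
      (SiteCoh.Basic.homEquiv U (_root_.ModSite.toAb (f.push.obj M))
        (ModSheaf.e O_D U (f.push.obj M) (f.adj.homEquiv _ M (s + t)))) = _
  rw [h, ModSheaf.e_add O_D, map_add]
  exact map_add (SiteCoh.Basic.homEquiv (f.fn.obj U) (_root_.ModSite.toAb M)).symm _ _

/-- Maps out of `f^*` of a free module agree with maps out of a free abelian sheaf. -/
noncomputable def homIso (U : D) :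
    SheafOfModules.toSheaf (_root_.ModSite.ringSh O_C) ⋙
      SpecSeq.HomExt.homFunctor ((AbSheaf.free J).obj (f.fn.obj U)) ≅
        SpecSeq.HomExt.homFunctor (f.pull.obj ((ModSheaf.free O_D).obj U)) :=
  (NatIso.ofComponents (fun M => (AddEquiv.mk' (e f U M) (fun s t => e_add f s t)).toAddCommGrpIso)
    fun {M N} ψ => by
      ext s
      exact e_right f s ψ).symm

/-- Vanishing of cohomology over `u U` gives vanishing of `Ext` out of `f^*` of the free module. -/
theorem subsingleton_ext_of_subsingleton_hu (U : D) (M : _root_.ModSite.Mod O_C) (k : ℕ)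
    (h : Subsingleton (_root_.ModSite.HU O_C M k (f.fn.obj U))) :
    Subsingleton (Ext (f.pull.obj ((ModSheaf.free O_D).obj U)) M k) := by
  obtain ⟨eqv⟩ := ModSS29.ExtCompare.nonempty_extEquiv (SheafOfModules.toSheaf _)
    (f.pull.obj ((ModSheaf.free O_D).obj U)) ((AbSheaf.free J).obj (f.fn.obj U)) (homIso f U)
    (fun I _ p => SiteCoh.FreeSheaf.subsingleton_hu_of_isTotallyAcyclic
      (ModSS29.TA.ta_injective O_C I) (f.fn.obj U) p) k M
  exact @Equiv.subsingleton _ _ eqv.toEquiv h

/-- Vanishing of cohomology over `u U` gives vanishing of `Ext` out of `f^*`, in the derived category. -/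
theorem extVanish_of_subsingleton_hu [HasDerivedCategory.{w} (_root_.ModSite.Mod O_C)] (U : D)
    (M : _root_.ModSite.Mod O_C) (k : ℕ)
    (h : Subsingleton (_root_.ModSite.HU O_C M k (f.fn.obj U))) :
    ExtVanish (f.pull.obj ((ModSheaf.free O_D).obj U)) M k :=
  extVanish_of_subsingleton (subsingleton_ext_of_subsingleton_hu f U M k h)

attribute [local instance] DerivedOX.Exists.isLeftAdjoint_Qh HasDerivedCategory.standard

variable [HasInjectiveResolutions (_root_.ModSite.Mod O_C)] [SiteCmp.HasRpushD f]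
  (P : ObjectProperty (_root_.ModSite.Mod O_C))
  (hC : CofinalGood.{u, u, u} J fun Y (d : ℕ) => ∀ M, P M → ∀ k : ℕ, d < k →
    Subsingleton (_root_.ModSite.HU O_C M k Y))
  (N : ℤ) (hN : ∀ M, P M → ∀ p : ℕ, N < (p : ℤ) → IsZero ((f.Rpush p).obj M))
  (X : DerivedCategory (_root_.ModSite.Mod O_C)) (hX : WSerre.cohIn P X)

include hC hN hX in
/-- The truncation statement from `Ext` vanishing out of the test objects. -/
theorem isIso_homologyMap_rpushD'
    (hC' : CofinalGood.{u, u, t} K fun Y (d : ℕ) => ∀ M, P M → ∀ k : ℕ, d < k →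
      ExtVanish (f.pull.obj ((ModSheaf.free O_D).obj Y)) M k)
    (n : ℕ) (j : ℤ) (hj : N - (n : ℤ) ≤ j) :
    IsIso ((homologyFunctor (_root_.ModSite.Mod O_D) j).map
      ((SiteCmp.RpushD f).map (CohCx.toTruncTower X n))) := by
  have h := TruncR.isIso_homologyMap_R_toTruncTower P (ModSheaf.isDetecting O_C)
    (ModSheaf.isDetecting O_D) f.adj
    (hC.imp id fun Y d hd M hM k hk => ModSheaf.extVanish_of_subsingleton_hu O_C Y M k (hd M hM k hk))
    hC' N hN X hX n j hj
  exact (NatIso.isIso_map_iff (Functor.isoWhiskerRight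
    (DerivedOX.RightDerived.totalRightDerivedIso (SiteCmp.pushKh f))
      (homologyFunctor (_root_.ModSite.Mod O_D) j)) _).1 h

include hC hN hX in
/-- `H^j(Rf_* X) = H^j(Rf_* τ_{≥ -n} X)` for `j ≥ N - n`. -/
theorem isIso_homologyMap_rpushD
    (hC' : CofinalGood.{u, u, t} K fun Y (d : ℕ) => ∀ M, P M → ∀ k : ℕ, d < k →
      Subsingleton (_root_.ModSite.HU O_C M k (f.fn.obj Y)))
    (n : ℕ) (j : ℤ) (hj : N - (n : ℤ) ≤ j) :
    IsIso ((homologyFunctor (_root_.ModSite.Mod O_D) j).map
      ((SiteCmp.RpushD f).map (CohCx.toTruncTower X n))) :=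
  isIso_homologyMap_rpushD' f P hC N hN X hX
    (hC'.imp id fun Y d hd M hM k hk => extVanish_of_subsingleton_hu f Y M k (hd M hM k hk)) n j hj

include hX in
/-- Cohomology in the target class from the truncation statement. -/
theorem cohIn_of_isIso [WSerre.IsWeakSerre P]
    (P' : ObjectProperty (_root_.ModSite.Mod O_D)) [WSerre.IsWeakSerre P']
    (h3 : ∀ M, P M → ∀ p : ℕ, P' ((f.Rpush p).obj M))
    (hii : ∀ (n : ℕ) (j : ℤ), N - (n : ℤ) ≤ j →
      IsIso ((homologyFunctor (_root_.ModSite.Mod O_D) j).map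
        ((SiteCmp.RpushD f).map (CohCx.toTruncTower X n)))) :
    WSerre.cohIn P' ((SiteCmp.RpushD f).obj X) := fun j => by
  have h := hii (N - j).toNat j (by omega)
  refine P'.prop_of_iso (@asIso _ _ _ _ _ h).symm ?_
  refine P'.prop_of_iso ((homologyFunctor (_root_.ModSite.Mod O_D) j).mapIso
    ((DerivedOX.RightDerived.totalRightDerivedIso (SiteCmp.pushKh f)).app _)) ?_
  exact RightGE.cohIn f.push P P' h3 _ (-((N - j).toNat : ℤ))
    (inferInstance : TStructure.t.IsGE ((TStructure.t.truncGE (-((N - j).toNat : ℤ))).obj X)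
      (-((N - j).toNat : ℤ)))
    (DerCat29.CohIn.cohIn_truncGE P hX _) j

include hC hN hX in
/-- Both parts with vanishing on the target class. -/
theorem cohIn_and_isIso_homologyMap_rpushD [WSerre.IsWeakSerre P]
    (P' : ObjectProperty (_root_.ModSite.Mod O_D)) [WSerre.IsWeakSerre P']
    (hC' : CofinalGood.{u, u, t} K fun Y (d : ℕ) => ∀ M, P' M → ∀ k : ℕ, d < k →
      Subsingleton (_root_.ModSite.HU O_D M k Y))
    (h3 : ∀ M, P M → ∀ p : ℕ, P' ((f.Rpush p).obj M)) :
    WSerre.cohIn P' ((SiteCmp.RpushD f).obj X) ∧ ∀ (n : ℕ) (j : ℤ), N - (n : ℤ) ≤ j →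
      IsIso ((homologyFunctor (_root_.ModSite.Mod O_D) j).map
        ((SiteCmp.RpushD f).map (CohCx.toTruncTower X n))) := by
  have hacyc : ∀ (Y : D) (I : _root_.ModSite.Mod O_C), Injective I →
      HomAcyclic.IsAcyc ((ModSheaf.free O_D).obj Y) (f.push.obj I) := fun Y I hI p =>
    ModSheaf.subsingleton_ext_of_subsingleton_hu O_D Y (f.push.obj I) (p + 1)
      (SiteCoh.FreeSheaf.subsingleton_hu_of_isTotallyAcyclic
        (ModSS29.TAPush.ta_push f I (haveI := hI; ModSS29.TA.ta_injective O_C I)) Y p)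
  have hii := isIso_homologyMap_rpushD' f P hC N hN X hX
    (hC'.imp (fun d => d + N.toNat) fun Y d hd M hM k hk =>
      RightVanish.extVanish_obj f.adj (hacyc Y) N.toNat d (fun p hp => hN M hM p (by omega))
        (fun p i hi => ModSheaf.extVanish_of_subsingleton_hu O_D Y _ i (hd _ (h3 M hM p) i hi)) k hk)
  exact ⟨cohIn_of_isIso f P N X hX P' h3 hii, hii⟩

end Groth.Agent.Lib.RlimTrunc.ModPush
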