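import Mathlib.Algebra.Homology.DerivedCategory.Fractions
import Mathlib.Algebra.Homology.SingleHomology

/-!
# Morphisms out of an object placed in one degree, up to refining it

For `g : A` and `m : ℤ`, `θ : (W g m ⟶ L) → (g ⟶ H^m L)` is surjective and injective after lifting along
suitable epimorphisms.
-/

set_option autoImplicit false

universe w v u

open CategoryTheory CategoryTheory.Limits

namespace Groth.Agent.Lib.RlimTrunc.Single

variable {A : Type u} [Category.{v} A] [Abelian A]

/-- The cycle of a morphism out of a one term complex. -/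
lemma inv_homologyMap {K : CochainComplex A ℤ} {g : A} (m : ℤ)
    (φ : (HomologicalComplex.single A (ComplexShape.up ℤ) m).obj g ⟶ K) (k : ℤ) (hk : m + 1 = k)
    (h : ((HomologicalComplex.singleObjXSelf (ComplexShape.up ℤ) m g).inv ≫ φ.f m) ≫ K.d m k = 0) :
    (HomologicalComplex.singleObjHomologySelfIso (ComplexShape.up ℤ) m g).inv ≫
      HomologicalComplex.homologyMap φ m =
    K.liftCycles _ k (ComplexShape.next_eq' _ hk) h ≫ K.homologyπ m := by
  rw [show (HomologicalComplex.singleObjHomologySelfIso (ComplexShape.up ℤ) m g).inv =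
      (HomologicalComplex.singleObjCyclesSelfIso (ComplexShape.up ℤ) m g).inv ≫
        HomologicalComplex.homologyπ _ m from rfl, Category.assoc,
    HomologicalComplex.homologyπ_naturality, ← Category.assoc]
  congr 1
  rw [← cancel_mono (K.iCycles m), Category.assoc, HomologicalComplex.cyclesMap_i,
    HomologicalComplex.liftCycles_i, ← Category.assoc,
    HomologicalComplex.singleObjCyclesSelfIso_inv_iCycles]

variable [HasDerivedCategory.{w} A]

/-- `g` placed in degree `m`. -/
noncomputable abbrev W (g : A) (m : ℤ) : DerivedCategory A :=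
  DerivedCategory.Q.obj ((HomologicalComplex.single A (ComplexShape.up ℤ) m).obj g)

/-- The map of one term objects induced by a morphism. -/
noncomputable abbrev Wmap {g g' : A} (h : g' ⟶ g) (m : ℤ) : W g' m ⟶ W g m :=
  DerivedCategory.Q.map ((HomologicalComplex.single A (ComplexShape.up ℤ) m).map h)

/-- The map on cohomology of a morphism out of `W g m`. -/
noncomputable def θ {g : A} {m : ℤ} {L : DerivedCategory A} (f : W g m ⟶ L) :
    g ⟶ (DerivedCategory.homologyFunctor A m).obj L :=
  (HomologicalComplex.singleObjHomologySelfIso (ComplexShape.up ℤ) m g).inv ≫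
    (DerivedCategory.homologyFunctorFactors A m).inv.app _ ≫
      (DerivedCategory.homologyFunctor A m).map f

lemma θ_comp {g : A} {m : ℤ} {L L' : DerivedCategory A} (f : W g m ⟶ L) (ψ : L ⟶ L') :
    θ (f ≫ ψ) = θ f ≫ (DerivedCategory.homologyFunctor A m).map ψ := by
  simp [θ]

lemma θ_zero {g : A} {m : ℤ} {L : DerivedCategory A} : θ (0 : W g m ⟶ L) = 0 := by
  rw [θ, Functor.map_zero, comp_zero, comp_zero]

lemma θ_map {g : A} {m : ℤ} {K : CochainComplex A ℤ}
    (φ : (HomologicalComplex.single A (ComplexShape.up ℤ) m).obj g ⟶ K) :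
    θ (DerivedCategory.Q.map φ) =
      ((HomologicalComplex.singleObjHomologySelfIso (ComplexShape.up ℤ) m g).inv ≫
        HomologicalComplex.homologyMap φ m) ≫
        (DerivedCategory.homologyFunctorFactors A m).inv.app K := by
  rw [θ, Category.assoc]
  exact congrArg (_ ≫ ·) ((DerivedCategory.homologyFunctorFactors A m).inv.naturality φ).symm

lemma θ_Wmap {g g' : A} (h : g' ⟶ g) {m : ℤ} {L : DerivedCategory A} (f : W g m ⟶ L) :
    θ (Wmap h m ≫ f) = h ≫ θ f := by
  rw [θ_comp, θ_map, HomologicalComplex.singleObjHomologySelfIso_inv_naturality, θ]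
  simp only [Category.assoc]

/-- The comparison of the homology of a complex with that of its image. -/
noncomputable def hIso (K : CochainComplex A ℤ) (m : ℤ) :
    K.homology m ≅ (DerivedCategory.homologyFunctor A m).obj (DerivedCategory.Q.obj K) :=
  ((DerivedCategory.homologyFunctorFactors A m).app K).symm

lemma θ_map' {g : A} {m : ℤ} {K : CochainComplex A ℤ}
    (φ : (HomologicalComplex.single A (ComplexShape.up ℤ) m).obj g ⟶ K) (k : ℤ) (hk : m + 1 = k)
    (h : ((HomologicalComplex.singleObjXSelf (ComplexShape.up ℤ) m g).inv ≫ φ.f m) ≫ K.d m k = 0) :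
    θ (DerivedCategory.Q.map φ) =
      (K.liftCycles _ k (ComplexShape.next_eq' _ hk) h ≫ K.homologyπ m) ≫ (hIso K m).hom := by
  rw [θ_map, inv_homologyMap m φ k hk h]
  rfl

/-- The map `cycles ⟶ H^m` of a complex, in the derived category. -/
noncomputable def cycπ (K : CochainComplex A ℤ) (m : ℤ) :
    K.cycles m ⟶ (DerivedCategory.homologyFunctor A m).obj (DerivedCategory.Q.obj K) :=
  K.homologyπ m ≫ (hIso K m).hom

instance epi_cycπ (K : CochainComplex A ℤ) (m : ℤ) : Epi (cycπ K m) := epi_comp _ _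

/-- The chain map of a cycle. -/
noncomputable abbrev ofCycle {K : CochainComplex A ℤ} {g : A} {m : ℤ} (x : g ⟶ K.cycles m) :
    (HomologicalComplex.single A (ComplexShape.up ℤ) m).obj g ⟶ K :=
  HomologicalComplex.mkHomFromSingle (x ≫ K.iCycles m) (fun k _ => by simp)

lemma θ_ofCycle {K : CochainComplex A ℤ} {g : A} {m : ℤ} (x : g ⟶ K.cycles m) :
    θ (DerivedCategory.Q.map (ofCycle x)) = x ≫ cycπ K m := by
  have hφ : (HomologicalComplex.singleObjXSelf (ComplexShape.up ℤ) m g).inv ≫ (ofCycle x).f m =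
      x ≫ K.iCycles m := by
    rw [HomologicalComplex.mkHomFromSingle_f, Iso.inv_hom_id_assoc]
  have hlift : ∀ h', K.liftCycles ((HomologicalComplex.singleObjXSelf (ComplexShape.up ℤ) m g).inv ≫
      (ofCycle x).f m) (m + 1) (ComplexShape.next_eq' _ rfl) h' = x := fun h' => by
    rw [← cancel_mono (K.iCycles m), HomologicalComplex.liftCycles_i, hφ]
  rw [θ_map' (ofCycle x) (m + 1) rfl (by rw [hφ]; simp), hlift, cycπ, Category.assoc]

/-- Classes lift to morphisms after lifting along an epimorphism onto `H^m`. -/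
lemma exists_lift (L : DerivedCategory A) (m : ℤ) :
    ∃ (N : A) (π : N ⟶ (DerivedCategory.homologyFunctor A m).obj L), Epi π ∧
      ∀ {g : A} (x : g ⟶ N), ∃ w : W g m ⟶ L, θ w = x ≫ π := by
  let K := DerivedCategory.Q.objPreimage L
  let e := DerivedCategory.Q.objObjPreimageIso L
  refine ⟨K.cycles m, cycπ K m ≫ (DerivedCategory.homologyFunctor A m).map e.hom, epi_comp _ _,
    fun {g} x => ⟨DerivedCategory.Q.map (ofCycle x) ≫ e.hom, ?_⟩⟩
  rw [θ_comp, θ_ofCycle, Category.assoc]

/-- A chain map with zero class is a boundary after lifting along a suitable epimorphism. -/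
lemma exists_boundary {g : A} {m : ℤ} {K : CochainComplex A ℤ}
    (φ : (HomologicalComplex.single A (ComplexShape.up ℤ) m).obj g ⟶ K)
    (hφ : θ (DerivedCategory.Q.map φ) = 0) :
    ∃ (M : A) (p : K.X (m - 1) ⟶ M) (z : g ⟶ M), Epi p ∧
      ∀ {g' : A} (h : g' ⟶ g) (x : g' ⟶ K.X (m - 1)), x ≫ p = h ≫ z →
        x ≫ K.d (m - 1) m =
          h ≫ (HomologicalComplex.singleObjXSelf (ComplexShape.up ℤ) m g).inv ≫ φ.f m := by
  have hsing : ∀ k, ((HomologicalComplex.singleObjXSelf (ComplexShape.up ℤ) m g).inv ≫ φ.f m) ≫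
      K.d m k = 0 := fun k => by simp
  let c := K.liftCycles _ (m + 1) (ComplexShape.next_eq' _ rfl) (hsing (m + 1))
  have hc : c ≫ K.homologyπ m = 0 := by
    rw [θ_map' φ (m + 1) rfl (hsing _)] at hφ
    exact (cancel_mono (hIso K m).hom).1 (hφ.trans zero_comp.symm)
  have hex : (ShortComplex.mk (K.toCycles (m - 1) m) (K.homologyπ m)
      (K.toCycles_comp_homologyπ (m - 1) m)).Exact :=
    ShortComplex.exact_of_g_is_cokernel _ (K.homologyIsCokernel (m - 1) m (by simp))
  refine ⟨kernel (K.homologyπ m), kernel.lift _ (K.toCycles (m - 1) m)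
      (K.toCycles_comp_homologyπ (m - 1) m), kernel.lift _ c hc,
    (ShortComplex.exact_iff_epi_kernel_lift _).1 hex, fun {g'} h x hx => ?_⟩
  have := congrArg (fun k => k ≫ kernel.ι (K.homologyπ m) ≫ K.iCycles m) hx
  simpa [c] using this

/-- A boundary is null homotopic. -/
lemma quotient_map_eq_zero {g : A} {m : ℤ} {K : CochainComplex A ℤ}
    (φ : (HomologicalComplex.single A (ComplexShape.up ℤ) m).obj g ⟶ K) (x : g ⟶ K.X (m - 1))
    (hx : x ≫ K.d (m - 1) m =
      (HomologicalComplex.singleObjXSelf (ComplexShape.up ℤ) m g).inv ≫ φ.f m) :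
    (HomotopyCategory.quotient A (ComplexShape.up ℤ)).map φ = 0 := by
  let S := (HomologicalComplex.single A (ComplexShape.up ℤ) m).obj g
  let hh : ∀ i j, (ComplexShape.up ℤ).Rel j i → (S.X i ⟶ K.X j) := fun i j hij =>
    if hi : i = m then (HomologicalComplex.singleObjXIsoOfEq (ComplexShape.up ℤ) m g i hi).hom ≫ x ≫
      (K.XIsoOfEq (show m - 1 = j by
        have : j + 1 = i := hij
        omega)).hom
    else 0
  have key : φ = Homotopy.nullHomotopicMap' hh := by
    apply HomologicalComplex.from_single_hom_ext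
    rw [Homotopy.nullHomotopicMap'_f (k₂ := m - 1) (k₁ := m) (k₀ := m + 1)
      (show m - 1 + 1 = m by omega) rfl]
    have : φ.f m = (HomologicalComplex.singleObjXSelf (ComplexShape.up ℤ) m g).hom ≫ x ≫
        K.d (m - 1) m := by rw [hx, Iso.hom_inv_id_assoc]
    simp [hh, this, S]
    rfl
  rw [key, HomotopyCategory.quotient_map_eq_zero_iff]
  exact ⟨Homotopy.nullHomotopy' hh⟩

/-- A morphism with zero class vanishes after lifting along a suitable epimorphism. -/
lemma exists_null {g : A} {m : ℤ} {L : DerivedCategory A} (f : W g m ⟶ L) (hf : θ f = 0) :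
    ∃ (N M : A) (p : N ⟶ M) (z : g ⟶ M), Epi p ∧
      ∀ {g' : A} (h : g' ⟶ g) (x : g' ⟶ N), x ≫ p = h ≫ z → Wmap h m ≫ f = 0 := by
  let K := DerivedCategory.Q.objPreimage L
  let e := DerivedCategory.Q.objObjPreimageIso L
  obtain ⟨K', φ, s, hs, hfac⟩ := DerivedCategory.left_fac (f ≫ e.inv)
  have hθ : θ (DerivedCategory.Q.map φ) = 0 := by
    have : DerivedCategory.Q.map φ = (f ≫ e.inv) ≫ DerivedCategory.Q.map s := by
      rw [hfac, Category.assoc, IsIso.inv_hom_id, Category.comp_id]
    rw [this, θ_comp, θ_comp, hf, zero_comp, zero_comp]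
  obtain ⟨M, p, z, hp, hb⟩ := exists_boundary φ hθ
  refine ⟨_, M, p, z, hp, fun {g'} h x hx => ?_⟩
  have h0 : (HomotopyCategory.quotient A (ComplexShape.up ℤ)).map
      ((HomologicalComplex.single A (ComplexShape.up ℤ) m).map h ≫ φ) = 0 :=
    quotient_map_eq_zero _ x ((hb h x hx).trans (by
      simp [HomologicalComplex.single_map_f_self]))
  have h1 : DerivedCategory.Q.map ((HomologicalComplex.single A (ComplexShape.up ℤ) m).map h ≫ φ)
      = 0 := by
    obtain ⟨H⟩ := (HomotopyCategory.quotient_map_eq_zero_iff _).1 h0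
    rw [DerivedCategory.Q_map_eq_of_homotopy A H, Functor.map_zero]
  rw [← cancel_mono e.inv, zero_comp, Category.assoc, hfac, ← Category.assoc]
  rw [← Functor.map_comp, h1, zero_comp]

end Groth.Agent.Lib.RlimTrunc.Single
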