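import Groth.Agent.Lib.RlimTrunc.Main
import Groth.Agent.Lib.SpecSeq.RightHom

/-!
# Local presentation of the cohomology of a right derived functor

For `F ⊣ G` the objects `F (free Y)` placed in one degree are test objects for `H^m ∘ RG`.
-/

set_option autoImplicit false
set_option linter.unusedSectionVars false

universe w w' v v₁ v' u u₁ u'

open CategoryTheory CategoryTheory.Limits DerivedCategory

namespace Groth.Agent.Lib.RlimTrunc.RightPres

open Single Main DerivedOX.RightDerived

variable {A : Type u} [Category.{v} A] [Abelian A] [HasDerivedCategory.{w} A]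
  {B : Type u₁} [Category.{v₁} B] [Abelian B] [HasDerivedCategory.{w'} B]
  [(DerivedCategory.Qh (C := B)).IsLeftAdjoint]
  {F : A ⥤ B} {G : B ⥤ A} [G.Additive] (adj : F ⊣ G)

/-- The right derived functor of `G` computed by K-injective resolutions. -/
noncomputable abbrev R (G : B ⥤ A) [G.Additive] : DerivedCategory B ⥤ DerivedCategory A :=
  resFunctor B ⋙ G.mapHomotopyCategory (ComplexShape.up ℤ) ⋙ DerivedCategory.Qh

/-- A chain map out of `F g` corresponds to one out of `g`. -/
noncomputable def tr {g : A} {m : ℤ} {I : CochainComplex B ℤ}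
    (ψ : (HomologicalComplex.single B (ComplexShape.up ℤ) m).obj (F.obj g) ⟶ I) :
    (HomologicalComplex.single A (ComplexShape.up ℤ) m).obj g ⟶
      (G.mapHomologicalComplex (ComplexShape.up ℤ)).obj I :=
  HomologicalComplex.mkHomFromSingle (adj.homEquiv _ _
    ((HomologicalComplex.singleObjXSelf (ComplexShape.up ℤ) m (F.obj g)).inv ≫ ψ.f m)) fun k _ => by
      change adj.homEquiv _ _ _ ≫ G.map (I.d m k) = 0
      rw [← Adjunction.homEquiv_naturality_right, Category.assoc, ψ.comm]
      simp [adj.homEquiv_unit]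

lemma tr_f {g : A} {m : ℤ} {I : CochainComplex B ℤ}
    (ψ : (HomologicalComplex.single B (ComplexShape.up ℤ) m).obj (F.obj g) ⟶ I) :
    (tr adj ψ).f m = (HomologicalComplex.singleObjXSelf (ComplexShape.up ℤ) m g).hom ≫
      adj.homEquiv _ _
        ((HomologicalComplex.singleObjXSelf (ComplexShape.up ℤ) m (F.obj g)).inv ≫ ψ.f m) :=
  HomologicalComplex.mkHomFromSingle_f _ _

lemma tr_comp {g : A} {m : ℤ} {I I' : CochainComplex B ℤ}
    (ψ : (HomologicalComplex.single B (ComplexShape.up ℤ) m).obj (F.obj g) ⟶ I) (χ : I ⟶ I') :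
    tr adj (ψ ≫ χ) = tr adj ψ ≫ (G.mapHomologicalComplex (ComplexShape.up ℤ)).map χ := by
  apply HomologicalComplex.from_single_hom_ext
  refine (tr_f adj _).trans (Eq.trans ?_
    ((congrArg (· ≫ G.map (χ.f m)) (tr_f adj ψ).symm)))
  rw [HomologicalComplex.comp_f, ← Category.assoc (HomologicalComplex.singleObjXSelf _ _ _).inv,
    adj.homEquiv_naturality_right]
  exact (Category.assoc _ _ _).symm

lemma tr_single {g g' : A} (h : g' ⟶ g) {m : ℤ} {I : CochainComplex B ℤ}
    (ψ : (HomologicalComplex.single B (ComplexShape.up ℤ) m).obj (F.obj g) ⟶ I) :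
    tr adj ((HomologicalComplex.single B (ComplexShape.up ℤ) m).map (F.map h) ≫ ψ) =
      (HomologicalComplex.single A (ComplexShape.up ℤ) m).map h ≫ tr adj ψ := by
  apply HomologicalComplex.from_single_hom_ext
  rw [tr_f, HomologicalComplex.comp_f, HomologicalComplex.comp_f, tr_f,
    HomologicalComplex.single_map_f_self, HomologicalComplex.single_map_f_self]
  simp only [Category.assoc, Iso.inv_hom_id_assoc, adj.homEquiv_naturality_left]
  erw [Iso.inv_hom_id_assoc]
  rfl

/-- The unit, transposed to the homotopy category. -/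
noncomputable def η (g : A) (m : ℤ) :
    (HomotopyCategory.quotient A (ComplexShape.up ℤ)).obj
        ((HomologicalComplex.single A (ComplexShape.up ℤ) m).obj g) ⟶
      (G.mapHomotopyCategory (ComplexShape.up ℤ)).obj ((HomotopyCategory.quotient B (ComplexShape.up ℤ)).obj
        ((HomologicalComplex.single B (ComplexShape.up ℤ) m).obj (F.obj g))) :=
  (HomotopyCategory.quotient A (ComplexShape.up ℤ)).map (tr adj (𝟙 _))

lemma η_map {g : A} {m : ℤ} {I : CochainComplex B ℤ}
    (ψ : (HomologicalComplex.single B (ComplexShape.up ℤ) m).obj (F.obj g) ⟶ I) :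
    η adj g m ≫ (G.mapHomotopyCategory (ComplexShape.up ℤ)).map
        ((HomotopyCategory.quotient B (ComplexShape.up ℤ)).map ψ) =
      (HomotopyCategory.quotient A (ComplexShape.up ℤ)).map (tr adj ψ) := by
  refine ((HomotopyCategory.quotient A (ComplexShape.up ℤ)).map_comp _ _).symm.trans ?_
  exact congrArg _ ((tr_comp adj _ ψ).symm.trans (congrArg (tr adj) (Category.id_comp ψ)))

/-- The transposition of morphisms out of `F g` in one degree. -/
noncomputable def ξ {g : A} {m : ℤ} {Z : DerivedCategory B}
    (w : W (F.obj g) m ⟶ Z) : W g m ⟶ (R G).obj Z :=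
  DerivedCategory.Qh.map (η adj g m ≫ (G.mapHomotopyCategory (ComplexShape.up ℤ)).map
    ((resAdj B).homEquiv
      ((HomotopyCategory.quotient B (ComplexShape.up ℤ)).obj
        ((HomologicalComplex.single B (ComplexShape.up ℤ) m).obj (F.obj g))) Z w))

lemma ξ_comp {g : A} {m : ℤ} {Z Z' : DerivedCategory B} (w : W (F.obj g) m ⟶ Z) (χ : Z ⟶ Z') :
    ξ adj (w ≫ χ) = ξ adj w ≫ (R G).map χ := by
  refine (congrArg (fun k => DerivedCategory.Qh.map (η adj g m ≫
    (G.mapHomotopyCategory (ComplexShape.up ℤ)).map k))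
    ((resAdj B).homEquiv_naturality_right w χ)).trans ?_
  exact (congrArg DerivedCategory.Qh.map
    ((congrArg (η adj g m ≫ ·) ((G.mapHomotopyCategory (ComplexShape.up ℤ)).map_comp _ _)).trans
      (Category.assoc _ _ _).symm)).trans (DerivedCategory.Qh.map_comp _ _)

/-- Every morphism out of a one term complex into a resolution is a chain map. -/
lemma exists_chainMap {g : B} {m : ℤ} {Z : DerivedCategory B} (w : W g m ⟶ Z) :
    ∃ ψ : (HomologicalComplex.single B (ComplexShape.up ℤ) m).obj g ⟶ ((resFunctor B).obj Z).as,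
      (HomotopyCategory.quotient B (ComplexShape.up ℤ)).map ψ = (resAdj B).homEquiv
        ((HomotopyCategory.quotient B (ComplexShape.up ℤ)).obj
          ((HomologicalComplex.single B (ComplexShape.up ℤ) m).obj g)) Z w :=
  (HomotopyCategory.quotient B (ComplexShape.up ℤ)).map_surjective _

lemma ξ_eq {g : A} {m : ℤ} {Z : DerivedCategory B} (w : W (F.obj g) m ⟶ Z)
    (ψ : (HomologicalComplex.single B (ComplexShape.up ℤ) m).obj (F.obj g) ⟶
      ((resFunctor B).obj Z).as)
    (hψ : (HomotopyCategory.quotient B (ComplexShape.up ℤ)).map ψ = (resAdj B).homEquiv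
        ((HomotopyCategory.quotient B (ComplexShape.up ℤ)).obj
          ((HomologicalComplex.single B (ComplexShape.up ℤ) m).obj (F.obj g))) Z w) :
    ξ adj w = DerivedCategory.Q.map (tr adj ψ) := by
  refine (congrArg (fun k => DerivedCategory.Qh.map (η adj g m ≫
    (G.mapHomotopyCategory (ComplexShape.up ℤ)).map k)) hψ.symm).trans ?_
  exact congrArg (fun k => DerivedCategory.Qh.map k) (η_map adj ψ)

variable {C : Type u'} [Category.{v'} C] {J : GrothendieckTopology C} {free : C ⥤ A}

lemma ξ_left {g g' : A} (h : g' ⟶ g) {m : ℤ} {Z : DerivedCategory B} (w : W (F.obj g) m ⟶ Z) :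
    ξ adj (Wmap (F.map h) m ≫ w) = Wmap h m ≫ ξ adj w := by
  obtain ⟨ψ, hψ⟩ := exists_chainMap w
  rw [ξ_eq adj w ψ hψ, ξ_eq adj (Wmap (F.map h) m ≫ w)
    ((HomologicalComplex.single B (ComplexShape.up ℤ) m).map (F.map h) ≫ ψ) (by
      rw [Functor.map_comp, hψ]
      exact ((resAdj B).homEquiv_naturality_left _ w).symm), tr_single, Functor.map_comp]
  try rfl

/-- `H^m ∘ RG` is presented by the `F (free Y)` in degree `m`. -/
noncomputable def pres (hd : IsDetecting J free) (m : ℤ) :
    LocPres J free (testObj (free ⋙ F) m) (R G ⋙ homologyFunctor A m) where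
  θ w := Single.θ (ξ adj w)
  θ_comp w χ := by rw [ξ_comp, Single.θ_comp]; rfl
  θ_left f _ w := (congrArg (fun k => Single.θ k) (ξ_left adj (free.map f) w)).trans
    (θ_Wmap (free.map f) _)
  θ_zero Y L := by
    have h := ξ_comp adj (0 : W (F.obj (free.obj Y)) m ⟶ L) (0 : L ⟶ L)
    rw [comp_zero] at h
    refine (congrArg (fun k => Single.θ k) h).trans ?_
    rw [Single.θ_comp]
    change _ ≫ (homologyFunctor A m).map (DerivedCategory.Qh.map
      ((G.mapHomotopyCategory (ComplexShape.up ℤ)).map ((resFunctor B).map (0 : L ⟶ L)))) = 0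
    rw [Functor.map_zero, Functor.map_zero, Functor.map_zero, Functor.map_zero, comp_zero]
  exists_lift {U L} s := by
    let I := ((resFunctor B).obj L).as
    let GI := (G.mapHomologicalComplex (ComplexShape.up ℤ)).obj I
    obtain ⟨S, hS, hS'⟩ := hd.exists_liftSieve (cycπ GI m) inferInstance s
    refine ⟨S, hS, fun Y f hf => ?_⟩
    obtain ⟨x, hx⟩ := hS' f hf
    let c : F.obj (free.obj Y) ⟶ I.X m := (adj.homEquiv _ _).symm (x ≫ GI.iCycles m)
    have hc : ∀ k, c ≫ I.d m k = 0 := fun k => by
      apply (adj.homEquiv _ _).injective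
      rw [adj.homEquiv_naturality_right, Equiv.apply_symm_apply]
      refine ((Category.assoc _ _ _).trans ?_)
      change x ≫ GI.iCycles m ≫ GI.d m k = _
      rw [HomologicalComplex.iCycles_d, comp_zero, adj.homEquiv_unit, G.map_zero, comp_zero]
      rfl
    let ψ : (HomologicalComplex.single B (ComplexShape.up ℤ) m).obj (F.obj (free.obj Y)) ⟶ I :=
      HomologicalComplex.mkHomFromSingle c fun k _ => hc k
    have htr : tr adj ψ = ofCycle x := by
      apply HomologicalComplex.from_single_hom_ext
      rw [tr_f, HomologicalComplex.mkHomFromSingle_f, HomologicalComplex.mkHomFromSingle_f,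
        Iso.inv_hom_id_assoc, Equiv.apply_symm_apply]
      rfl
    refine ⟨((resAdj B).homEquiv _ _).symm ((HomotopyCategory.quotient B (ComplexShape.up ℤ)).map ψ),
      ?_⟩
    refine (congrArg (fun k => Single.θ k)
      ((ξ_eq adj _ ψ (Equiv.apply_symm_apply _ _).symm).trans
        (congrArg DerivedCategory.Q.map htr))).trans ?_
    exact (θ_ofCycle x).trans hx
  exists_null {U L} w hw := by
    obtain ⟨ψ, hψ⟩ := exists_chainMap w
    have hθ : Single.θ (DerivedCategory.Q.map (tr adj ψ)) = 0 :=
      (congrArg (fun k => Single.θ k) (ξ_eq adj w ψ hψ).symm).trans hw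
    obtain ⟨M, p, z, hp, hb⟩ := Single.exists_boundary _ hθ
    obtain ⟨S, hS, hS'⟩ := hd.exists_liftSieve p hp z
    refine ⟨S, hS, fun Y f hf => ?_⟩
    obtain ⟨x, hx⟩ := hS' f hf
    have hy := hb (free.map f) x hx
    rw [tr_f] at hy
    erw [Iso.inv_hom_id_assoc] at hy
    change x ≫ G.map _ = _ at hy
    let y : F.obj (free.obj Y) ⟶ ((resFunctor B).obj L).as.X (m - 1) := (adj.homEquiv _ _).symm x
    have h0 : (HomotopyCategory.quotient B (ComplexShape.up ℤ)).map
        ((HomologicalComplex.single B (ComplexShape.up ℤ) m).map (F.map (free.map f)) ≫ ψ) = 0 := by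
      refine Single.quotient_map_eq_zero _ y ?_
      rw [HomologicalComplex.comp_f, HomologicalComplex.single_map_f_self, Category.assoc,
        Category.assoc, Iso.inv_hom_id_assoc]
      apply (adj.homEquiv _ _).injective
      rw [adj.homEquiv_naturality_right, Equiv.apply_symm_apply]
      exact hy.trans (adj.homEquiv_naturality_left _ _).symm
    apply ((resAdj B).homEquiv ((HomotopyCategory.quotient B (ComplexShape.up ℤ)).obj
      ((HomologicalComplex.single B (ComplexShape.up ℤ) m).obj (F.obj (free.obj Y)))) L).injective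
    refine ((resAdj B).homEquiv_naturality_left
      ((HomotopyCategory.quotient B (ComplexShape.up ℤ)).map
        ((HomologicalComplex.single B (ComplexShape.up ℤ) m).map (F.map (free.map f)))) w).trans ?_
    refine ((congrArg ((HomotopyCategory.quotient B (ComplexShape.up ℤ)).map
      ((HomologicalComplex.single B (ComplexShape.up ℤ) m).map (F.map (free.map f))) ≫ ·)
      hψ.symm).trans ((Functor.map_comp _ _ _).symm.trans h0)).trans ?_
    exact ((((resAdj B).homEquiv_unit _ _ _).trans
      (congrArg (_ ≫ ·) ((resFunctor B).map_zero _ _))).trans comp_zero).symm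

end Groth.Agent.Lib.RlimTrunc.RightPres
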