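import Mathlib.Algebra.Category.ModuleCat.Presheaf.EpiMono
import Mathlib.Algebra.Category.ModuleCat.Presheaf.Free
import Mathlib.Algebra.Category.ModuleCat.Presheaf.Sheafification
import Mathlib.Algebra.Category.ModuleCat.Sheaf.Abelian
import Mathlib.Algebra.Category.ModuleCat.EpiMono
import Mathlib.CategoryTheory.Preadditive.Injective.Basic
import Mathlib.CategoryTheory.Functor.EpiMono
import Mathlib.Topology.Sheaves.Flasque
import Mathlib.Algebra.Category.Grp.EpiMono
import Groth.Agent.Lib.SiteMod.Basic

/-!
# Injective sheaves of modules on a space are flasque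
-/

set_option autoImplicit false

universe u

open CategoryTheory CategoryTheory.Limits TopologicalSpace Opposite

namespace Groth.Agent.Lib.RlimTrunc.ModFlasque

variable {X : TopCat.{u}} {R : Sheaf (Opens.grothendieckTopology X) RingCat.{u}}

/-- Sheafification of presheaves of modules. -/
noncomputable abbrev shP (R : Sheaf (Opens.grothendieckTopology X) RingCat.{u}) :
    PresheafOfModules.{u} R.obj ⥤ SheafOfModules.{u} R :=
  PresheafOfModules.sheafification.{u, u, u, u} (R := R) (𝟙 R.obj)

/-- The map of generators attached to an inclusion of opens. -/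
noncomputable def genMap {U V : Opens X} (h : V ≤ U) :
    (shP R).obj ((PresheafOfModules.free R.obj).obj (yoneda.obj V)) ⟶
      (shP R).obj ((PresheafOfModules.free R.obj).obj (yoneda.obj U)) :=
  (shP R).map ((PresheafOfModules.free R.obj).map (yoneda.map (homOfLE h)))

instance mono_genMap {U V : Opens X} (h : V ≤ U) : Mono (genMap (R := R) h) := by
  have : Mono ((PresheafOfModules.free R.obj).map (yoneda.map (homOfLE h))) := by
    apply PresheafOfModules.mono_of_injective
    intro W
    exact Finsupp.mapDomain_injective fun (a b : W.unop ⟶ V) _ => Subsingleton.elim a b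
  have : PreservesFiniteLimits (shP R) :=
    inferInstanceAs (PreservesFiniteLimits
      (PresheafOfModules.sheafification.{u, u, u, u} (R := R) (𝟙 R.obj)))
  exact (shP R).map_mono _

/-- An injective sheaf of modules has surjective restriction maps. -/
theorem surjective_res (I : SheafOfModules.{u} R) [Injective I] {U V : Opens X} (h : V ≤ U) :
    Function.Surjective (I.val.map (homOfLE h).op) := by
  intro s
  let adj := PresheafOfModules.sheafificationAdjunction.{u, u, u, u} (R := R) (𝟙 R.obj)
  let E : ∀ W : Opens X, ((shP R).obj ((PresheafOfModules.free R.obj).obj (yoneda.obj W)) ⟶ I) ≃ _ :=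
    fun W => (adj.homEquiv _ I).trans PresheafOfModules.freeYonedaEquiv
  let e := (E V).symm s
  let t := Injective.factorThru e (genMap h)
  refine ⟨E U t, ?_⟩
  have ht : genMap h ≫ t = e := Injective.comp_factorThru e (genMap h)
  have key : ∀ (M : PresheafOfModules.{u} R.obj) (m : (PresheafOfModules.free _).obj (yoneda.obj U) ⟶ M),
      PresheafOfModules.freeYonedaEquiv
        ((PresheafOfModules.free _).map (yoneda.map (homOfLE h)) ≫ m) =
      M.map (homOfLE h).op (PresheafOfModules.freeYonedaEquiv m) := by
    intro M m
    change m.app (op V) _ = M.map (homOfLE h).op (m.app (op U) _)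
    refine Eq.trans ?_ (PresheafOfModules.naturality_apply m (homOfLE h).op _)
    congr 1
    simp [PresheafOfModules.free, PresheafOfModules.freeObj]
    erw [ModuleCat.freeDesc_apply, ModuleCat.free_map_apply]
    exact congrArg ModuleCat.freeMk (Subsingleton.elim (α := V ⟶ U) _ _)
  have : E V (genMap h ≫ t) = I.val.map (homOfLE h).op (E U t) := by
    refine Eq.trans ?_ (key _ ((adj.homEquiv _ I) t))
    exact congrArg PresheafOfModules.freeYonedaEquiv (adj.homEquiv_naturality_left _ t)
  rw [ht] at this
  exact (((E V).apply_symm_apply s).symm.trans this).symm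

/-- An injective sheaf of modules has flasque underlying abelian sheaf. -/
theorem isFlasque_toSheaf (I : SheafOfModules.{u} R) [Injective I] :
    TopCat.Sheaf.IsFlasque ((SheafOfModules.toSheaf R).obj I) where
  epi {U V} i := (AddCommGrpCat.epi_iff_surjective _).mpr fun s =>
    surjective_res I (leOfHom i.unop) s

end Groth.Agent.Lib.RlimTrunc.ModFlasque
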