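import Groth.Agent.Lib.WayOut.Bounded

/-!
# Derived functors of additive functors on bounded objects

The iso `RS T p M ≅ (T.rightDerived p).obj M` without left exactness, and vanishing on bounded objects.
-/

set_option linter.unusedSectionVars false
set_option linter.style.haveILetI false

universe w w' v u v' u'

open CategoryTheory Category Limits Pretriangulated

namespace Groth.Agent.Lib.RlimTrunc.RightAdditive

open Groth.Agent.Lib.SpecSeq.RightHom Groth.Agent.Lib.SpecSeq.AcyclicComplex
open Groth.Agent.Lib.DerivedOX.RightDerived Groth.Agent.Lib.WayOut.Bounded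

variable {B : Type u} [Category.{v} B] [Abelian B] [HasDerivedCategory.{w} B]
  [(DerivedCategory.Qh (C := B)).IsLeftAdjoint]
  {C : Type u'} [Category.{v'} C] [Abelian C] (T : B ⥤ C) [T.Additive]

/-- Extension to `ℤ` commutes with additive functors. -/
noncomputable def mapExtendIso (L : CochainComplex B ℕ) :
    (T.mapHomologicalComplex (.up ℤ)).obj (L.extend ComplexShape.embeddingUpNat) ≅
      ((T.mapHomologicalComplex (.up ℕ)).obj L).extend ComplexShape.embeddingUpNat :=
  HomologicalComplex.Hom.isoOfComponents (fun n =>
    match n with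
    | .ofNat k => T.mapIso (L.extendXIso ComplexShape.embeddingUpNat (i := k) (by simp)) ≪≫
        (((T.mapHomologicalComplex (.up ℕ)).obj L).extendXIso ComplexShape.embeddingUpNat
          (i := k) (by simp)).symm
    | .negSucc k =>
      (T.map_isZero (L.isZero_extend_X ComplexShape.embeddingUpNat _ (fun i => by simp))).iso
        (HomologicalComplex.isZero_extend_X _ _ _ (fun i => by simp))) (by
    rintro i j rfl
    cases i with
    | negSucc k =>
      exact (T.map_isZero (L.isZero_extend_X ComplexShape.embeddingUpNat _ (fun i => by simp))).eq_of_src _ _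
    | ofNat k =>
      change (T.map (L.extendXIso ComplexShape.embeddingUpNat (i := k) (by simp)).hom ≫
          (((T.mapHomologicalComplex (.up ℕ)).obj L).extendXIso ComplexShape.embeddingUpNat (i := k) (by simp)).inv) ≫
          (((T.mapHomologicalComplex (.up ℕ)).obj L).extend ComplexShape.embeddingUpNat).d _ (Int.ofNat (k + 1)) =
        T.map ((L.extend ComplexShape.embeddingUpNat).d _ (Int.ofNat (k + 1))) ≫
          (T.map (L.extendXIso ComplexShape.embeddingUpNat (i := k + 1) (by simp)).hom ≫
          (((T.mapHomologicalComplex (.up ℕ)).obj L).extendXIso ComplexShape.embeddingUpNat (i := k + 1) (by simp)).inv)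
      rw [L.extend_d_eq ComplexShape.embeddingUpNat (i := k) (j := k + 1) (by simp) (by simp),
        HomologicalComplex.extend_d_eq _ ComplexShape.embeddingUpNat (i := k) (j := k + 1) (by simp) (by simp)]
      refine (Category.assoc _ _ _).trans ((congrArg _ (Iso.inv_hom_id_assoc _ _)).trans ?_)
      refine Eq.trans ?_ (Category.assoc _ _ _)
      refine Eq.trans ?_ (congrArg (· ≫ _) (T.map_comp _ _))
      rw [Category.assoc, Category.assoc, Iso.inv_hom_id, Category.comp_id, T.map_comp]
      exact (Category.assoc _ _ _).symm)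

/-- `RH` of an object is its right derived functor. -/
noncomputable def rightDerivedIso [HasInjectiveResolutions B] (p : ℕ) (M : B) :
    RS T p M ≅ (T.rightDerived p).obj M :=
  let R := injectiveResolution M
  have := isKInjective_of_isStrictlyGE R.cochainComplex 0 inferInstance
  have := isIso_cmp_of_isKInjective T p R.cochainComplex
  have : IsIso (DerivedCategory.Q.map R.ι') :=
    (DerivedCategory.isIso_Q_map_iff_quasiIso _ R.ι').2 inferInstance
  (RH T p).mapIso ((DerivedCategory.singleFunctorIsoCompQ B 0).app M ≪≫
    asIso (DerivedCategory.Q.map R.ι')) ≪≫ (asIso ((cmp T p).app R.cochainComplex)).symm ≪≫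
    (HomologicalComplex.homologyFunctor C (.up ℤ) p).mapIso (mapExtendIso T R.cocomplex) ≪≫
    ((T.mapHomologicalComplex (.up ℕ)).obj R.cocomplex).extendHomologyIso ComplexShape.embeddingUpNat
      (j := p) (by simp) ≪≫
    (R.isoRightDerivedObj T p).symm

variable {T}

/-- Bounded objects: derived functors vanish outside the range. -/
theorem isZero_RH [EnoughInjectives B] [HasInjectiveResolutions B] {P : ObjectProperty B}
    [P.IsClosedUnderIsomorphisms] [P.ContainsZero] {N : ℕ}
    (hT : ∀ M, P M → ∀ p : ℕ, N ≤ p → IsZero ((T.rightDerived p).obj M))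
    (Y : DerivedCategory B) (hY : HasP P Y) (a b : ℤ) [Y.IsGE a] [Y.IsLE b] (n : ℤ)
    (hn : n < a ∨ b + N ≤ n) : IsZero ((RH T n).obj Y) := by
  rcases hn with hn | hn
  · exact isZero_RH_of_isGE T Y a n hn
  · refine isZero_RH_of_bounded (P := P) (N := (N : ℤ)) (fun M hM m hm => ?_) Y hY a b n hn
    obtain ⟨p, rfl⟩ := Int.eq_ofNat_of_zero_le (show (0 : ℤ) ≤ m by lia)
    exact (hT M hM p (by exact_mod_cast hm)).of_iso (rightDerivedIso T p M)

variable (T) [HasDerivedCategory.{w'} C]
  [(T.mapHomotopyCategory (.up ℤ) ⋙ DerivedCategory.Qh).HasRightDerivedFunctor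
    (HomotopyCategory.quasiIso B (.up ℤ))]

/-- Cohomology of the total right derived functor. -/
noncomputable def homologyTotalIso (n : ℤ) :
    (T.mapHomotopyCategory (.up ℤ) ⋙ DerivedCategory.Qh).totalRightDerived DerivedCategory.Qh
        (HomotopyCategory.quasiIso B (.up ℤ)) ⋙ DerivedCategory.homologyFunctor C n ≅ RH T n :=
  Functor.isoWhiskerRight (totalRightDerivedIso _).symm _ ≪≫ Functor.associator _ _ _ ≪≫
    Functor.isoWhiskerLeft _ (Functor.associator _ _ _ ≪≫
      Functor.isoWhiskerLeft _ (DerivedCategory.homologyFunctorFactorsh C n)) ≪≫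
    (RHIso T n).symm

end Groth.Agent.Lib.RlimTrunc.RightAdditive
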