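import Groth.Agent.Lib.RlimTrunc.Main
import Mathlib.CategoryTheory.Triangulated.TStructure.TruncLEGT

/-!
# An object as the derived limit of its truncations
-/

set_option autoImplicit false
set_option linter.unusedSectionVars false

universe w v' u' u t'

open CategoryTheory CategoryTheory.Limits CategoryTheory.Pretriangulated DerivedCategory

namespace Groth.Agent.Lib.RlimTrunc.Trunc

open Tower Single Devissage Main

variable {A : Type (u + 1)} [Category.{u} A] [Abelian A] [HasDerivedCategory.{w} A]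
  (E : DerivedCategory A)

lemma toTruncTower_comp (n : ℕ) :
    CohCx.toTruncTower E (n + 1) ≫ CohCx.truncTowerMap E n = CohCx.toTruncTower E n :=
  TStructure.t.π_natTransTruncGEOfLE_app _ _ _ E

lemma isIso_homologyMap_toTruncTower (n : ℕ) (i : ℤ) (hi : -(n : ℤ) ≤ i) :
    IsIso ((homologyFunctor A i).map (CohCx.toTruncTower E n)) :=
  @DerCat.TStruct.isIso_homologyMap_mor₂ _ _ _ _ _
    (TStructure.t.triangleLTGE_distinguished (-(n : ℤ)) E) (-(n : ℤ) - 1)
    (inferInstance : TStructure.t.IsLE ((TStructure.t.truncLT (-(n : ℤ))).obj E) (-(n : ℤ) - 1))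
    i (by omega)

lemma isIso_homologyMap_truncTowerMap (n : ℕ) (i : ℤ) (hi : -(n : ℤ) ≤ i) :
    IsIso ((homologyFunctor A i).map (CohCx.truncTowerMap E n)) := by
  have h₁ := isIso_homologyMap_toTruncTower E n i hi
  have h₂ := isIso_homologyMap_toTruncTower E (n + 1) i (by omega)
  rw [← toTruncTower_comp, Functor.map_comp] at h₁
  exact IsIso.of_isIso_comp_left ((homologyFunctor A i).map (CohCx.toTruncTower E (n + 1))) _

lemma isZero_homology_truncTower (n : ℕ) (i : ℤ) (hi : i < -(n : ℤ)) :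
    IsZero ((homologyFunctor A i).obj (CohCx.truncTower E n)) :=
  @isZero_of_isGE _ _ _ _ _ (-(n : ℤ)) i hi
    (inferInstance : TStructure.t.IsGE ((TStructure.t.truncGE (-(n : ℤ))).obj E) (-(n : ℤ)))

/-- The cone of a transition map has cohomology in one degree only. -/
lemma isZero_homology_cone (n : ℕ) (Z : DerivedCategory A) (p : CohCx.truncTower E n ⟶ Z)
    (q : Z ⟶ (CohCx.truncTower E (n + 1))⟦(1 : ℤ)⟧)
    (hT : Triangle.mk (CohCx.truncTowerMap E n) p q ∈ distTriang (DerivedCategory A))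
    (i : ℤ) (hi : i ≠ -(n : ℤ) - 2) : IsZero ((homologyFunctor A i).obj Z) := by
  have hepi : Epi ((homologyFunctor A i).map (CohCx.truncTowerMap E n)) := by
    by_cases h : -(n : ℤ) ≤ i
    · have := isIso_homologyMap_truncTowerMap E n i h
      infer_instance
    · exact ⟨fun {W'} a b _ => (isZero_homology_truncTower E n i (by omega)).eq_of_src a b⟩
  have hmono : Mono ((homologyFunctor A (i + 1)).map (CohCx.truncTowerMap E n)) := by
    by_cases h : -(n : ℤ) ≤ i + 1
    · have := isIso_homologyMap_truncTowerMap E n (i + 1) h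
      infer_instance
    · exact ⟨fun {W'} a b _ =>
        (isZero_homology_truncTower E (n + 1) (i + 1) (by push_cast; omega)).eq_of_tgt a b⟩
  exact @isZero_homology_obj₃ _ _ _ _ _ hT i (i + 1) rfl hepi hmono

/-- The cohomology object of the cone of a transition map. -/
noncomputable def homologyConeIso (n : ℕ) (Z : DerivedCategory A)
    (p : CohCx.truncTower E n ⟶ Z) (q : Z ⟶ (CohCx.truncTower E (n + 1))⟦(1 : ℤ)⟧)
    (hT : Triangle.mk (CohCx.truncTowerMap E n) p q ∈ distTriang (DerivedCategory A)) :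
    (homologyFunctor A (-((n : ℤ) + 1))).obj E ≅ (homologyFunctor A (-(n : ℤ) - 2)).obj Z :=
  let δ := HomologySequence.δ (Triangle.mk (CohCx.truncTowerMap E n) p q) (-(n : ℤ) - 2)
    (-((n : ℤ) + 1)) (by omega)
  have hmono : Mono δ := (HomologySequence.exact₃ _ hT (-(n : ℤ) - 2) (-((n : ℤ) + 1))
    (by omega)).mono_g ((isZero_homology_truncTower E n (-(n : ℤ) - 2) (by omega)).eq_of_src _ _)
  have hepi : Epi δ := (HomologySequence.exact₁ _ hT (-(n : ℤ) - 2) (-((n : ℤ) + 1))
    (by omega)).epi_f ((isZero_homology_truncTower E n (-((n : ℤ) + 1)) (by omega)).eq_of_tgt _ _)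
  have hδ : IsIso δ := isIso_of_mono_of_epi δ
  (@asIso _ _ _ _ _ (isIso_homologyMap_toTruncTower E (n + 1) (-((n : ℤ) + 1))
    (by push_cast; omega))) ≪≫ (@asIso _ _ _ _ δ hδ).symm

variable {C : Type u'} [Category.{v'} C] {J : GrothendieckTopology C} {free : C ⥤ A}

/-- The cones of the transition maps of the truncations receive no morphisms. -/
lemma homZero_cone {g : A} (μ : ℤ) (n : ℕ)
    (hg : ExtVanish g ((homologyFunctor A (-((n : ℤ) + 1))).obj E) (μ + n + 2).toNat)
    (Z : DerivedCategory A) (p : CohCx.truncTower E n ⟶ Z)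
    (q : Z ⟶ (CohCx.truncTower E (n + 1))⟦(1 : ℤ)⟧)
    (hT : Triangle.mk (CohCx.truncTowerMap E n) p q ∈ distTriang (DerivedCategory A)) :
    HomZero (W g μ) Z := by
  have hz := isZero_homology_cone E n Z p q hT
  by_cases hμ : μ < -(n : ℤ) - 2
  · have : Z.IsGE (μ + 1) := (isGE_iff _ _).2 fun i hi => hz i (by omega)
    exact homZero_of_forall 0 (μ + 1) Z (by simp) fun q h₁ h₂ => absurd (h₁.trans h₂) (by omega)
  have : Z.IsGE (-(n : ℤ) - 2) := (isGE_iff _ _).2 fun i hi => hz i (by omega)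
  refine homZero_of_forall (μ + 1 - (-(n : ℤ) - 2)).toNat (-(n : ℤ) - 2) Z (by omega)
    fun i h₁ h₂ => ?_
  rcases eq_or_ne i (-(n : ℤ) - 2) with rfl | hi
  · rw [show (μ - (-(n : ℤ) - 2)).toNat = (μ + n + 2).toNat by congr 1; ring]
    exact hg.of_iso (homologyConeIso E n Z p q hT)
  · exact extVanish_of_isZero g (hz i hi) _

/-- Vanishing of `Ext` into late cohomology objects makes `Hom(g[-m], -)` eventually constant. -/
theorem bijective_trunc [HasProduct (CohCx.truncTower E)] {L : DerivedCategory A}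
    {a : ∀ n, L ⟶ CohCx.truncTower E n}
    (hL : CohCx.IsRlimVia (CohCx.truncTower E) (CohCx.truncTowerMap E) L a) {g : A} (m : ℤ) (N : ℕ)
    (h : ∀ (k : ℤ) (n : ℕ), m ≤ k → k ≤ m + 1 → N ≤ n →
      ExtVanish g ((homologyFunctor A (-((n : ℤ) + 1))).obj E) (k + n + 1).toNat)
    (n : ℕ) (hn : N ≤ n) : Function.Bijective fun x : W g m ⟶ L => x ≫ a n := by
  refine bijective_of_cones hL N (fun j hj Z' p' q' hT'' => ⟨?_, ?_⟩) n hn
  · refine homZero_cone E m j ?_ Z' p' q' hT''
    have := h (m + 1) j (by omega) le_rfl hj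
    rwa [show m + 1 + (j : ℤ) + 1 = m + j + 2 by ring] at this
  · refine homZero_cone E (m - 1) j ?_ Z' p' q' hT''
    have := h m j le_rfl (by omega) hj
    rwa [show m - 1 + (j : ℤ) + 2 = m + j + 1 by ring]

/-- An object is the derived limit of its truncations if the cohomology of its cohomology objects
vanishes in high degrees, locally. -/
theorem isRlimVia_truncTower [HasProduct (CohCx.truncTower E)] (hd : IsDetecting J free)
    (h : CofinalGood.{v', u', t'} J fun Y (N : ℤ → ℕ) => ∀ (m : ℤ) (n : ℕ), N m ≤ n →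
      ExtVanish (free.obj Y) ((homologyFunctor A (-((n : ℤ) + 1))).obj E) (m + n + 1).toNat) :
    CohCx.IsRlimVia (CohCx.truncTower E) (CohCx.truncTowerMap E) E (CohCx.toTruncTower E) := by
  let K := CohCx.truncTower E
  let t := CohCx.truncTowerMap E
  let diff : ∏ᶜ K ⟶ ∏ᶜ K := Pi.lift fun n => Pi.π K n - Pi.π K (n + 1) ≫ t n
  obtain ⟨Z, p, q, hZ⟩ := distinguished_cocone_triangle diff
  let T := (Triangle.mk diff p q).invRotate
  have hT : T ∈ distTriang (DerivedCategory A) := inv_rot_of_distTriang _ hZ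
  let b : T.obj₁ ⟶ ∏ᶜ K := T.mor₁
  let a : ∀ n, T.obj₁ ⟶ K n := fun n => b ≫ Pi.π K n
  have hab : Pi.lift a = b := Pi.hom_ext _ _ fun n => by simp [a]
  have hL : CohCx.IsRlimVia K t T.obj₁ a := ⟨T.mor₃, by rw [hab]; exact hT⟩
  have hlift : Pi.lift (CohCx.toTruncTower E) ≫ diff = 0 := Pi.hom_ext _ _ fun n => by
    simp [diff, K, t, toTruncTower_comp]
  obtain ⟨ψ, hψ⟩ : ∃ ψ : E ⟶ T.obj₁, Pi.lift (CohCx.toTruncTower E) = ψ ≫ b :=
    Triangle.coyoneda_exact₂ T hT _ hlift
  have hψa : ∀ n, ψ ≫ a n = CohCx.toTruncTower E n := fun n => by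
    rw [← Category.assoc, ← hψ, Pi.lift_π]
  have hiso : IsIso ψ := (DerivedCategory.isIso_iff A ψ).2 fun m => by
    have hgood : CofinalGood.{v', u', t'} J fun Y (N : ℕ) => ∀ n, N ≤ n →
        Function.Bijective fun x : W (free.obj Y) m ⟶ T.obj₁ => x ≫ a n := by
      refine h.imp (fun N => max (N m) (N (m + 1))) fun Y N hv =>
        bijective_trunc E hL m _ fun k n hk₁ hk₂ hn => hv k n ?_
      have hn' : max (N m) (N (m + 1)) ≤ n := hn
      rcases (show k = m ∨ k = m + 1 by omega) with rfl | rfl <;> omega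
    have hn : -(((-m).toNat : ℕ) : ℤ) ≤ m := by omega
    have h₁ := isIso_homologyMap hd m hgood (Tower.comp_transition hL) (-m).toNat
      (fun n hn' => isIso_homologyMap_truncTowerMap E n m (by omega)) (-m).toNat le_rfl
    have h₂ := isIso_homologyMap_toTruncTower E (-m).toNat m hn
    rw [← hψa, Functor.map_comp] at h₂
    exact IsIso.of_isIso_comp_right _ ((homologyFunctor A m).map (a (-m).toNat))
  refine ⟨T.mor₃ ≫ (inv ψ)⟦(1 : ℤ)⟧', isomorphic_distinguished _ hT _
    (Triangle.isoMk _ _ (@asIso _ _ _ _ ψ hiso) (Iso.refl _) (Iso.refl _)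
      ((Category.comp_id _).trans hψ) ((Category.comp_id _).trans (Category.id_comp _).symm) ?_)⟩
  change (T.mor₃ ≫ (inv ψ)⟦(1 : ℤ)⟧') ≫ ψ⟦(1 : ℤ)⟧' = 𝟙 _ ≫ T.mor₃
  rw [Category.assoc, ← Functor.map_comp, IsIso.inv_hom_id, CategoryTheory.Functor.map_id, Category.comp_id,
    Category.id_comp]

end Groth.Agent.Lib.RlimTrunc.Trunc
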