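import Groth.Agent.Lib.RlimTrunc.Trunc
import Groth.Agent.Lib.SiteCoh.Basic
import Groth.Prelude.Def_CohSite
import Mathlib.CategoryTheory.Sites.EpiMono

/-!
# Derived limits of truncations for abelian sheaves on a site
-/

set_option autoImplicit false
set_option linter.unusedSectionVars false

universe w w' v u

open CategoryTheory CategoryTheory.Limits Opposite Abelian DerivedCategory

namespace Groth.Agent.Lib.RlimTrunc

open Single Devissage Main

/-- Vanishing of an `Ext` group, read in the derived category. -/
theorem extVanish_of_subsingleton {A : Type u} [Category.{v} A] [Abelian A]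
    [HasDerivedCategory.{w} A] [HasExt.{w'} A] {g F : A} {k : ℕ} (h : Subsingleton (Ext g F k)) :
    ExtVanish g F k := fun f =>
  (@Equiv.subsingleton _ _ Ext.homEquiv.symm h).elim f 0

namespace AbSheaf

variable {C : Type u} [SmallCategory C] (J : GrothendieckTopology C)

/-- The free abelian sheaves on the objects. -/
noncomputable abbrev free : C ⥤ Sheaf J AddCommGrpCat.{u} :=
  yoneda ⋙ (Functor.whiskeringRight Cᵒᵖ (Type u) AddCommGrpCat.{u}).obj AddCommGrpCat.free.{u} ⋙
    presheafToSheaf J AddCommGrpCat.{u}

open SiteCoh.Basic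

lemma homEquiv_free_map_comp {U V : C} (f : V ⟶ U) {M : Sheaf J AddCommGrpCat.{u}}
    (s : (free J).obj U ⟶ M) :
    homEquiv V M ((free J).map f ≫ s) = M.obj.map f.op (homEquiv U M s) :=
  homEquiv'_naturality_left f M s

theorem isDetecting : IsDetecting J (free J) where
  eq_zero_of_local {U M} s S hS h := by
    apply (homEquiv U M).injective
    rw [map_zero]
    refine M.property.isSeparated U S hS _ 0 fun Y f hf => ?_
    refine ((homEquiv_free_map_comp J f s).symm.trans ((congrArg (homEquiv Y M) (h f hf)).trans
      (map_zero _))).trans (map_zero (M.obj.map f.op).hom).symm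
  exists_liftSieve {U M N} p hp s := by
    haveI := hp
    have : Sheaf.IsLocallySurjective p := (Sheaf.isLocallySurjective_iff_epi' _ p).2 inferInstance
    refine ⟨_, Presheaf.imageSieve_mem J p.hom (U := op U) (homEquiv U N s), fun Y f hf => ?_⟩
    obtain ⟨x, hx⟩ := hf
    refine ⟨(homEquiv Y M).symm x, ?_⟩
    apply (homEquiv Y N).injective
    rw [homEquiv_comp, AddEquiv.apply_symm_apply, homEquiv_free_map_comp]
    exact hx
  separating {M N} ψ h := by
    apply ObjectProperty.hom_ext
    ext ⟨U⟩ x
    have h0 := congrArg (homEquiv U N) (h U ((homEquiv U M).symm x))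
    rw [homEquiv_comp, AddEquiv.apply_symm_apply, map_zero] at h0
    exact h0

/-- The truncation theorem for abelian sheaves on a site. -/
theorem isRlimVia_truncTower [HasDerivedCategory.{w} (Sheaf J AddCommGrpCat.{u})]
    (E : DerivedCategory (Sheaf J AddCommGrpCat.{u})) [HasProduct (CohCx.truncTower E)]
    (h : CofinalGood.{u, u, u} J fun Y (p : ℤ → ℤ) => ∀ (m : ℤ) (k : ℕ), p m < k →
      Subsingleton (CohSite.HU ((homologyFunctor _ (m - k)).obj E) k Y)) :
    CohCx.IsRlimVia (CohCx.truncTower E) (CohCx.truncTowerMap E) E (CohCx.toTruncTower E) := by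
  refine Trunc.isRlimVia_truncTower E (isDetecting J)
    (h.imp (fun p m => (p m - m).toNat + (-m).toNat) fun Y p hv m n hn =>
      extVanish_of_subsingleton ?_)
  replace hn : (p m - m).toNat + (-m).toNat ≤ n := hn
  have hk : ((m + n + 1).toNat : ℤ) = m + n + 1 := Int.toNat_of_nonneg (by omega)
  have := hv m (m + n + 1).toNat (by omega)
  rwa [hk, show m - (m + (n : ℤ) + 1) = -((n : ℤ) + 1) by ring] at this

end AbSheaf

end Groth.Agent.Lib.RlimTrunc
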