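import Mathlib.CategoryTheory.Sites.Grothendieck
import Mathlib.CategoryTheory.Abelian.Basic

/-!
# Local presentations of functors on a triangulated category by test objects

`IsDetecting`: a functor `free : C ⥤ A` from a site detects vanishing and epimorphisms locally.
`LocPres free P G`: classes in `G L` are, locally, morphisms out of the test objects `P Y` into `L`.
If these morphisms see only the late terms of a tower, so does `G` (`LocPres.isIso_map`).
-/

set_option autoImplicit false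
set_option linter.unusedSectionVars false

universe w v v' u u' t' wD uD

open CategoryTheory CategoryTheory.Limits

namespace Groth.Agent.Lib.RlimTrunc.Main

variable {C : Type u'} [Category.{v'} C] (J : GrothendieckTopology C)
variable {A : Type u} [Category.{v} A] [Abelian A]

/-- `free` behaves like the free sheaves on the objects of the site. -/
structure IsDetecting (free : C ⥤ A) : Prop where
  eq_zero_of_local : ∀ {U : C} {M : A} (s : free.obj U ⟶ M) (S : Sieve U), S ∈ J U →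
    (∀ ⦃Y : C⦄ (f : Y ⟶ U), S.arrows f → free.map f ≫ s = 0) → s = 0
  exists_liftSieve : ∀ {U : C} {M N : A} (p : M ⟶ N), Epi p → ∀ (s : free.obj U ⟶ N),
    ∃ S ∈ J U, ∀ ⦃Y : C⦄ (f : Y ⟶ U), S.arrows f → ∃ x, x ≫ p = free.map f ≫ s
  separating : ∀ {M N : A} (ψ : M ⟶ N), (∀ (U : C) (s : free.obj U ⟶ M), s ≫ ψ = 0) → ψ = 0

variable {J} {free : C ⥤ A}

lemma IsDetecting.eq_zero_of_cover (hd : IsDetecting J free) {U : C} {M : A} (s : free.obj U ⟶ M)
    {ι : Type t'} (Y : ι → C) (f : ∀ i, Y i ⟶ U) (hf : Sieve.ofArrows Y f ∈ J U)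
    (h : ∀ i, free.map (f i) ≫ s = 0) : s = 0 :=
  hd.eq_zero_of_local s _ hf fun Z g hg => by
    obtain ⟨W, u, v, ⟨i⟩, rfl⟩ := hg
    rw [free.map_comp, Category.assoc, h i, comp_zero]

/-- Locally, a choice of parameters such that inside prescribed covering sieves there are coverings
by objects satisfying `Q` for these parameters. -/
def CofinalGood (J : GrothendieckTopology C) {β : Type*} (Q : C → β → Prop) : Prop :=
  ∀ U : C, ∃ (P : Type t') (N : P → β), ∀ T : P → Sieve U, (∀ x, T x ∈ J U) →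
    ∃ (ι : Type t') (Y : ι → C) (f : ∀ i, Y i ⟶ U) (σ : ι → P),
      Sieve.ofArrows Y f ∈ J U ∧ ∀ i, (T (σ i)).arrows (f i) ∧ Q (Y i) (N (σ i))

lemma CofinalGood.imp {β β' : Type*} {Q : C → β → Prop} {Q' : C → β' → Prop}
    (h : CofinalGood.{v', u', t'} J Q) (φ : β → β') (hφ : ∀ Y b, Q Y b → Q' Y (φ b)) :
    CofinalGood.{v', u', t'} J Q' := fun U => by
  obtain ⟨P, N, hN⟩ := h U
  refine ⟨P, φ ∘ N, fun T hT => ?_⟩
  obtain ⟨ι, Y, f, σ, hf, hg⟩ := hN T hT
  exact ⟨ι, Y, f, σ, hf, fun i => ⟨(hg i).1, hφ _ _ (hg i).2⟩⟩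

/-- A class of objects covering everything, each with a cofinal system of good coverings. -/
lemma CofinalGood.of_cover {β : Type*} {Q : C → β → Prop} (B : Set C)
    (hB : ∀ U : C, ∃ (ι : Type t') (Y : ι → C) (f : ∀ i, Y i ⟶ U),
      Sieve.ofArrows Y f ∈ J U ∧ ∀ i, Y i ∈ B)
    (h : ∀ V ∈ B, ∃ b : β, ∀ T ∈ J V, ∃ (ι : Type t') (Y : ι → C) (f : ∀ i, Y i ⟶ V),
      (∀ i, T.arrows (f i)) ∧ Sieve.ofArrows Y f ∈ J V ∧ ∀ i, Q (Y i) b) :
    CofinalGood.{v', u', t'} J Q := fun U => by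
  obtain ⟨P, W, g, hg, hW⟩ := hB U
  choose b hb using fun a => h (W a) (hW a)
  refine ⟨P, b, fun T hT => ?_⟩
  choose ι Y f hfT hf hQ using fun a => hb a ((T a).pullback (g a)) (J.pullback_stable (g a) (hT a))
  refine ⟨Σ a, ι a, fun x => Y x.1 x.2, fun x => f x.1 x.2 ≫ g x.1, fun x => x.1, ?_,
    fun x => ⟨hfT x.1 x.2, hQ x.1 x.2⟩⟩
  refine J.transitive hg _ fun Z e he => ?_
  obtain ⟨_, u, _, ⟨a⟩, rfl⟩ := he
  rw [Sieve.pullback_comp]
  refine J.pullback_stable u (J.superset_covering ?_ (hf a))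
  intro Z' e' he'
  obtain ⟨_, u', _, ⟨i⟩, rfl⟩ := he'
  exact ⟨_, u', _, Presieve.ofArrows.mk (⟨a, i⟩ : Σ a, ι a), (Category.assoc _ _ _).symm⟩

variable {D : Type uD} [Category.{wD} D] [HasZeroMorphisms D]

/-- Classes in `G L` are locally given by morphisms out of test objects, uniquely up to refining. -/
structure LocPres (J : GrothendieckTopology C) (free : C ⥤ A) (P : C ⥤ D) (G : D ⥤ A) where
  /-- The class of a morphism. -/
  θ : ∀ {Y : C} {L : D}, (P.obj Y ⟶ L) → (free.obj Y ⟶ G.obj L)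
  θ_comp : ∀ {Y : C} {L L' : D} (w : P.obj Y ⟶ L) (ψ : L ⟶ L'), θ (w ≫ ψ) = θ w ≫ G.map ψ
  θ_left : ∀ {Y Y' : C} (f : Y' ⟶ Y) {L : D} (w : P.obj Y ⟶ L), θ (P.map f ≫ w) = free.map f ≫ θ w
  θ_zero : ∀ (Y : C) (L : D), θ (0 : P.obj Y ⟶ L) = 0
  exists_lift : ∀ {U : C} {L : D} (s : free.obj U ⟶ G.obj L), ∃ S ∈ J U,
    ∀ ⦃Y : C⦄ (f : Y ⟶ U), S.arrows f → ∃ w, θ (Y := Y) (L := L) w = free.map f ≫ s
  exists_null : ∀ {U : C} {L : D} (w : P.obj U ⟶ L), θ w = 0 → ∃ S ∈ J U,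
    ∀ ⦃Y : C⦄ (f : Y ⟶ U), S.arrows f → P.map f ≫ w = 0

variable {P : C ⥤ D} {G : D ⥤ A} {K : ℕ → D} {t : ∀ n, K (n + 1) ⟶ K n}
  {L : D} {a : ∀ n, L ⟶ K n}

lemma exists_transition (hat : ∀ n, a (n + 1) ≫ t n = a n) (n₀ : ℕ)
    (hconst : ∀ n, n₀ ≤ n → IsIso (G.map (t n))) {n n' : ℕ} (hn : n₀ ≤ n)
    (h : n ≤ n') : ∃ τ : K n' ⟶ K n, a n' ≫ τ = a n ∧ IsIso (G.map τ) := by
  induction n', h using Nat.le_induction with
  | base => exact ⟨𝟙 _, Category.comp_id _, inferInstance⟩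
  | succ n' hle ih =>
    obtain ⟨τ, hτ, hτ'⟩ := ih
    refine ⟨t n' ≫ τ, by rw [← Category.assoc, hat, hτ], ?_⟩
    have := hconst n' (hn.trans hle)
    rw [Functor.map_comp]
    infer_instance

/-- If maps out of test objects of a cofinal system into `L` are those into late terms of the tower,
`G` of `L` is the eventual value of `G` of the tower. -/
theorem LocPres.isIso_map (pr : LocPres J free P G) (hd : IsDetecting J free)
    (hgood : CofinalGood.{v', u', t'} J fun Y (N : ℕ) => ∀ n, N ≤ n →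
      Function.Bijective fun x : P.obj Y ⟶ L => x ≫ a n)
    (hat : ∀ n, a (n + 1) ≫ t n = a n) (n₀ : ℕ)
    (hconst : ∀ n, n₀ ≤ n → IsIso (G.map (t n))) (n : ℕ) (hn : n₀ ≤ n) : IsIso (G.map (a n)) := by
  have : Mono (G.map (a n)) := by
    refine Preadditive.mono_of_cancel_zero _ fun {Q} k hk => hd.separating k fun U s₀ => ?_
    set s := s₀ ≫ k with hs_def
    obtain ⟨ι', N, hN⟩ := hgood U
    obtain ⟨S₀, hS₀, hS₀'⟩ := pr.exists_lift s
    let T : ι' → Sieve U := fun x =>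
      { arrows := fun Z g => ∃ w : P.obj Z ⟶ L,
          pr.θ w = free.map g ≫ s ∧ w ≫ a (max n (N x)) = 0
        downward_closed := by
          rintro Z Z' g ⟨w, hw, hw'⟩ e
          exact ⟨P.map e ≫ w, by rw [pr.θ_left, hw, free.map_comp, Category.assoc],
            by rw [Category.assoc, hw', comp_zero]⟩ }
    have hT : ∀ x, T x ∈ J U := fun x => by
      obtain ⟨τ, hτ, hτ'⟩ := exists_transition hat n₀ hconst hn (le_max_left n (N x))
      have hs : s ≫ G.map (a (max n (N x))) = 0 := by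
        rw [← cancel_mono (G.map τ), Category.assoc, ← Functor.map_comp, hτ, zero_comp, hs_def,
          Category.assoc, hk, comp_zero]
      refine J.transitive hS₀ (T x) fun Z g hg => ?_
      obtain ⟨w, hw⟩ := hS₀' g hg
      have hw0 : pr.θ (w ≫ a (max n (N x))) = 0 := by
        rw [pr.θ_comp, hw, Category.assoc, hs, comp_zero]
      obtain ⟨S₁, hS₁, hS₁'⟩ := pr.exists_null _ hw0
      refine J.superset_covering ?_ hS₁
      intro Z' e he
      exact ⟨P.map e ≫ w, by rw [pr.θ_left, hw, free.map_comp, Category.assoc],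
        by rw [Category.assoc]; exact hS₁' e he⟩
    obtain ⟨ι, Y, g, σ, hg, hbij⟩ := hN T hT
    refine hd.eq_zero_of_cover s Y g hg fun j => ?_
    obtain ⟨⟨w, hw, hw'⟩, hb⟩ := hbij j
    have hw0 : w = 0 := (hb _ (le_max_right n (N (σ j)))).1 (hw'.trans zero_comp.symm)
    rw [← hw, hw0, pr.θ_zero]
  have : Epi (G.map (a n)) := by
    refine Preadditive.epi_of_cancel_zero _ fun {Q} ψ hψ => hd.separating ψ fun U s₀ => ?_
    obtain ⟨ι', N, hN⟩ := hgood U
    choose τ hτ hτ' using fun x => exists_transition hat n₀ hconst hn (le_max_left n (N x))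
    choose S₀ hS₀ hS₀' using fun x => pr.exists_lift (s₀ ≫ @inv _ _ _ _ _ (hτ' x))
    obtain ⟨ι, Y, g, σ, hg, hbij⟩ := hN S₀ hS₀
    refine hd.eq_zero_of_cover _ Y g hg fun j => ?_
    obtain ⟨hgT, hb⟩ := hbij j
    obtain ⟨w, hw⟩ := hS₀' _ (g j) hgT
    obtain ⟨l, hl⟩ := (hb _ (le_max_right n (N (σ j)))).2 w
    have hi := hτ' (σ j)
    have key : free.map (g j) ≫ s₀ = pr.θ l ≫ G.map (a n) := by
      rw [← pr.θ_comp, ← hτ (σ j), ← Category.assoc l, pr.θ_comp,
        show l ≫ a (max n (N (σ j))) = w from hl, hw]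
      simp
    have := congrArg (· ≫ ψ) key
    simpa [hψ] using this
  exact isIso_of_mono_of_epi _

omit [Category.{v} A] [Abelian A] in
/-- A class of objects covering everything on which `Q` holds with one parameter. -/
lemma CofinalGood.of_forall {β : Type*} {Q : C → β → Prop} (B : Set C) (b : β)
    (hB : ∀ U : C, ∃ (ι : Type t') (Y : ι → C) (f : ∀ i, Y i ⟶ U),
      Sieve.ofArrows Y f ∈ J U ∧ ∀ i, Y i ∈ B)
    (h : ∀ V ∈ B, Q V b) (small : ∀ U : C, ∀ T : Sieve U, ∃ (ι : Type t') (Y : ι → C)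
      (f : ∀ i, Y i ⟶ U), Sieve.ofArrows Y f = T) :
    CofinalGood.{v', u', t'} J Q := fun U => by
  refine ⟨PUnit, fun _ => b, fun T hT => ?_⟩
  obtain ⟨ι, Z, g, hg⟩ := small U (T ⟨⟩)
  choose κ Y f hf hY using fun i => hB (Z i)
  refine ⟨Σ i, κ i, fun x => Y x.1 x.2, fun x => f x.1 x.2 ≫ g x.1, fun _ => ⟨⟩, ?_,
    fun x => ⟨?_, h _ (hY x.1 x.2)⟩⟩
  · refine J.transitive (hT ⟨⟩) _ fun W e he => ?_
    rw [← hg] at he
    obtain ⟨_, u, _, ⟨i⟩, rfl⟩ := he
    rw [Sieve.pullback_comp]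
    refine J.pullback_stable u (J.superset_covering ?_ (hf i))
    intro Z' e' he'
    obtain ⟨_, u', _, ⟨j⟩, rfl⟩ := he'
    exact ⟨_, u', _, Presieve.ofArrows.mk (⟨i, j⟩ : Σ i, κ i), (Category.assoc _ _ _).symm⟩
  · refine (T ⟨⟩).downward_closed ?_ _
    rw [← hg]
    exact Sieve.ofArrows_mk _ g x.1

end Groth.Agent.Lib.RlimTrunc.Main
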