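import Groth.Agent.Lib.RlimTrunc.Devissage

/-!
# Morphisms into a derived limit: lifting and uniqueness
-/

set_option autoImplicit false
set_option linter.unusedSectionVars false

universe w v u

open CategoryTheory CategoryTheory.Limits CategoryTheory.Pretriangulated

namespace Groth.Agent.Lib.RlimTrunc.Milnor

section Triangulated

variable {T : Type u} [Category.{v} T] [Preadditive T]

/-- Surjectivity of `1 - shift` on the families of morphisms out of `W`. -/
def LimSurj (W : T) (K : ℕ → T) (t : ∀ n, K (n + 1) ⟶ K n) : Prop :=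
  ∀ h : ∀ n, W ⟶ K n, ∃ k : ∀ n, W ⟶ K n, ∀ n, k n - k (n + 1) ≫ t n = h n

variable {K : ℕ → T} {t : ∀ n, K (n + 1) ⟶ K n}

lemma LimSurj.of_iso {W W' : T} (h : LimSurj W K t) (e : W ≅ W') : LimSurj W' K t := fun y => by
  obtain ⟨k, hk⟩ := h fun n => e.hom ≫ y n
  refine ⟨fun n => e.inv ≫ k n, fun n => ?_⟩
  rw [Category.assoc, ← Preadditive.comp_sub, hk n, Iso.inv_hom_id_assoc]

lemma limSurj_of_homZero {W : T} (h : ∀ n (f : W ⟶ K n), f = 0) : LimSurj W K t := fun y =>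
  ⟨fun _ => 0, fun n => by rw [zero_comp, sub_zero]; exact (h n (y n)).symm⟩

variable [HasZeroObject T] [HasShift T ℤ] [∀ n : ℤ, (shiftFunctor T n).Additive] [Pretriangulated T]
  [HasProduct K] {L : T} {a : ∀ n, L ⟶ K n}

/-- Compatible families lift. -/
theorem exists_lift (hL : CohCx.IsRlimVia K t L a) {W : T} (y : ∀ n, W ⟶ K n)
    (hy : ∀ n, y (n + 1) ≫ t n = y n) : ∃ x : W ⟶ L, ∀ n, x ≫ a n = y n := by
  obtain ⟨c, hc⟩ := hL
  obtain ⟨x, hx⟩ := Triangle.coyoneda_exact₂ _ hc (Pi.lift y) (by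
    change Pi.lift y ≫ (Pi.lift fun j => Pi.π K j - Pi.π K (j + 1) ≫ t j) = 0
    refine Pi.hom_ext _ _ fun j => ?_
    rw [Category.assoc, Pi.lift_π, Preadditive.comp_sub, Pi.lift_π, ← Category.assoc, Pi.lift_π,
      hy j, sub_self, zero_comp])
  change Pi.lift y = x ≫ Pi.lift a at hx
  refine ⟨x, fun n => ?_⟩
  have := congrArg (· ≫ Pi.π K n) hx
  simp only [Category.assoc, Pi.lift_π] at this
  exact this.symm

/-- A morphism with zero components is zero if `R^1 lim` vanishes one degree below. -/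
theorem eq_zero (hL : CohCx.IsRlimVia K t L a) {W : T} (h : LimSurj (W⟦(1 : ℤ)⟧) K t) (f : W ⟶ L)
    (hf : ∀ n, f ≫ a n = 0) : f = 0 := by
  obtain ⟨c, hc⟩ := hL
  have h0 : f ≫ Pi.lift a = 0 := Pi.hom_ext _ _ fun j => by
    rw [Category.assoc, Pi.lift_π, hf, zero_comp]
  apply (shiftFunctor T (1 : ℤ)).map_injective
  rw [Functor.map_zero]
  obtain ⟨g, hg⟩ : ∃ g : W⟦(1 : ℤ)⟧ ⟶ ∏ᶜ K, f⟦(1 : ℤ)⟧' = g ≫ c :=
    Triangle.coyoneda_exact₂ _ (rot_of_distTriang _ (rot_of_distTriang _ hc))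
      (f⟦(1 : ℤ)⟧') (by
        change f⟦(1 : ℤ)⟧' ≫ (-(Pi.lift a)⟦(1 : ℤ)⟧') = 0
        rw [Preadditive.comp_neg, ← Functor.map_comp, h0, Functor.map_zero, neg_zero])
  obtain ⟨k, hk⟩ := h (fun j => g ≫ Pi.π K j)
  have hgk : g = Pi.lift k ≫ Pi.lift fun j => Pi.π K j - Pi.π K (j + 1) ≫ t j :=
    Pi.hom_ext _ _ fun j => by simp [hk j]
  have hd : (Pi.lift fun j => Pi.π K j - Pi.π K (j + 1) ≫ t j) ≫ c = 0 :=
    comp_distTriang_mor_zero₂₃ _ hc
  rw [hg, hgk, Category.assoc, hd, comp_zero]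

omit [HasZeroObject T] [∀ n : ℤ, (shiftFunctor T n).Additive] [Pretriangulated T] [HasProduct K]
  [HasShift T ℤ] in
lemma comp_transition (hat : ∀ n, a (n + 1) ≫ t n = a n) (n k : ℕ) :
    a (n + k) ≫ CohCx.transition K t n k = a n := by
  induction k with
  | zero => exact Category.comp_id _
  | succ k ih =>
    change a (n + k + 1) ≫ t (n + k) ≫ CohCx.transition K t n k = a n
    rw [← Category.assoc, hat, ih]

omit [HasZeroObject T] [∀ n : ℤ, (shiftFunctor T n).Additive] [Pretriangulated T] [HasProduct K]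
  [HasShift T ℤ] in
lemma comp_eq_zero_of_injective (hat : ∀ n, a (n + 1) ≫ t n = a n) {W : T} (N : ℕ)
    (h : ∀ k : ℕ, Function.Injective fun x : W ⟶ K (N + k) => x ≫ CohCx.transition K t N k)
    (f : W ⟶ L) (hf : f ≫ a N = 0) (n : ℕ) : f ≫ a n = 0 := by
  have hup : ∀ k, f ≫ a (N + k) = 0 := fun k => h k (by
    simp only [Category.assoc, comp_transition hat, zero_comp, hf])
  have hall : ∀ d j, N ≤ j + d → f ≫ a j = 0 := fun d => by
    induction d with
    | zero =>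
      intro j hj
      obtain ⟨k, rfl⟩ := Nat.exists_eq_add_of_le (show N ≤ j by omega)
      exact hup k
    | succ d ih =>
      intro j hj
      rw [← hat j, ← Category.assoc, ih (j + 1) (by omega), zero_comp]
  exact hall N n (by omega)

end Triangulated

section Derived

open DerivedCategory Single Devissage

variable {A : Type u} [Category.{v} A] [Abelian A] [HasDerivedCategory.{w} A]

/-- `Hom(g[-m], M) ≃ Hom(g, M[m])`. -/
noncomputable def shiftEquivHom (g : A) (m : ℤ) (M : DerivedCategory A) :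
    (W g m ⟶ M) ≃+ ((singleFunctor A 0).obj g ⟶ M⟦m⟧) where
  toFun φ := (shiftW g m 0 m (by omega)).inv ≫ φ⟦m⟧'
  invFun ψ := ((shiftFunctor (DerivedCategory A) m).map_surjective
    ((shiftW g m 0 m (by omega)).hom ≫ ψ)).choose
  left_inv φ := (shiftFunctor (DerivedCategory A) m).map_injective
    (((shiftFunctor (DerivedCategory A) m).map_surjective _).choose_spec.trans
      (Iso.hom_inv_id_assoc _ _))
  right_inv ψ := by
    exact (congrArg ((shiftW g m 0 m (by omega)).inv ≫ ·)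
      ((shiftFunctor (DerivedCategory A) m).map_surjective _).choose_spec).trans
        (Iso.inv_hom_id_assoc _ _)
  map_add' φ φ' := (congrArg ((shiftW g m 0 m (by omega)).inv ≫ ·)
    ((shiftFunctor (DerivedCategory A) m).map_add)).trans (Preadditive.comp_add _ _ _ _ _ _)

lemma shiftEquivHom_comp (g : A) (m : ℤ) {M M' : DerivedCategory A} (φ : W g m ⟶ M) (ψ : M ⟶ M') :
    shiftEquivHom g m M' (φ ≫ ψ) = shiftEquivHom g m M φ ≫ ψ⟦m⟧' :=
  (congrArg ((shiftW g m 0 m (by omega)).inv ≫ ·)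
    ((shiftFunctor (DerivedCategory A) m).map_comp φ ψ)).trans (Category.assoc _ _ _).symm

variable {K : ℕ → DerivedCategory A} {t : ∀ n, K (n + 1) ⟶ K n}

lemma limSurj_of_hdu (g : A) (m : ℤ)
    (h : Function.Surjective fun (k : ∀ n, (singleFunctor A 0).obj g ⟶ (K n)⟦m⟧) (n : ℕ) =>
      k n - k (n + 1) ≫ (t n)⟦m⟧') : LimSurj (W g m) K t := fun y => by
  obtain ⟨k, hk⟩ := h fun n => shiftEquivHom g m _ (y n)
  refine ⟨fun n => (shiftEquivHom g m _).symm (k n), fun n => (shiftEquivHom g m _).injective ?_⟩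
  simp only [map_sub, shiftEquivHom_comp, AddEquiv.apply_symm_apply]
  exact congrFun hk n

lemma limSurj_shift_one (g : A) (m : ℤ) (h : LimSurj (W g (m - 1)) K t) :
    LimSurj ((W g m)⟦(1 : ℤ)⟧) K t :=
  h.of_iso (shiftW g 1 (m - 1) m (by omega)).symm

variable [HasProduct K] {L : DerivedCategory A} {a : ∀ n, L ⟶ K n}

/-- Compatible classes lift. -/
theorem exists_lift_hdu (hL : CohCx.IsRlimVia K t L a) (g : A) (m : ℤ)
    (x : ∀ n, (singleFunctor A 0).obj g ⟶ (K n)⟦m⟧) (hx : ∀ n, x (n + 1) ≫ (t n)⟦m⟧' = x n) :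
    ∃ y : (singleFunctor A 0).obj g ⟶ L⟦m⟧, ∀ n, y ≫ (a n)⟦m⟧' = x n := by
  obtain ⟨y, hy⟩ := exists_lift hL (fun n => (shiftEquivHom g m _).symm (x n)) fun n =>
    (shiftEquivHom g m _).injective (by
      rw [shiftEquivHom_comp, AddEquiv.apply_symm_apply, AddEquiv.apply_symm_apply]
      exact hx n)
  refine ⟨shiftEquivHom g m L y, fun n => ?_⟩
  rw [← shiftEquivHom_comp, hy n, AddEquiv.apply_symm_apply]

theorem eq_zero_hdu (hL : CohCx.IsRlimVia K t L a) (g : A) (m : ℤ)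
    (h : Function.Surjective fun (k : ∀ n, (singleFunctor A 0).obj g ⟶ (K n)⟦m - 1⟧) (n : ℕ) =>
      k n - k (n + 1) ≫ (t n)⟦m - 1⟧')
    (y : (singleFunctor A 0).obj g ⟶ L⟦m⟧) (hy : ∀ n, y ≫ (a n)⟦m⟧' = 0) : y = 0 := by
  obtain ⟨f, rfl⟩ := (shiftEquivHom g m L).surjective y
  rw [eq_zero hL (limSurj_shift_one g m (limSurj_of_hdu g (m - 1) h)) f fun n =>
    (shiftEquivHom g m (K n)).injective (by rw [shiftEquivHom_comp, hy, map_zero]), map_zero]

theorem eq_zero_of_injective_hdu (hL : CohCx.IsRlimVia K t L a) (g : A) (m : ℤ) (N : ℕ)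
    (h : Function.Surjective fun (k : ∀ n, (singleFunctor A 0).obj g ⟶ (K n)⟦m - 1⟧) (n : ℕ) =>
      k n - k (n + 1) ≫ (t n)⟦m - 1⟧')
    (hinj : ∀ k : ℕ, Function.Injective fun x : (singleFunctor A 0).obj g ⟶ (K (N + k))⟦m⟧ =>
      x ≫ (CohCx.transition K t N k)⟦m⟧')
    (f : W g m ⟶ L) (hf : f ≫ a N = 0) : f = 0 :=
  eq_zero hL (limSurj_shift_one g m (limSurj_of_hdu g (m - 1) h)) f
    (comp_eq_zero_of_injective (Tower.comp_transition hL) N (fun k x x' hxx' => by
      apply (shiftEquivHom g m (K (N + k))).injective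
      apply hinj k
      change shiftEquivHom g m _ x ≫ (CohCx.transition K t N k)⟦m⟧' =
        shiftEquivHom g m _ x' ≫ (CohCx.transition K t N k)⟦m⟧'
      rw [← shiftEquivHom_comp, ← shiftEquivHom_comp]
      exact congrArg _ hxx') f hf)

end Derived

end Groth.Agent.Lib.RlimTrunc.Milnor
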