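import Groth.Agent.Lib.RlimTrunc.Trunc

/-!
# Morphisms out of a shifted object into one with acyclic cohomology objects
-/

set_option autoImplicit false
set_option linter.unusedSectionVars false

universe w v u

open CategoryTheory CategoryTheory.Limits CategoryTheory.Pretriangulated DerivedCategory

namespace Groth.Agent.Lib.RlimTrunc.ThetaBij

open Tower Single Devissage

variable {A : Type u} [Category.{v} A] [Abelian A] [HasDerivedCategory.{w} A]

lemma θ_add {g : A} {m : ℤ} {L : DerivedCategory A} (f f' : W g m ⟶ L) :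
    θ (f + f') = θ f + θ f' := by
  rw [θ, θ, θ, Functor.map_add, Preadditive.comp_add, Preadditive.comp_add]

/-- `θ` as a homomorphism. -/
noncomputable def θHom (g : A) (m : ℤ) (L : DerivedCategory A) :
    (W g m ⟶ L) →+ (g ⟶ (homologyFunctor A m).obj L) :=
  AddMonoidHom.mk' θ θ_add

/-- `θ` is bijective on bijectivity-preserving maps. -/
lemma bijective_of_comp {g : A} {m : ℤ} {L L' : DerivedCategory A} (ψ : L ⟶ L')
    [IsIso ((homologyFunctor A m).map ψ)]
    (h : Function.Bijective fun f : W g m ⟶ L => f ≫ ψ)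
    (h' : Function.Bijective (θ (g := g) (m := m) (L := L'))) :
    Function.Bijective (θ (g := g) (m := m) (L := L)) := by
  refine ⟨fun f f' hff' => h.1 (h'.1 ?_), fun s => ?_⟩
  · change θ (f ≫ ψ) = θ (f' ≫ ψ)
    rw [θ_comp, θ_comp, hff']
  · obtain ⟨w, hw⟩ := h'.2 (s ≫ (homologyFunctor A m).map ψ)
    obtain ⟨f, rfl⟩ := h.2 w
    exact ⟨f, by rw [← cancel_mono ((homologyFunctor A m).map ψ), ← θ_comp, hw]⟩

lemma θ_W_self (g : A) (m : ℤ) : ∃ e : g ≅ (homologyFunctor A m).obj (W g m), θ (𝟙 (W g m)) = e.hom :=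
  ⟨(HomologicalComplex.singleObjHomologySelfIso (ComplexShape.up ℤ) m g).symm ≪≫
      ((homologyFunctorFactors A m).symm.app _), by simp [θ]⟩

/-- `θ` is bijective on an object concentrated in degree `m`. -/
theorem bijective_single (g : A) (m : ℤ) (Z : DerivedCategory A) [Z.IsGE m] [Z.IsLE m] :
    Function.Bijective (θ (g := g) (m := m) (L := Z)) := by
  obtain ⟨M, ⟨e⟩⟩ := exists_iso_singleFunctor_obj_of_isGE_of_isLE Z m
  refine bijective_of_comp e.hom ⟨fun f f' hf => (cancel_mono e.hom).1 hf,
    fun w => ⟨w ≫ e.inv, by simp⟩⟩ ?_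
  obtain ⟨i, hi⟩ := θ_W_self (A := A) M m
  have key : ∀ φ : g ⟶ M, θ (L := (singleFunctor A m).obj M)
      ((singleFunctor A m).map φ) = φ ≫ i.hom := fun φ => by
    have h0 := θ_Wmap φ (𝟙 (W M m))
    rw [Category.comp_id, hi] at h0
    exact h0
  constructor
  · intro f f' hff'
    obtain ⟨φ, rfl⟩ := (singleFunctor A m).map_surjective f
    obtain ⟨φ', rfl⟩ := (singleFunctor A m).map_surjective f'
    rw [(cancel_mono i.hom).1 ((key φ).symm.trans (hff'.trans (key φ')))]
  · intro s
    refine ⟨(singleFunctor A m).map ((s : g ⟶ (homologyFunctor A m).obj (W M m)) ≫ i.inv),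
      (key _).trans ?_⟩
    exact (Category.assoc _ _ _).trans ((congrArg _ i.inv_hom_id).trans (Category.comp_id _))

/-- `θ` is bijective into a bounded below object with cohomology acyclic for `g` below `m`. -/
theorem bijective_of_isGE (g : A) (m a : ℤ) (Z : DerivedCategory A) [Z.IsGE a]
    (h : ∀ (q : ℤ) (k : ℕ), q < m → 0 < k → ExtVanish g ((homologyFunctor A q).obj Z) k) :
    Function.Bijective (θ (g := g) (m := m) (L := Z)) := by
  -- the part in degree `m` of `τ≥m Z`
  let Y := (TStructure.t.truncGE m).obj Z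
  haveI : Y.IsGE m := (inferInstance : TStructure.t.IsGE Y m)
  have hY : Function.Bijective (θ (g := g) (m := m) (L := Y)) := by
    let S := (TStructure.t.triangleLTGE (m + 1)).obj Y
    have hS : S ∈ distTriang (DerivedCategory A) := TStructure.t.triangleLTGE_distinguished (m + 1) Y
    haveI h₁le : DerivedCategory.IsLE S.obj₁ m :=
      (inferInstance : TStructure.t.IsLE ((TStructure.t.truncLT (m + 1)).obj Y) m)
    haveI h₃ge : DerivedCategory.IsGE S.obj₃ (m + 1) :=
      (inferInstance : TStructure.t.IsGE ((TStructure.t.truncGE (m + 1)).obj Y) (m + 1))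
    haveI hi : IsIso ((homologyFunctor A m).map S.mor₁) :=
      DerCat.TStruct.isIso_homologyMap_mor₁ S hS (m + 1) m (by omega)
    haveI h₁ge : DerivedCategory.IsGE S.obj₁ m := (isGE_iff _ _).2 fun i hi' => by
      have := DerCat.TStruct.isIso_homologyMap_mor₁ S hS (m + 1) i (by omega)
      exact (isZero_of_isGE Y m i hi').of_iso
        (@asIso _ _ _ _ _ this : (homologyFunctor A i).obj S.obj₁ ≅ (homologyFunctor A i).obj Y)
    have h₁ := bijective_single g m S.obj₁
    have hbij : Function.Bijective fun f : W g m ⟶ S.obj₁ => f ≫ S.mor₁ := by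
      refine ⟨injective_comp_mor₁ S hS (homZero_shift_one ?_), surjective_comp_mor₁ S hS ?_⟩
      · exact fun f => TStructure.t.zero_of_isLE_of_isGE f (m - 1) (m + 1) (by omega)
          (inferInstanceAs ((W g (m - 1)).IsLE (m - 1))) h₃ge
      · exact fun f => TStructure.t.zero_of_isLE_of_isGE f m (m + 1) (by omega)
          (inferInstanceAs ((W g m).IsLE m)) h₃ge
    refine ⟨fun f f' hff' => ?_, fun s => ?_⟩
    · obtain ⟨x, rfl⟩ := hbij.2 f
      obtain ⟨x', rfl⟩ := hbij.2 f'
      refine congrArg (· ≫ S.mor₁) (h₁.1 ((@cancel_mono _ _ _ _ _ ((homologyFunctor A m).map S.mor₁)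
        inferInstance (θ x) (θ x')).1 ?_))
      rw [← θ_comp, ← θ_comp]
      exact hff'
    · let ei : (homologyFunctor A m).obj S.obj₁ ≅ (homologyFunctor A m).obj Y := @asIso _ _ _ _ _ hi
      obtain ⟨x, hx⟩ := h₁.2 (s ≫ ei.inv)
      refine ⟨x ≫ S.mor₁, ?_⟩
      rw [θ_comp, hx]
      exact (Category.assoc _ _ _).trans ((congrArg _ ei.inv_hom_id).trans (Category.comp_id _))
  let T := (TStructure.t.triangleLTGE m).obj Z
  have hT : T ∈ distTriang (DerivedCategory A) := TStructure.t.triangleLTGE_distinguished m Z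
  haveI hπ : IsIso ((homologyFunctor A m).map T.mor₂) :=
    @DerCat.TStruct.isIso_homologyMap_mor₂ _ _ _ _ _ hT (m - 1)
      (inferInstance : TStructure.t.IsLE ((TStructure.t.truncLT m).obj Z) (m - 1)) m (by omega)
  refine @bijective_of_comp _ _ _ _ _ _ _ _ T.mor₂ hπ ?_ hY
  -- morphisms into `τ<m Z` and its shift vanish
  have hvan : ∀ m' : ℤ, m ≤ m' → HomZero (W g m') T.obj₁ := fun m' hm' => by
    by_cases ha : a ≤ m' + 1
    · haveI : DerivedCategory.IsGE T.obj₁ a := by
        have : TStructure.t.IsGE Z a := ‹Z.IsGE a›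
        change TStructure.t.IsGE ((TStructure.t.truncLT m).obj Z) a
        infer_instance
      refine homZero_of_forall (m' + 1 - a).toNat a T.obj₁ (by omega) fun q hq₁ hq₂ => ?_
      by_cases hq : q < m
      · have := @DerCat.TStruct.isIso_homologyMap_mor₁ _ _ _ _ _ hT m
          (inferInstance : TStructure.t.IsGE ((TStructure.t.truncGE m).obj Z) m) q hq
        exact (h q (m' - q).toNat hq (by omega)).of_iso (@asIso _ _ _ _ _ this :
          (homologyFunctor A q).obj T.obj₁ ≅ (homologyFunctor A q).obj Z).symm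
      · exact extVanish_of_isZero g (@isZero_of_isLE _ _ _ _ _ (m - 1) q (by omega)
          (inferInstance : TStructure.t.IsLE ((TStructure.t.truncLT m).obj Z) (m - 1))) _
    · haveI : DerivedCategory.IsGE T.obj₁ (m' + 1) := by
        have : TStructure.t.IsGE Z (m' + 1) := TStructure.t.isGE_of_ge Z (m' + 1) a (by omega)
        change TStructure.t.IsGE ((TStructure.t.truncLT m).obj Z) (m' + 1)
        infer_instance
      exact fun f => TStructure.t.zero_of_isLE_of_isGE f m' (m' + 1) (by omega)
        (inferInstanceAs ((W g m').IsLE m')) (inferInstance : DerivedCategory.IsGE T.obj₁ (m' + 1))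
  refine ⟨fun f f' hff' => ?_, fun w => ?_⟩
  · rw [← sub_eq_zero]
    obtain ⟨x, hx⟩ := Triangle.coyoneda_exact₂ T hT (f - f') (by
      exact (Preadditive.sub_comp _ _ _).trans (sub_eq_zero.2 hff'))
    rw [hx, hvan m le_rfl x]
    exact zero_comp
  · obtain ⟨x, hx⟩ := Triangle.coyoneda_exact₃ T hT w (by
      have : HomZero (W g m) (T.obj₁⟦(1 : ℤ)⟧) := fun f => by
        apply (shiftFunctor (DerivedCategory A) (-1 : ℤ)).map_injective
        rw [Functor.map_zero]
        exact (HomZero.of_iso (hvan (m + 1) (by omega)) (shiftW g (-1) (m + 1) m (by omega)).symm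
          (shiftShiftNeg T.obj₁ (1 : ℤ)).symm) _
      exact this _)
    exact ⟨x, hx.symm⟩

end Groth.Agent.Lib.RlimTrunc.ThetaBij
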