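import Groth.Agent.Lib.RlimTrunc.AbSheaf
import Groth.Prelude.Def_CohTop

/-!
# Derived limits of truncations for abelian sheaves on a space
-/

set_option autoImplicit false
set_option linter.unusedSectionVars false

universe u

open CategoryTheory CategoryTheory.Limits TopologicalSpace

namespace Groth.Agent.Lib.RlimTrunc.Space

open Main

variable {X : TopCat.{u}}

/-- Fundamental systems of good neighbourhoods give cofinal good coverings. -/
theorem cofinalGood_of_points {β : Type*} {Q : Opens X → β → Prop}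
    (h : ∀ x : X, ∃ b : β, ∀ V : Opens X, x ∈ V → ∃ U : Opens X, x ∈ U ∧ U ≤ V ∧ Q U b) :
    CofinalGood.{u, u, u} (Opens.grothendieckTopology X) Q := fun U => by
  choose b hb using h
  refine ⟨(U : Set X), fun x => b x.1, fun T hT => ?_⟩
  choose V j hj hxV using fun x : (U : Set X) => hT x x.1 x.2
  choose W hxW hW hQ using fun x : (U : Set X) => hb x.1 (V x) (hxV x)
  refine ⟨(U : Set X), W, fun x => homOfLE (hW x) ≫ j x, id, ?_,
    fun x => ⟨(T x).downward_closed (hj x) _, hQ x⟩⟩
  intro y hy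
  exact ⟨W ⟨y, hy⟩, homOfLE (hW _) ≫ j _,
    ⟨_, 𝟙 _, _, Presieve.ofArrows.mk (⟨y, hy⟩ : (U : Set X)), Category.id_comp _⟩, hxW _⟩

/-- The truncation theorem on a space. -/
theorem isRlimVia_truncTower [HasDerivedCategory.{u} (CohTop.Ab X)]
    (E : DerivedCategory (CohTop.Ab X)) [HasProduct (CohCx.truncTower E)]
    (h : ∀ x : X, ∃ p : ℤ → ℤ, ∀ V : Opens X, x ∈ V → ∃ U : Opens X, x ∈ U ∧ U ≤ V ∧
      ∀ (m : ℤ) (k : ℕ), p m < k → Subsingleton (CohTop.HU (CohCx.HD E (m - k)) k U)) :
    CohCx.IsRlimVia (CohCx.truncTower E) (CohCx.truncTowerMap E) E (CohCx.toTruncTower E) :=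
  AbSheaf.isRlimVia_truncTower _ E (cofinalGood_of_points h)

/-- The variant with a bound on the cohomological dimension in negative degrees. -/
theorem exists_fun_of_bound [HasDerivedCategory.{u} (CohTop.Ab X)]
    (E : DerivedCategory (CohTop.Ab X)) (d : ℕ) (U : Opens X)
    (h : ∀ (p : ℕ) (q : ℤ), d < p → q < 0 → Subsingleton (CohTop.HU (CohCx.HD E q) p U))
    (m : ℤ) (k : ℕ) (hk : max m (d : ℤ) < k) :
    Subsingleton (CohTop.HU (CohCx.HD E (m - k)) k U) :=
  h k (m - k) (by omega) (by omega)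

end Groth.Agent.Lib.RlimTrunc.Space
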