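import Groth.Agent.Lib.RlimTrunc.LimCoh
import Groth.Agent.Lib.RlimTrunc.AbSheaf
import Groth.Agent.Lib.RlimTrunc.Space
import Groth.Prelude.Def_DCoh2

/-!
# Cohomology of derived limits of abelian sheaves
-/

set_option autoImplicit false
set_option linter.unusedSectionVars false

universe u

open CategoryTheory CategoryTheory.Limits CategoryTheory.Pretriangulated Opposite DerivedCategory

namespace Groth.Agent.Lib.RlimTrunc.AbLimCoh

open Tower Single Devissage Main Milnor SiteCoh.Basic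

variable {C : Type u} [SmallCategory C] {J : GrothendieckTopology C}
  [HasDerivedCategory.{u} (Sheaf J AddCommGrpCat.{u})]
  (B : Set C) (hB : ∀ U : C, ∃ (ι : Type u) (Y : ι → C) (f : ∀ i, Y i ⟶ U),
    Sieve.ofArrows Y f ∈ J U ∧ ∀ i, Y i ∈ B)

include hB in
/-- Over acyclic objects, `θ` is bijective. -/
theorem bijective_θ (Z : DerivedCategory (Sheaf J AddCommGrpCat.{u}))
    (h : ∀ V ∈ B, ∀ (p : ℕ) (q : ℤ), Subsingleton (CohSite.HU (CohCx.HD Z q) (p + 1) V))
    (U : C) (hU : U ∈ B) (m : ℤ) :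
    Function.Bijective (θ (g := (AbSheaf.free J).obj U) (m := m) (L := Z)) :=
  LimCoh.bijective_θ (AbSheaf.isDetecting J) B hB Z (fun V hV q k hk => by
    obtain ⟨p, rfl⟩ := Nat.exists_eq_succ_of_ne_zero hk.ne'
    exact extVanish_of_subsingleton (h V hV p q)) U hU m

include hB in
/-- The comparison of hypercohomology and sections of cohomology. -/
theorem nonempty_hduEquiv (Z : DerivedCategory (Sheaf J AddCommGrpCat.{u}))
    (h : ∀ V ∈ B, ∀ (p : ℕ) (q : ℤ), Subsingleton (CohSite.HU (CohCx.HD Z q) (p + 1) V))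
    (U : C) (hU : U ∈ B) (q : ℤ) :
    Nonempty (CohCx.HDU Z q U ≃+ (CohCx.HD Z q).obj.obj (op U)) :=
  ⟨(shiftEquivHom (CohCx.freeSheaf J U) q Z).symm.trans
    ((AddEquiv.ofBijective (ThetaBij.θHom ((AbSheaf.free J).obj U) q Z)
      (bijective_θ B hB Z h U hU q)).trans (homEquiv U (CohCx.HD Z q)))⟩

variable {K : ℕ → DerivedCategory (Sheaf J AddCommGrpCat.{u})} {t : ∀ n, K (n + 1) ⟶ K n}

/-- Vanishing of `R^1 lim` of sections gives surjectivity on morphisms. -/
theorem limSurj (U : C) (q : ℤ)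
    (hθ : ∀ n, Function.Bijective (θ (g := (AbSheaf.free J).obj U) (m := q) (L := K n)))
    (h : CohCx.LimOneIsZero (fun n => (CohCx.HD (K n) q).obj.obj (op U))
      (fun n => (((homologyFunctor _ q).map (t n)).hom.app (op U)).hom)) :
    LimSurj (W ((AbSheaf.free J).obj U) q) K t :=
  LimCoh.limSurj_of_θ hθ fun s => by
    obtain ⟨k, hk⟩ := h fun n => homEquiv U _ (s n)
    refine ⟨fun n => (homEquiv U _).symm (k n), fun n => (homEquiv U _).injective ?_⟩
    refine (map_sub (homEquiv U _) _ _).trans ?_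
    rw [homEquiv_comp, AddEquiv.apply_symm_apply, AddEquiv.apply_symm_apply]
    exact congrFun hk n

variable [HasProduct K] {L : DerivedCategory (Sheaf J AddCommGrpCat.{u})} {a : ∀ n, L ⟶ K n}

include hB in
/-- The cohomology sheaves of a derived limit. -/
theorem exists_iso_limit (hL : CohCx.IsRlimVia K t L a)
    (h1 : ∀ U ∈ B, ∀ (p : ℕ) (q : ℤ) (n : ℕ), Subsingleton (CohSite.HU (CohCx.HD (K n) q) (p + 1) U))
    (h2 : ∀ U ∈ B, ∀ (q : ℤ), CohCx.LimOneIsZero (fun n => (CohCx.HD (K n) q).obj.obj (op U))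
      (fun n => (((homologyFunctor _ q).map (t n)).hom.app (op U)).hom)) (q : ℤ) :
    Nonempty (CohCx.HD L q ≅ limit (CohCx.opSequence (fun n => CohCx.HD (K n) q)
      (fun n => (homologyFunctor _ q).map (t n)))) :=
  have hθ : ∀ U ∈ B, ∀ (n : ℕ) (q : ℤ),
      Function.Bijective (θ (g := (AbSheaf.free J).obj U) (m := q) (L := K n)) :=
    fun U hU n q => bijective_θ B hB (K n) (fun V hV p q => h1 V hV p q n) U hU q
  LimCoh.exists_iso_limit (AbSheaf.isDetecting J) B hB hL hθ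
    (fun U hU q => limSurj U q (fun n => hθ U hU n q) (h2 U hU q)) q

omit [HasProduct K] in
lemma isRlimVia_of_isRlim [HasProduct K] (h : DCoh.IsRlim K t L) :
    ∃ a : ∀ n, L ⟶ K n, CohCx.IsRlimVia K t L a := by
  obtain ⟨a, c, hc⟩ := h
  refine ⟨fun n => a ≫ Pi.π K n, c, ?_⟩
  rwa [show (Pi.lift fun n => a ≫ Pi.π K n) = a from Pi.hom_ext _ _ fun n => Pi.lift_π _ n]

omit [HasProduct K] in
include hB in
/-- An acyclic system with vanishing `R^1 lim` of sections has its limit as derived limit. -/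
theorem isRlim_limit (F : ℕ → Sheaf J AddCommGrpCat.{u}) (s : ∀ n, F (n + 1) ⟶ F n)
    [HasProduct fun n => (singleFunctor (Sheaf J AddCommGrpCat.{u}) 0).obj (F n)]
    (h1 : ∀ U ∈ B, ∀ (p n : ℕ), Subsingleton (CohSite.HU (F n) (p + 1) U))
    (h2 : ∀ U ∈ B, CohCx.LimOneIsZero (fun n => (F n).obj.obj (op U))
      (fun n => ((s n).hom.app (op U)).hom)) :
    DCoh.IsRlim (fun n => (singleFunctor (Sheaf J AddCommGrpCat.{u}) 0).obj (F n))
      (fun n => (singleFunctor _ 0).map (s n))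
      ((singleFunctor _ 0).obj (limit (CohCx.opSequence F s))) ∧
    ∀ U ∈ B, ∀ p : ℕ, Subsingleton (CohSite.HU (limit (CohCx.opSequence F s)) (p + 1) U) := by
  let 𝒜 := Sheaf J AddCommGrpCat.{u}
  let K₀ : ℕ → DerivedCategory 𝒜 := fun n => (singleFunctor 𝒜 0).obj (F n)
  let t₀ : ∀ n, K₀ (n + 1) ⟶ K₀ n := fun n => (singleFunctor 𝒜 0).map (s n)
  obtain ⟨L₀, a₀, c₀, hd₀⟩ := distinguished_cocone_triangle₁
    (Pi.lift fun n => Pi.π K₀ n - Pi.π K₀ (n + 1) ≫ t₀ n)
  obtain ⟨a', hL⟩ := isRlimVia_of_isRlim ⟨a₀, c₀, hd₀⟩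
  let hd := AbSheaf.isDetecting J
  have hz : ∀ n (q : ℤ), q ≠ 0 → IsZero ((homologyFunctor 𝒜 q).obj (K₀ n)) := fun n q hq => by
    rcases lt_or_gt_of_ne hq with h | h
    · exact isZero_of_isGE _ 0 q h
    · exact isZero_of_isLE _ 0 q h
  let eF : ∀ n, (homologyFunctor 𝒜 0).obj (K₀ n) ≅ F n := fun n =>
    (singleFunctorCompHomologyFunctorIso 𝒜 0).app (F n)
  have hθ : ∀ U ∈ B, ∀ (n : ℕ) (q : ℤ),
      Function.Bijective (θ (g := (AbSheaf.free J).obj U) (m := q) (L := K₀ n)) := fun U hU n q =>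
    LimCoh.bijective_θ hd B hB (K₀ n) (fun V hV q k hk => by
      by_cases hq : q = 0
      · subst hq
        obtain ⟨p, rfl⟩ := Nat.exists_eq_succ_of_ne_zero hk.ne'
        exact (extVanish_of_subsingleton (h1 V hV p n)).of_iso (eF n).symm
      · exact extVanish_of_isZero _ (hz n q hq) _) U hU q
  have hlim : ∀ U ∈ B, ∀ q : ℤ, LimSurj (W ((AbSheaf.free J).obj U) q) K₀ t₀ := fun U hU q => by
    by_cases hq : q = 0
    · subst hq
      refine LimCoh.limSurj_of_θ (fun n => hθ U hU n 0) fun y => ?_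
      obtain ⟨k, hk⟩ := h2 U hU fun n => homEquiv U _ (y n ≫ (eF n).hom)
      refine ⟨fun n => (homEquiv U _).symm (k n) ≫ (eF n).inv, fun n => ?_⟩
      have hnat : (eF (n + 1)).inv ≫ (homologyFunctor 𝒜 0).map (t₀ n) = s n ≫ (eF n).inv :=
        ((singleFunctorCompHomologyFunctorIso 𝒜 0).inv.naturality (s n)).symm
      rw [Category.assoc, hnat, ← Category.assoc, ← Preadditive.sub_comp, ← cancel_mono (eF n).hom,
        Category.assoc, Iso.inv_hom_id, Category.comp_id]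
      apply (homEquiv U _).injective
      refine (map_sub (homEquiv U _) _ _).trans ?_
      rw [homEquiv_comp, AddEquiv.apply_symm_apply, AddEquiv.apply_symm_apply]
      exact congrFun hk n
    · exact limSurj_of_homZero fun n f => (hθ U hU n q).1 ((hz n q hq).eq_of_tgt _ _)
  have hiso := fun q => LimCoh.exists_iso_limit hd B hB hL hθ hlim q
  have hzL : ∀ q : ℤ, q ≠ 0 → IsZero ((homologyFunctor 𝒜 q).obj L₀) := fun q hq => by
    obtain ⟨e⟩ := hiso q
    refine IsZero.of_iso ?_ e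
    exact (IsZero.iff_id_eq_zero _).2 (limit.hom_ext fun ⟨n⟩ => (hz n q hq).eq_of_tgt _ _)
  haveI : L₀.IsGE 0 := (isGE_iff _ _).2 fun i hi => hzL i hi.ne
  haveI : L₀.IsLE 0 := (isLE_iff _ _).2 fun i hi => hzL i hi.ne'
  obtain ⟨M, ⟨eM⟩⟩ := exists_iso_singleFunctor_obj_of_isGE_of_isLE L₀ 0
  obtain ⟨e0⟩ := hiso 0
  have hnatF : ∀ n, (homologyFunctor 𝒜 0).map (t₀ n) ≫ (eF n).hom = (eF (n + 1)).hom ≫ s n := fun n =>
    (singleFunctorCompHomologyFunctorIso 𝒜 0).hom.naturality (s n)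
  let eSeq : CohCx.opSequence (fun n => (homologyFunctor 𝒜 0).obj (K₀ n))
      (fun n => (homologyFunctor 𝒜 0).map (t₀ n)) ≅ CohCx.opSequence F s :=
    NatIso.ofComponents (fun n => eF n.unop) fun {i j} f => by
      exact (NatTrans.ofOpSequence (F := CohCx.opSequence (fun n => (homologyFunctor 𝒜 0).obj (K₀ n))
        (fun n => (homologyFunctor 𝒜 0).map (t₀ n))) (G := CohCx.opSequence F s)
        (fun n => (eF n).hom) (fun n => by
          rw [Functor.ofOpSequence_map_homOfLE_succ, Functor.ofOpSequence_map_homOfLE_succ]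
          exact hnatF n)).naturality f
  let eL : L₀ ≅ (singleFunctor 𝒜 0).obj (limit (CohCx.opSequence F s)) :=
    eM ≪≫ (singleFunctor 𝒜 0).mapIso (((singleFunctorCompHomologyFunctorIso 𝒜 0).app M).symm ≪≫
      (homologyFunctor 𝒜 0).mapIso eM.symm ≪≫ e0 ≪≫ HasLimit.isoOfNatIso eSeq)
  refine ⟨⟨eL.inv ≫ a₀, c₀ ≫ eL.hom⟦(1 : ℤ)⟧', isomorphic_distinguished _ hd₀ _
    (Triangle.isoMk _ _ eL.symm (Iso.refl _) (Iso.refl _) (Category.comp_id _)
      ((Category.comp_id _).trans (Category.id_comp _).symm) ?_)⟩, fun U hU p => ?_⟩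
  · change (c₀ ≫ eL.hom⟦(1 : ℤ)⟧') ≫ eL.inv⟦(1 : ℤ)⟧' = 𝟙 _ ≫ c₀
    rw [Category.id_comp, Category.assoc, ← Functor.map_comp, eL.hom_inv_id,
      CategoryTheory.Functor.map_id, Category.comp_id]
  · have hzero : HomZero (W ((AbSheaf.free J).obj U) ((p : ℤ) + 1)) L₀ :=
      LimCoh.homZero_of_isZero hL (fun n => hθ U hU n _) (hlim U hU _) fun n => hz n _ (by omega)
    refine ⟨fun x y => Abelian.Ext.homEquiv.injective ?_⟩
    apply (shiftEquivHom (CohCx.freeSheaf J U) (((p + 1 : ℕ) : ℤ)) _).symm.injective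
    have h0 : HomZero (W (CohCx.freeSheaf J U) (((p + 1 : ℕ) : ℤ)))
        ((singleFunctor 𝒜 0).obj (limit (CohCx.opSequence F s))) :=
      Tower.HomZero.of_iso hzero (eqToIso (by norm_num)) eL
    exact (h0 _).trans (h0 _).symm

/-- Injectivity on sections of cohomology sheaves of the projection from a derived limit. -/
theorem injective_app (hL : CohCx.IsRlimVia K t L a) (V : C) (m : ℤ) (nV : ℕ)
    (h : ∀ T ∈ J V, ∃ (ι : Type u) (Y : ι → C) (f : ∀ i, Y i ⟶ V), (∀ i, T.arrows (f i)) ∧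
      Sieve.ofArrows Y f ∈ J V ∧ ∀ i,
        CohCx.LimOneIsZero (fun n => CohCx.HDU (K n) (m - 1) (Y i))
          (fun n => Preadditive.rightComp _ ((shiftFunctor _ (m - 1)).map (t n))) ∧
        ∀ k : ℕ, Function.Injective
          (Preadditive.rightComp _ ((shiftFunctor _ m).map (CohCx.transition K t nV k)) :
            CohCx.HDU (K (nV + k)) m (Y i) → CohCx.HDU (K nV) m (Y i))) :
    Function.Injective (((homologyFunctor _ m).map (a nV)).hom.app (op V)) := by
  refine (injective_iff_map_eq_zero _).2 fun x hx => ?_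
  apply (homEquiv V (CohCx.HD L m)).symm.injective
  rw [map_zero]
  refine LimCoh.eq_zero_of_local (K := K) (a := a) (AbSheaf.isDetecting J) nV _ ?_ fun T hT => ?_
  · apply (homEquiv V _).injective
    refine ((homEquiv_comp _ _).trans ?_).trans (map_zero _).symm
    exact (congrArg _ (AddEquiv.apply_symm_apply _ x)).trans hx
  · obtain ⟨ι, Y, f, hfT, hf, hi⟩ := h T hT
    exact ⟨ι, Y, f, hfT, hf, fun i w hw =>
      eq_zero_of_injective_hdu hL (CohCx.freeSheaf J (Y i)) m nV (hi i).1 (hi i).2 w hw⟩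

end Groth.Agent.Lib.RlimTrunc.AbLimCoh
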