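import Groth.Agent.Lib.DerCat29.CohIn
import Mathlib.Algebra.Homology.DerivedCategory.ExactFunctor

/-!
# Exact functors on bounded objects with cohomology in a weak Serre subcategory

Full faithfulness and essential surjectivity by dévissage.
-/

set_option autoImplicit false

universe w w' v v' u u'

open CategoryTheory CategoryTheory.Limits CategoryTheory.Pretriangulated

namespace Groth.Agent.Lib.RlimTrunc.BddEquiv

open Groth.Agent.Lib.DerCat29

section Five

variable {C : Type u} [Category.{v} C] [HasZeroObject C] [Preadditive C] [HasShift C ℤ]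
  [∀ n : ℤ, (shiftFunctor C n).Additive] [Pretriangulated C]
  {D : Type u'} [Category.{v'} D] [HasZeroObject D] [Preadditive D] [HasShift D ℤ]
  [∀ n : ℤ, (shiftFunctor D n).Additive] [Pretriangulated D]
  (F : C ⥤ D) [F.CommShift ℤ] [F.IsTriangulated]

/-- `F` is bijective on morphisms from `K` to `L`. -/
def Bij (K L : C) : Prop := Function.Bijective (fun φ : K ⟶ L => F.map φ)

/-- `F` is bijective on morphisms from all shifts of `K` to all shifts of `L`. -/
def BijAll (K L : C) : Prop := ∀ m n : ℤ, Bij F (K⟦m⟧) (L⟦n⟧)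

variable {F}

omit [F.CommShift ℤ] [F.IsTriangulated] in
lemma Bij.of_iso {K K' L L' : C} (h : Bij F K L) (e : K ≅ K') (e' : L ≅ L') : Bij F K' L' := by
  constructor
  · intro φ φ' hφ
    have := h.1 (a₁ := e.hom ≫ φ ≫ e'.inv) (a₂ := e.hom ≫ φ' ≫ e'.inv)
      (by simp only [F.map_comp]; rw [show F.map φ = F.map φ' from hφ])
    simpa [cancel_epi, cancel_mono] using this
  · intro ψ
    obtain ⟨φ, hφ⟩ := h.2 (F.map e.hom ≫ ψ ≫ F.map e'.inv)
    refine ⟨e.inv ≫ φ ≫ e'.hom, ?_⟩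
    simp only [F.map_comp]
    rw [show F.map φ = F.map e.hom ≫ ψ ≫ F.map e'.inv from hφ]
    simp only [Category.assoc, ← F.map_comp, Iso.inv_hom_id, F.map_id, Category.comp_id]
    rw [← Category.assoc, ← F.map_comp, Iso.inv_hom_id, F.map_id, Category.id_comp]

omit [F.IsTriangulated] in
lemma Bij.shift {K L : C} (h : Bij F K L) (p : ℤ) : Bij F (K⟦p⟧) (L⟦p⟧) := by
  have key : ∀ φ : K ⟶ L, F.map (φ⟦p⟧') =
      (F.commShiftIso p).hom.app K ≫ (F.map φ)⟦p⟧' ≫ (F.commShiftIso p).inv.app L := fun φ => by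
    have h1 := (F.commShiftIso p).hom.naturality φ
    simp only [Functor.comp_map] at h1
    rw [← Category.assoc, ← h1]
    simp
  constructor
  · intro φ φ' hφ
    obtain ⟨φ, rfl⟩ := (shiftFunctor C p).map_surjective φ
    obtain ⟨φ', rfl⟩ := (shiftFunctor C p).map_surjective φ'
    simp only [key, cancel_epi, cancel_mono] at hφ
    rw [h.1 ((shiftFunctor D p).map_injective hφ)]
  · intro ψ
    obtain ⟨χ, hχ⟩ := (shiftFunctor D p).map_surjective
      ((F.commShiftIso p).inv.app K ≫ ψ ≫ (F.commShiftIso p).hom.app L)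
    obtain ⟨φ, hφ⟩ := h.2 χ
    refine ⟨φ⟦p⟧', ?_⟩
    change F.map (φ⟦p⟧') = ψ
    rw [key, show F.map φ = χ from hφ, hχ]
    simp

omit [F.CommShift ℤ] [F.IsTriangulated] in
lemma bij_of_isZero_right [F.Additive] {K L : C} (h : IsZero L) : Bij F K L :=
  ⟨fun _ _ _ => h.eq_of_tgt _ _, fun _ => ⟨0, (F.map_isZero h).eq_of_tgt _ _⟩⟩

omit [F.CommShift ℤ] [F.IsTriangulated] in
lemma bij_of_isZero_left [F.Additive] {K L : C} (h : IsZero K) : Bij F K L :=
  ⟨fun _ _ _ => h.eq_of_src _ _, fun _ => ⟨0, (F.map_isZero h).eq_of_src _ _⟩⟩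

omit [F.IsTriangulated] in
lemma bijAll_of_zero {K L : C} (h : ∀ n : ℤ, Bij F K (L⟦n⟧)) : BijAll F K L := fun m n =>
  ((h (n - m)).shift m).of_iso (Iso.refl _)
    ((shiftFunctorAdd' C (n - m) m n (by omega)).app L).symm

lemma BijAll.of_iso {K K' L L' : C} (h : BijAll F K L) (e : K ≅ K') (e' : L ≅ L') :
    BijAll F K' L' :=
  fun m n => (h m n).of_iso ((shiftFunctor C m).mapIso e) ((shiftFunctor C n).mapIso e')

omit [F.IsTriangulated] in
lemma BijAll.shift_left {K L : C} (h : BijAll F K L) (a : ℤ) : BijAll F (K⟦a⟧) L :=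
  fun m n => (h (a + m) n).of_iso ((shiftFunctorAdd' C a m (a + m) rfl).app K) (Iso.refl _)

omit [F.IsTriangulated] in
lemma BijAll.shift_right {K L : C} (h : BijAll F K L) (a : ℤ) : BijAll F K (L⟦a⟧) :=
  fun m n => (h m (a + n)).of_iso (Iso.refl _) ((shiftFunctorAdd' C a n (a + n) rfl).app L)

/-- Five lemma in the second variable. -/
theorem bij_obj₂_right {K : C} (T : Triangle C) (hT : T ∈ distTriang C)
    (h₁ : Bij F K T.obj₁) (h₃ : Bij F K T.obj₃) (h₁' : Bij F K (T.obj₁⟦(1 : ℤ)⟧))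
    (h₃' : Bij F K (T.obj₃⟦(-1 : ℤ)⟧)) : Bij F K T.obj₂ := by
  have hT' := inv_rot_of_distTriang _ hT
  have hF := F.map_distinguished T hT
  have hF' := F.map_distinguished T.invRotate hT'
  have inj : ∀ φ : K ⟶ T.obj₂, F.map φ = 0 → φ = 0 := fun φ hφ => by
    obtain ⟨ψ, hψ⟩ := Triangle.coyoneda_exact₂ T hT φ
      (h₃.1 (by simp [F.map_comp, hφ, F.map_zero]))
    obtain ⟨ξ', hξ'⟩ := Triangle.coyoneda_exact₂ _ hF' (F.map ψ) (by
      change F.map ψ ≫ F.map T.mor₁ = 0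
      rw [← F.map_comp, ← hψ, hφ])
    obtain ⟨ξ, hξ⟩ := h₃'.2 ξ'
    have e : ψ = ξ ≫ T.invRotate.mor₁ := h₁.1 (by
      change F.map ψ = F.map (ξ ≫ T.invRotate.mor₁)
      rw [F.map_comp]
      exact hξ'.trans (congrArg (fun t => t ≫ F.map T.invRotate.mor₁) hξ.symm))
    rw [hψ, e]
    exact (Category.assoc _ _ _).trans
      ((congrArg (ξ ≫ ·) (comp_distTriang_mor_zero₁₂ _ hT')).trans comp_zero)
  constructor
  · intro φ φ' h
    exact sub_eq_zero.1 (inj _ (by rw [F.map_sub]; exact sub_eq_zero.2 h))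
  · intro φ'
    obtain ⟨χ, hχ⟩ := h₃.2 (φ' ≫ F.map T.mor₂)
    obtain ⟨φ, hφ⟩ := Triangle.coyoneda_exact₃ T hT χ (h₁'.1 (by
      change F.map (χ ≫ T.mor₃) = F.map 0
      rw [F.map_comp, show F.map χ = φ' ≫ F.map T.mor₂ from hχ, Category.assoc, ← F.map_comp,
        comp_distTriang_mor_zero₂₃ _ hT, F.map_zero, comp_zero, F.map_zero]))
    obtain ⟨ψ', hψ'⟩ := Triangle.coyoneda_exact₂ _ hF (φ' - F.map φ) (by
      change (φ' - F.map φ) ≫ F.map T.mor₂ = 0
      rw [Preadditive.sub_comp, ← F.map_comp, ← hφ, sub_eq_zero]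
      exact hχ.symm)
    obtain ⟨ψ, hψ⟩ := h₁.2 ψ'
    refine ⟨φ + ψ ≫ T.mor₁, ?_⟩
    have hψ'' : φ' - F.map φ = ψ' ≫ F.map T.mor₁ := hψ'
    change F.map _ = φ'
    rw [F.map_add, F.map_comp, show F.map ψ = ψ' from hψ]
    exact (congrArg (F.map φ + ·) hψ''.symm).trans (add_sub_cancel _ _)

/-- Five lemma in the first variable. -/
theorem bij_obj₂_left {L : C} (T : Triangle C) (hT : T ∈ distTriang C)
    (h₁ : Bij F T.obj₁ L) (h₃ : Bij F T.obj₃ L) (h₁' : Bij F (T.obj₁⟦(1 : ℤ)⟧) L)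
    (h₃' : Bij F (T.obj₃⟦(-1 : ℤ)⟧) L) : Bij F T.obj₂ L := by
  have hT' := rot_of_distTriang _ hT
  have hF := F.map_distinguished T hT
  have hF' := F.map_distinguished T.rotate hT'
  have inj : ∀ φ : T.obj₂ ⟶ L, F.map φ = 0 → φ = 0 := fun φ hφ => by
    obtain ⟨χ, hχ⟩ := Triangle.yoneda_exact₂ T hT φ
      (h₁.1 (by simp [F.map_comp, hφ, F.map_zero]))
    obtain ⟨ξ', hξ'⟩ := Triangle.yoneda_exact₂ _ hF' (F.map χ) (by
      change F.map T.mor₂ ≫ F.map χ = 0
      rw [← F.map_comp, ← hχ, hφ])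
    obtain ⟨ξ, hξ⟩ := h₁'.2 ξ'
    have e : χ = T.rotate.mor₂ ≫ ξ := h₃.1 (by
      change F.map χ = F.map (T.rotate.mor₂ ≫ ξ)
      rw [F.map_comp]
      exact hξ'.trans (congrArg (fun t => F.map T.rotate.mor₂ ≫ t) hξ.symm))
    rw [hχ, e]
    exact (Category.assoc _ _ _).symm.trans
      ((congrArg (· ≫ ξ) (comp_distTriang_mor_zero₁₂ _ hT')).trans zero_comp)
  constructor
  · intro φ φ' h
    exact sub_eq_zero.1 (inj _ (by rw [F.map_sub]; exact sub_eq_zero.2 h))
  · intro φ'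
    obtain ⟨χ, hχ⟩ := h₁.2 (F.map T.mor₁ ≫ φ')
    have hT'' := inv_rot_of_distTriang _ hT
    obtain ⟨φ, hφ⟩ : ∃ φ : T.obj₂ ⟶ L, χ = T.mor₁ ≫ φ :=
      Triangle.yoneda_exact₂ _ hT'' χ (h₃'.1 (
        (F.map_comp T.invRotate.mor₁ χ).trans
          ((congrArg (fun t => F.map T.invRotate.mor₁ ≫ t) hχ).trans
            ((Category.assoc _ _ _).symm.trans
              ((congrArg (· ≫ φ') ((F.map_comp _ _).symm.trans ((congrArg F.map
                (comp_distTriang_mor_zero₁₂ _ hT'')).trans (F.map_zero _ _)))).trans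
                  (zero_comp.trans (F.map_zero _ _).symm))))))
    obtain ⟨ψ', hψ'⟩ := Triangle.yoneda_exact₂ _ hF (φ' - F.map φ) (by
      change F.map T.mor₁ ≫ (φ' - F.map φ) = 0
      rw [Preadditive.comp_sub, ← F.map_comp, sub_eq_zero]
      exact hχ.symm.trans (congrArg F.map hφ))
    obtain ⟨ψ, hψ⟩ := h₃.2 ψ'
    refine ⟨φ + T.mor₂ ≫ ψ, ?_⟩
    have hψ'' : φ' - F.map φ = F.map T.mor₂ ≫ ψ' := hψ'
    change F.map _ = φ'
    rw [F.map_add, F.map_comp, show F.map ψ = ψ' from hψ]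
    exact (congrArg (F.map φ + ·) hψ''.symm).trans (add_sub_cancel _ _)

theorem bijAll_obj₂_right {K : C} (T : Triangle C) (hT : T ∈ distTriang C)
    (h₁ : BijAll F K T.obj₁) (h₃ : BijAll F K T.obj₃) : BijAll F K T.obj₂ := fun m n =>
  bij_obj₂_right _ (Triangle.shift_distinguished T hT n) (h₁ m n) (h₃ m n)
    (h₁.shift_right n m 1) (h₃.shift_right n m (-1))

theorem bijAll_obj₂_left {L : C} (T : Triangle C) (hT : T ∈ distTriang C)
    (h₁ : BijAll F T.obj₁ L) (h₃ : BijAll F T.obj₃ L) : BijAll F T.obj₂ L := fun m n =>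
  bij_obj₂_left _ (Triangle.shift_distinguished T hT m) (h₁ m n) (h₃ m n)
    (h₁.shift_left m 1 n) (h₃.shift_left m (-1) n)

end Five

section Bounded

open DerivedCategory

variable {A : Type u} [Category.{v} A] [Abelian A] [HasDerivedCategory.{w} A]
  (P : ObjectProperty A) [WSerre.IsWeakSerre P]

/-- Induction on bounded objects with cohomology in a weak Serre subcategory. -/
theorem of_bounded (R : DerivedCategory A → Prop)
    (hiso : ∀ {X Y : DerivedCategory A}, (X ≅ Y) → R X → R Y)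
    (hzero : ∀ X : DerivedCategory A, IsZero X → R X)
    (hsingle : ∀ (M : A) (a : ℤ), P M → R ((singleFunctor A a).obj M))
    (hext : ∀ T : Triangle (DerivedCategory A), T ∈ distTriang (DerivedCategory A) →
      R T.obj₁ → R T.obj₃ → R T.obj₂)
    (K : DerivedCategory A) (hK : WSerre.cohInBdd P K) : R K := by
  obtain ⟨hP, ⟨a, ha⟩, ⟨b, hb⟩⟩ := hK
  obtain ⟨k, hk⟩ : ∃ k : ℕ, b < a + k := ⟨(b - a + 1).toNat, by lia⟩
  induction k generalizing K b with
  | zero =>
    exact hzero K (TStructure.t.isZero K b a (by lia))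
  | succ k ih =>
    have hle : TStructure.t.IsLE K (a + k) := TStructure.t.isLE_of_le K b _ (by lia)
    have hT := TStructure.t.triangleLTGE_distinguished (a + k) K
    refine hext _ hT (ih _ (CohIn.cohIn_truncLT P hP (a + k)) ?_ (a + k - 1)
      (inferInstance : TStructure.t.IsLE ((TStructure.t.truncLT (a + k)).obj K) (a + k - 1))
      (by lia)) ?_
    · by_cases hk0 : k = 0
      · subst hk0
        have : TStructure.t.IsGE K (a + ((0 : ℕ) : ℤ)) := by simpa using ha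
        have hz : IsZero ((TStructure.t.truncLT (a + ((0 : ℕ) : ℤ))).obj K) :=
          (TStructure.t.isGE_iff_isZero_truncLT_obj _ K).1 this
        exact TStructure.t.isGE_of_isZero hz a
      · haveI : DerivedCategory.IsGE K a := ha
        change DerivedCategory.IsGE _ a
        rw [DerivedCategory.isGE_iff]
        intro i hi
        have := @DerCat.TStruct.isIso_homologyMap_mor₁ _ _ _ _ _ hT (a + k)
          (inferInstance : TStructure.t.IsGE ((TStructure.t.truncGE (a + k)).obj K) (a + k)) i (by lia)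
        exact (isZero_of_isGE K a i hi).of_iso (@asIso _ _ _ _ _ this :
          (homologyFunctor A i).obj ((TStructure.t.truncLT (a + k)).obj K) ≅ (homologyFunctor A i).obj K)
    · let Z := (TStructure.t.truncGE (a + k)).obj K
      have hZ : WSerre.cohIn P Z := CohIn.cohIn_truncGE P hP _
      haveI : Z.IsGE (a + k) := (inferInstance : TStructure.t.IsGE Z (a + k))
      haveI : Z.IsLE (a + k) := by
        rw [DerivedCategory.isLE_iff]
        intro i hi
        have hm := @DerCat.TStruct.isIso_homologyMap_mor₂ _ _ _ _ _ hT (a + k - 1)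
          (inferInstance : TStructure.t.IsLE ((TStructure.t.truncLT (a + k)).obj K) (a + k - 1)) i (by lia)
        haveI : DerivedCategory.IsLE K (a + k) := hle
        exact (isZero_of_isLE K (a + k) i hi).of_iso (@asIso _ _ _ _ _ hm :
          (homologyFunctor A i).obj K ≅ (homologyFunctor A i).obj Z).symm
      obtain ⟨M, ⟨e⟩⟩ := exists_iso_singleFunctor_obj_of_isGE_of_isLE Z (a + k)
      exact hiso e.symm (hsingle M _ (P.prop_of_iso ((homologyFunctor A (a + k)).mapIso e ≪≫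
        (singleFunctorCompHomologyFunctorIso A (a + k)).app M) (hZ _)))

lemma cohInBdd_single (M : A) (a : ℤ) (hM : P M) : WSerre.cohInBdd P ((singleFunctor A a).obj M) := by
  refine ⟨fun i => ?_, ⟨a, inferInstanceAs (((singleFunctor A a).obj M).IsGE a)⟩,
    ⟨a, inferInstanceAs (((singleFunctor A a).obj M).IsLE a)⟩⟩
  by_cases hi : i = a
  · subst hi
    exact P.prop_of_iso ((singleFunctorCompHomologyFunctorIso A i).app M).symm hM
  · refine CohIn.prop_of_isZero P ?_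
    rcases lt_or_gt_of_ne hi with h | h
    · exact isZero_of_isGE _ a i h
    · exact isZero_of_isLE _ a i h

lemma cohInBdd_obj₂ (T : Triangle (DerivedCategory A)) (hT : T ∈ distTriang (DerivedCategory A))
    (h₁ : WSerre.cohInBdd P T.obj₁) (h₃ : WSerre.cohInBdd P T.obj₃) :
    WSerre.cohInBdd P T.obj₂ := by
  obtain ⟨hP₁, ⟨a₁, ha₁⟩, ⟨b₁, hb₁⟩⟩ := h₁
  obtain ⟨hP₃, ⟨a₃, ha₃⟩, ⟨b₃, hb₃⟩⟩ := h₃
  exact ⟨CohIn.cohIn_obj₂ P T hT hP₁ hP₃,
    ⟨min a₁ a₃, TStructure.t.isGE₂ T hT _ (TStructure.t.isGE_of_ge _ _ a₁ (by lia))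
      (TStructure.t.isGE_of_ge _ _ a₃ (by lia))⟩,
    ⟨max b₁ b₃, TStructure.t.isLE₂ T hT _ (TStructure.t.isLE_of_le _ b₁ _ (by lia))
      (TStructure.t.isLE_of_le _ b₃ _ (by lia))⟩⟩

variable {B : Type u'} [Category.{v'} B] [Abelian B] [HasDerivedCategory.{w'} B]
  (G : A ⥤ B) [G.Additive] [PreservesFiniteLimits G] [PreservesFiniteColimits G]
  (Q : ObjectProperty B) [WSerre.IsWeakSerre Q]

theorem cohInBdd_map (h1 : ∀ M, P M → Q (G.obj M)) (K : DerivedCategory A)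
    (hK : WSerre.cohInBdd P K) : WSerre.cohInBdd Q (G.mapDerivedCategory.obj K) := by
  obtain ⟨hP, ⟨a, ha⟩, ⟨b, hb⟩⟩ := hK
  exact ⟨CohIn.cohIn_mapDerivedCategory P Q G h1 K hP, ⟨a, DR.ExactPush.isGE_map G ha⟩,
    ⟨b, DR.ExactPush.isLE_map G hb⟩⟩

theorem bijective_map
    (h2 : ∀ M M' : A, P M → P M' → ∀ n : ℤ, Function.Bijective
      (fun φ : ((singleFunctor A 0).obj M ⟶ ((singleFunctor A 0).obj M')⟦n⟧) =>
        G.mapDerivedCategory.map φ))
    (K L : DerivedCategory A) (hK : WSerre.cohInBdd P K) (hL : WSerre.cohInBdd P L) :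
    Function.Bijective (fun φ : (K ⟶ L) => G.mapDerivedCategory.map φ) := by
  let F := G.mapDerivedCategory
  have h0 : ∀ M M' : A, P M → P M' → ∀ a a' : ℤ,
      BijAll F ((singleFunctor A a).obj M) ((singleFunctor A a').obj M') := fun M M' hM hM' a a' =>
    (((bijAll_of_zero (F := F) (h2 M M' hM hM')).shift_left (-a)).shift_right (-a')).of_iso
      (((singleFunctors A).shiftIso (-a) a 0 (by lia)).app M)
      (((singleFunctors A).shiftIso (-a') a' 0 (by lia)).app M')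
  have h : BijAll F K L :=
    of_bounded P (fun X => BijAll F X L) (fun e h => h.of_iso e (Iso.refl _))
      (fun X hX m n => bij_of_isZero_left ((shiftFunctor _ m).map_isZero hX))
      (fun M a hM => of_bounded P (fun Y => BijAll F _ Y) (fun e h => h.of_iso (Iso.refl _) e)
        (fun Y hY m n => bij_of_isZero_right ((shiftFunctor _ n).map_isZero hY))
        (fun M' a' hM' => h0 M M' hM hM' a a')
        (fun T hT => bijAll_obj₂_right T hT) L hL)
      (fun T hT => bijAll_obj₂_left T hT) K hK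
  exact (h 0 0).of_iso ((shiftFunctorZero (DerivedCategory A) ℤ).app K)
    ((shiftFunctorZero (DerivedCategory A) ℤ).app L)

theorem exists_preimage
    (h2 : ∀ M M' : A, P M → P M' → ∀ n : ℤ, Function.Bijective
      (fun φ : ((singleFunctor A 0).obj M ⟶ ((singleFunctor A 0).obj M')⟦n⟧) =>
        G.mapDerivedCategory.map φ))
    (he : ∀ N, Q N → ∃ M, P M ∧ Nonempty (G.obj M ≅ N))
    (N : DerivedCategory B) (hN : WSerre.cohInBdd Q N) :
    ∃ K, WSerre.cohInBdd P K ∧ Nonempty (G.mapDerivedCategory.obj K ≅ N) := by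
  let F := G.mapDerivedCategory
  refine of_bounded Q (fun X => ∃ K, WSerre.cohInBdd P K ∧ Nonempty (F.obj K ≅ X))
    (fun e ⟨K, hK, ⟨e'⟩⟩ => ⟨K, hK, ⟨e' ≪≫ e⟩⟩) ?_ ?_ ?_ N hN
  · intro X hX
    obtain ⟨Z, hZ, hPZ⟩ := P.exists_prop_of_containsZero
    exact ⟨(singleFunctor A 0).obj Z, cohInBdd_single P Z 0 hPZ,
      ⟨(F.map_isZero ((singleFunctor A 0).map_isZero hZ)).iso hX⟩⟩
  · intro M a hM
    obtain ⟨M', hM', ⟨e⟩⟩ := he M hM
    exact ⟨_, cohInBdd_single P M' a hM',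
      ⟨DR.ExactPush.mapSingle G M' a ≪≫ (singleFunctor B a).mapIso e⟩⟩
  · rintro T hT ⟨K₁, hK₁, ⟨e₁⟩⟩ ⟨K₃, hK₃, ⟨e₃⟩⟩
    have hK₁' : WSerre.cohInBdd P (K₁⟦(1 : ℤ)⟧) :=
      ⟨fun i => P.prop_of_iso (((homologyFunctor A 0).shiftIso 1 i (i + 1) (by lia)).app K₁).symm
        (hK₁.1 (i + 1)), (TStructure.t.bounded.le_shift 1 _ hK₁.2)⟩
    obtain ⟨δ, hδ⟩ := (bijective_map P G h2 K₃ _ hK₃ hK₁').2
      (e₃.hom ≫ T.mor₃ ≫ e₁.inv⟦(1 : ℤ)⟧' ≫ (F.commShiftIso (1 : ℤ)).inv.app K₁)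
    obtain ⟨K₂, f, g, hd⟩ := distinguished_cocone_triangle₂ δ
    refine ⟨K₂, cohInBdd_obj₂ P _ hd hK₁ hK₃, ⟨Triangle.π₂.mapIso
      (isoTriangleOfIso₁₃ _ _ (F.map_distinguished _ hd) hT e₁ e₃ ?_)⟩⟩
    change (F.map δ ≫ (F.commShiftIso (1 : ℤ)).hom.app K₁) ≫ e₁.hom⟦(1 : ℤ)⟧' = e₃.hom ≫ T.mor₃
    rw [show F.map δ = _ from hδ]
    simp only [Category.assoc, Iso.inv_hom_id_app_assoc, ← Functor.map_comp, Iso.inv_hom_id]
    exact congrArg (e₃.hom ≫ ·) ((congrArg (T.mor₃ ≫ ·) ((shiftFunctor _ (1 : ℤ)).map_id _)).trans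
      (Category.comp_id _))

end Bounded

end Groth.Agent.Lib.RlimTrunc.BddEquiv
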