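import Groth.Agent.Lib.RlimTrunc.Tower
import Groth.Agent.Lib.RlimTrunc.Single
import Groth.Agent.Lib.DerCat.TStruct

/-!
# Vanishing of morphisms into a bounded below object
-/

set_option autoImplicit false
set_option linter.unusedSectionVars false

universe w v u

open CategoryTheory CategoryTheory.Limits CategoryTheory.Pretriangulated DerivedCategory

namespace Groth.Agent.Lib.RlimTrunc.Devissage

open Tower Single

variable {A : Type u} [Category.{v} A] [Abelian A] [HasDerivedCategory.{w} A]

/-- `W g a⟦n⟧ ≅ W g a'`. -/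
noncomputable def shiftW (g : A) (n a' a : ℤ) (h : n + a' = a) : (W g a)⟦n⟧ ≅ W g a' :=
  ((singleFunctors A).shiftIso n a' a h).app g

instance isGE_W (g : A) (m : ℤ) : (W g m).IsGE m :=
  inferInstanceAs (((singleFunctor A m).obj g).IsGE m)

instance isLE_W (g : A) (m : ℤ) : (W g m).IsLE m :=
  inferInstanceAs (((singleFunctor A m).obj g).IsLE m)

/-- Vanishing of `Ext^k(g, F)`, in the derived category. -/
def ExtVanish (g F : A) (k : ℕ) : Prop := HomZero (W g 0) ((W F 0)⟦(k : ℤ)⟧)

lemma ExtVanish.of_iso {g F F' : A} {k : ℕ} (h : ExtVanish g F k) (e : F ≅ F') :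
    ExtVanish g F' k :=
  HomZero.of_iso h (Iso.refl _) ((shiftFunctor _ (k : ℤ)).mapIso (Q.mapIso
    ((HomologicalComplex.single A (ComplexShape.up ℤ) 0).mapIso e)))

lemma extVanish_of_isZero (g : A) {F : A} (h : IsZero F) (k : ℕ) : ExtVanish g F k :=
  HomZero.of_isZero ((Functor.map_isZero _ (Functor.map_isZero _
    (Functor.map_isZero (HomologicalComplex.single A (ComplexShape.up ℤ) 0) h))))

lemma homZero_single {g F : A} {m a : ℤ} {k : ℕ} (hk : (k : ℤ) = m - a) (h : ExtVanish g F k) :
    HomZero (W g m) (W F a) := fun f => by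
  apply (shiftFunctor (DerivedCategory A) m).map_injective
  rw [Functor.map_zero]
  exact (HomZero.of_iso h (shiftW g m 0 m (by omega)).symm
    ((shiftW F (k : ℤ) (a - m) 0 (by omega)) ≪≫ (shiftW F m (a - m) a (by omega)).symm)) _

lemma homZero_shift_one {g : A} {m : ℤ} {Z : DerivedCategory A} (h : HomZero (W g (m - 1)) Z) :
    HomZero ((W g m)⟦(1 : ℤ)⟧) Z :=
  h.of_iso (shiftW g 1 (m - 1) m (by omega)).symm (Iso.refl _)

/-- A morphism from `W g m` to a bounded below object is zero if the `Ext` groups into its cohomology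
objects vanish. -/
theorem homZero_of_forall {g : A} {m : ℤ} (d : ℕ) : ∀ (a : ℤ) (Z : DerivedCategory A) [Z.IsGE a],
    a + d = m + 1 →
    (∀ q, a ≤ q → q ≤ m → ExtVanish g ((homologyFunctor A q).obj Z) (m - q).toNat) →
    HomZero (W g m) Z := by
  induction d with
  | zero =>
    intro a Z _ had _ f
    exact TStructure.t.zero_of_isLE_of_isGE f m a (by omega) inferInstance inferInstance
  | succ d ih =>
    intro a Z _ had hq f
    let T := (TStructure.t.triangleLTGE (a + 1)).obj Z
    have hT : T ∈ distTriang (DerivedCategory A) := TStructure.t.triangleLTGE_distinguished _ Z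
    have h₁le : DerivedCategory.IsLE T.obj₁ a := by
      have : TStructure.t.IsLE ((TStructure.t.truncLT (a + 1)).obj Z) a := inferInstance
      exact this
    have h₃ge : DerivedCategory.IsGE T.obj₃ (a + 1) :=
      (inferInstance : TStructure.t.IsGE ((TStructure.t.truncGE (a + 1)).obj Z) (a + 1))
    have iso₁ : ∀ i, i ≤ a → IsIso ((homologyFunctor A i).map T.mor₁) := fun i hi =>
      DerCat.TStruct.isIso_homologyMap_mor₁ T hT (a + 1) i (by omega)
    have iso₂ : ∀ i, a < i → IsIso ((homologyFunctor A i).map T.mor₂) := fun i hi =>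
      DerCat.TStruct.isIso_homologyMap_mor₂ T hT a i hi
    have h₁ge : DerivedCategory.IsGE T.obj₁ a := (isGE_iff _ _).2 fun i hi => by
      exact (isZero_of_isGE Z a i hi).of_iso
        (@asIso _ _ _ _ _ (iso₁ i (by omega)) : (homologyFunctor A i).obj T.obj₁ ≅
          (homologyFunctor A i).obj Z)
    have h₃ : HomZero (W g m) T.obj₃ := ih (a + 1) T.obj₃ (by omega) fun q hq₁ hq₂ => by
      exact (hq q (by omega) hq₂).of_iso
        (@asIso _ _ _ _ _ (iso₂ q (by omega)) : (homologyFunctor A q).obj Z ≅
          (homologyFunctor A q).obj T.obj₃)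
    obtain ⟨g', hg'⟩ := Triangle.coyoneda_exact₂ T hT f (h₃ _)
    obtain ⟨Y, ⟨e⟩⟩ := exists_iso_singleFunctor_obj_of_isGE_of_isLE T.obj₁ a
    have hY : ExtVanish g Y (m - a).toNat := by
      have := iso₁ a le_rfl
      exact (hq a le_rfl (by omega)).of_iso ((asIso ((homologyFunctor A a).map T.mor₁)).symm ≪≫
        (homologyFunctor A a).mapIso e ≪≫ (singleFunctorCompHomologyFunctorIso A a).app Y)
    have h₁ : HomZero (W g m) T.obj₁ :=
      (homZero_single (a := a) (by omega) hY).of_iso (Iso.refl _) e.symm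
    exact hg'.trans ((congrArg (· ≫ T.mor₁) (h₁ g')).trans zero_comp)

/-- The cohomology of the third object vanishes where the first map is bijective. -/
lemma isZero_homology_obj₃ (T : Triangle (DerivedCategory A)) (hT : T ∈ distTriang (DerivedCategory A))
    (q q' : ℤ) (h : q + 1 = q') [Epi ((homologyFunctor A q).map T.mor₁)]
    [Mono ((homologyFunctor A q').map T.mor₁)] : IsZero ((homologyFunctor A q).obj T.obj₃) :=
  (HomologySequence.exact₃ T hT q q' h).isZero_X₂
    ((HomologySequence.epi_homologyMap_mor₁_iff T hT q).1 inferInstance)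
    ((HomologySequence.mono_homologyMap_mor₁_iff T hT q q' h).1 inferInstance)

end Groth.Agent.Lib.RlimTrunc.Devissage
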