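import Groth.Agent.Lib.RlimTrunc.ModEquiv
import Mathlib.CategoryTheory.Adjunction.FullyFaithful

/-!
# Comparing two topologies: modules without higher cohomology on a covering class
-/

set_option autoImplicit false
set_option linter.unusedSectionVars false

universe u

open CategoryTheory CategoryTheory.Limits CategoryTheory.Pretriangulated Opposite DerivedCategory
open CategoryTheory.Abelian

attribute [local instance] HasDerivedCategory.standard
attribute [local instance] Groth.Agent.Lib.DerivedOX.Exists.isLeftAdjoint_Qh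

namespace Groth.Agent.Lib.RlimTrunc.Eps

open Single Devissage Main

variable {C : Type u} [SmallCategory C] {J J' : GrothendieckTopology C} (h : J' ≤ J)
  (O : Sheaf J CommRingCat.{u})

/-- The comparison direct image is fully faithful. -/
theorem full_faithful :
    (SiteCmp.eps h O).push.Full ∧ (SiteCmp.eps h O).push.Faithful := by
  refine ⟨⟨fun {M N} g => ⟨⟨PresheafOfModules.homMk
    (((PresheafOfModules.toPresheaf _).map g.val :) : M.val.presheaf ⟶ N.val.presheaf)
    fun U r m => ((g.val.app U).hom.map_smul r m :)⟩, ?_⟩⟩, ⟨fun {M N} g₁ g₂ hg => ?_⟩⟩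
  · ext U m
    rfl
  · ext U m
    exact ConcreteCategory.congr_hom (congrArg (fun k => k.val.app U) hg) m

/-- The counit of the comparison adjunction is invertible. -/
theorem isIso_counit : IsIso (SiteCmp.eps h O).adj.counit := by
  have := (full_faithful h O).1
  have := (full_faithful h O).2
  infer_instance

/-- Every sieve is generated by a small family. -/
lemma exists_ofArrows (U : C) (T : Sieve U) :
    ∃ (ι : Type u) (Y : ι → C) (f : ∀ i, Y i ⟶ U), Sieve.ofArrows Y f = T := by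
  refine ⟨{q : Σ W, W ⟶ U // T.arrows q.2}, fun q => q.1.1, fun q => q.1.2, ?_⟩
  refine le_antisymm ?_ fun W e he => ⟨_, 𝟙 _, _,
    Presieve.ofArrows.mk (⟨⟨W, e⟩, he⟩ : {q : Σ W, W ⟶ U // T.arrows q.2}), Category.id_comp _⟩
  rintro W e ⟨_, u, _, ⟨q⟩, rfl⟩
  exact T.downward_closed q.2 u

variable (A : ObjectProperty (_root_.ModSite.Mod O)) (B : Set C)
  (h3 : ∀ U : C, ∃ (ι : Type u) (Y : ι → C) (g : ∀ i, Y i ⟶ U),
    Sieve.ofArrows Y g ∈ J' U ∧ ∀ i, Y i ∈ B)
  (h4 : ∀ U ∈ B, ∀ F : _root_.ModSite.Mod O, A F → ∀ p : ℕ, 0 < p →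
    Subsingleton (_root_.ModSite.HU O F p U))

include h h3 h4 in
lemma cofinalGood : CofinalGood.{u, u, u} J fun Y (d : ℕ) => ∀ M, A M → ∀ k : ℕ, d < k →
    Subsingleton (_root_.ModSite.HU O M k Y) :=
  CofinalGood.of_forall B 0 (fun U => by
    obtain ⟨ι, Y, g, hg, hY⟩ := h3 U
    exact ⟨ι, Y, g, h U hg, hY⟩) (fun V hV M hM k hk => h4 V hV M hM k hk) exists_ofArrows

include h h3 h4 in
lemma cofinalGood' : CofinalGood.{u, u, u} J' fun Y (d : ℕ) => ∀ M, A M → ∀ k : ℕ, d < k →
    Subsingleton (_root_.ModSite.HU O M k ((SiteCmp.eps h O).fn.obj Y)) :=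
  CofinalGood.of_forall B 0 h3 (fun V hV M hM k hk => h4 V hV M hM k hk) exists_ofArrows

include h h3 h4 in
/-- Higher direct images vanish on the class. -/
theorem isZero_rpush (M : _root_.ModSite.Mod O) (hM : A M) (p : ℕ) (hp : 0 < p) :
    IsZero (((SiteCmp.eps h O).Rpush p).obj M) := by
  let f := SiteCmp.eps h O
  let P := injectiveResolution M
  let hd := ModSheaf.isDetecting (SiteCmp.epsRing h O)
  let pr := RightPres.pres f.adj hd (p : ℤ)
  have h0 : IsZero ((homologyFunctor _ (p : ℤ)).obj ((RightPres.R f.push).obj (W M 0))) := by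
    rw [IsZero.iff_id_eq_zero]
    refine hd.separating _ fun U s => ?_
    rw [Category.comp_id]
    obtain ⟨S, hS, hS'⟩ := pr.exists_lift (L := W M 0) s
    refine hd.eq_zero_of_local s S hS fun Y g hg => ?_
    obtain ⟨w, hw⟩ := hS' g hg
    obtain ⟨ι, Z, e, he, hZ⟩ := h3 Y
    refine hd.eq_zero_of_cover _ Z e he fun i => ?_
    have hv := ModPush.extVanish_of_subsingleton_hu f (Z i) M p (h4 _ (hZ i) M hM p hp)
    have h0 := homZero_single (a := 0) (m := (p : ℤ)) (by omega) hv
      ((Main.testObj (ModSheaf.free (SiteCmp.epsRing h O) ⋙ f.pull) (p : ℤ)).map (e i) ≫ w)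
    refine ((congrArg (_ ≫ ·) hw.symm).trans (pr.θ_left (e i) w).symm).trans ?_
    exact (congrArg (fun k => pr.θ k) h0).trans (pr.θ_zero _ _)
  exact h0.of_iso (((homologyFunctor _ (p : ℤ)).mapIso (RightSingle.RWIso f.push P)) ≪≫
    (hIso _ (p : ℤ)).symm ≪≫ DerCat.RFObj.mapResHomologyIso f.push P p).symm

include h h3 h4 in
/-- The direct image is exact on short exact sequences with kernel in the class. -/
theorem shortExact_map {S : ShortComplex (_root_.ModSite.Mod O)} (hS : S.ShortExact) (h₁ : A S.X₁) :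
    (S.map (SiteCmp.eps h O).push).ShortExact := by
  let f := SiteCmp.eps h O
  let hd := ModSheaf.isDetecting (SiteCmp.epsRing h O)
  haveI : f.push.IsRightAdjoint := f.adj.isRightAdjoint
  haveI := hS.mono_f
  have hepi : Epi (f.push.map S.g) := by
    refine Preadditive.epi_of_cancel_zero _ fun {Q} ψ hψ => hd.separating ψ fun U s => ?_
    obtain ⟨ι, Y, e, he, hY⟩ := h3 U
    refine hd.eq_zero_of_cover _ Y e he fun i => ?_
    let s' := (f.adj.homEquiv _ _).symm ((ModSheaf.free (SiteCmp.epsRing h O)).map (e i) ≫ s)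
    have hsub : Subsingleton (Ext (f.pull.obj ((ModSheaf.free (SiteCmp.epsRing h O)).obj (Y i)))
        S.X₁ 1) := ModPush.subsingleton_ext_of_subsingleton_hu f (Y i) S.X₁ 1
          (h4 _ (hY i) _ h₁ 1 one_pos)
    obtain ⟨y, hy⟩ := Ext.covariant_sequence_exact₃ _ hS (Ext.mk₀ s') (zero_add 1) (hsub.elim _ _)
    obtain ⟨y, rfl⟩ := (Ext.mk₀_bijective _ _).2 y
    rw [Ext.mk₀_comp_mk₀] at hy
    have hys : f.adj.homEquiv _ _ y ≫ f.push.map S.g =
        (ModSheaf.free (SiteCmp.epsRing h O)).map (e i) ≫ s := by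
      rw [← Adjunction.homEquiv_naturality_right, (Ext.mk₀_bijective _ _).1 hy]
      exact Equiv.apply_symm_apply _ _
    rw [← Category.assoc, ← hys, Category.assoc, hψ, comp_zero]
  refine ShortComplex.ShortExact.mk' ?_ (f.push.map_mono _) hepi
  exact ShortComplex.exact_of_f_is_kernel _
    (KernelFork.mapIsLimit _ hS.fIsKernel f.push)

include h h3 h4 in
/-- The essential image of the class is a weak Serre class. -/
theorem isWeakSerre_map [WSerre.IsWeakSerre A] [PreservesFiniteLimits (SiteCmp.eps h O).pull] :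
    WSerre.IsWeakSerre (A.map (SiteCmp.eps h O).push) := by
  let f := SiteCmp.eps h O
  haveI := (full_faithful h O).1
  haveI := (full_faithful h O).2
  haveI := isIso_counit h O
  haveI : f.push.IsRightAdjoint := f.adj.isRightAdjoint
  refine { exists_zero := ?_, kernels_le := ?_, cokernels_le := ?_, prop_X₂_of_shortExact := ?_ }
  · obtain ⟨Z, hZ, hAZ⟩ := A.exists_prop_of_containsZero
    exact ⟨_, f.push.map_isZero hZ, A.prop_map_obj _ hAZ⟩
  · rintro _ ⟨φ, k, hk, ⟨X₁, h₁, ⟨e₁⟩⟩, ⟨X₂, h₂, ⟨e₂⟩⟩⟩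
    obtain ⟨φ', hφ'⟩ := f.push.map_surjective (e₁.hom ≫ φ ≫ e₂.inv)
    refine ⟨kernel φ', A.prop_of_isLimit_kernelFork (limit.isLimit _) h₁ h₂,
      ⟨PreservesKernel.iso f.push φ' ≪≫ kernel.mapIso _ φ e₁ e₂ (by rw [hφ']; simp) ≪≫
        (kernelIsKernel φ).conePointUniqueUpToIso hk⟩⟩
  · rintro _ ⟨φ, k, hk, ⟨X₁, h₁, ⟨e₁⟩⟩, ⟨X₂, h₂, ⟨e₂⟩⟩⟩
    obtain ⟨φ', hφ'⟩ := f.push.map_surjective (e₁.hom ≫ φ ≫ e₂.inv)
    have hK : A (kernel φ') := A.prop_of_isLimit_kernelFork (limit.isLimit _) h₁ h₂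
    have hQ : A (cokernel φ') := A.prop_of_isColimit_cokernelCofork (colimit.isColimit _) h₁ h₂
    let S₁ := ShortComplex.mk (kernel.ι φ') (cokernel.π (kernel.ι φ')) (cokernel.condition _)
    have hS₁ : S₁.ShortExact :=
      { exact := ShortComplex.exact_of_g_is_cokernel _ (cokernelIsCokernel _) }
    have hI : A S₁.X₃ := A.prop_of_isColimit_cokernelCofork (colimit.isColimit _) hK h₁
    let i : S₁.X₃ ⟶ X₂ := cokernel.desc _ φ' (kernel.condition φ')
    have hw : i ≫ cokernel.π φ' = 0 := by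
      rw [← cancel_epi (cokernel.π (kernel.ι φ'))]
      simp [i, S₁]
    haveI : Mono i := (ShortComplex.exact_iff_mono_cokernel_desc
      (ShortComplex.mk _ _ (kernel.condition φ'))).1
        (ShortComplex.exact_of_f_is_kernel _ (kernelIsKernel φ'))
    have hS₂ : (ShortComplex.mk i (cokernel.π φ') hw).ShortExact :=
      { exact := by
          let ψ : ShortComplex.mk φ' (cokernel.π φ') (cokernel.condition φ') ⟶
              ShortComplex.mk i (cokernel.π φ') hw :=
            { τ₁ := cokernel.π (kernel.ι φ'), τ₂ := 𝟙 _, τ₃ := 𝟙 _ }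
          exact (ShortComplex.exact_iff_of_epi_of_isIso_of_mono ψ).1
            (ShortComplex.exact_of_g_is_cokernel _ (cokernelIsCokernel φ')) }
    have e₁' := shortExact_map h O A B h3 h4 hS₁ hK
    have e₂' := shortExact_map h O A B h3 h4 hS₂ hI
    haveI : Epi (f.push.map S₁.g) := e₁'.epi_g
    haveI : Epi (f.push.map (cokernel.π φ')) := e₂'.epi_g
    have hexact : (ShortComplex.mk (f.push.map φ') (f.push.map (cokernel.π φ'))
        (by rw [← Functor.map_comp, cokernel.condition, Functor.map_zero])).Exact := by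
      let ψ : ShortComplex.mk (f.push.map φ') (f.push.map (cokernel.π φ'))
          (by rw [← Functor.map_comp, cokernel.condition, Functor.map_zero]) ⟶
          (ShortComplex.mk i (cokernel.π φ') hw).map f.push :=
        { τ₁ := f.push.map S₁.g, τ₂ := 𝟙 _, τ₃ := 𝟙 _
          comm₁₂ := ((f.push.map_comp _ _).symm.trans
            (congrArg f.push.map (cokernel.π_desc _ _ _))).trans (Category.comp_id _).symm }
      haveI : Epi ψ.τ₁ := e₁'.epi_g
      haveI : IsIso ψ.τ₂ := inferInstanceAs (IsIso (𝟙 _))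
      haveI : Mono ψ.τ₃ := inferInstanceAs (Mono (𝟙 _))
      exact (ShortComplex.exact_iff_of_epi_of_isIso_of_mono ψ).2 e₂'.exact
    refine ⟨cokernel φ', hQ, ⟨((cokernelIsCokernel (f.push.map φ')).coconePointUniqueUpToIso
      hexact.gIsCokernel).symm ≪≫ cokernel.mapIso _ φ e₁ e₂ (by rw [hφ']; simp) ≪≫
      (cokernelIsCokernel φ).coconePointUniqueUpToIso hk⟩⟩
  · rintro S hS ⟨X₁, h₁, ⟨e₁⟩⟩ ⟨X₃, h₃, ⟨e₃⟩⟩
    haveI : PreservesFiniteLimits f.pull := inferInstanceAs (PreservesFiniteLimits (SiteCmp.eps h O).pull)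
    have hS' : (S.map f.pull).ShortExact := hS.map_of_exact f.pull
    have hu : ∀ X, IsIso (f.adj.unit.app (f.push.obj X)) := fun X => by
      have := f.adj.right_triangle_components X
      exact @IsIso.of_isIso_comp_right _ _ _ _ _ (f.adj.unit.app (f.push.obj X))
        (f.push.map (f.adj.counit.app X)) inferInstance (by rw [this]; infer_instance)
    have hA₁ : A (f.pull.obj S.X₁) :=
      A.prop_of_iso ((asIso (f.adj.counit.app X₁)).symm ≪≫ f.pull.mapIso e₁) h₁
    have hA₃ : A (f.pull.obj S.X₃) :=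
      A.prop_of_iso ((asIso (f.adj.counit.app X₃)).symm ≪≫ f.pull.mapIso e₃) h₃
    have hA₂ : A (f.pull.obj S.X₂) := A.prop_X₂_of_shortExact hS' hA₁ hA₃
    let η : S ⟶ (S.map f.pull).map f.push :=
      { τ₁ := f.adj.unit.app _, τ₂ := f.adj.unit.app _, τ₃ := f.adj.unit.app _
        comm₁₂ := (f.adj.unit.naturality S.f).symm
        comm₂₃ := (f.adj.unit.naturality S.g).symm }
    haveI : IsIso η.τ₁ := (NatTrans.isIso_app_iff_of_iso f.adj.unit e₁).1 (hu X₁)
    haveI : IsIso η.τ₃ := (NatTrans.isIso_app_iff_of_iso f.adj.unit e₃).1 (hu X₃)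
    haveI : IsIso η.τ₂ :=
      ShortComplex.isIso₂_of_shortExact_of_isIso₁₃ η hS (shortExact_map h O A B h3 h4 hS' hA₁)
    exact ⟨f.pull.obj S.X₂, hA₂, ⟨(asIso η.τ₂).symm⟩⟩

variable [PreservesFiniteLimits (SiteCmp.eps h O).pull] [SiteCmp.HasRpushD (SiteCmp.eps h O)]
  (adj : SiteCmp.pullD (SiteCmp.eps h O) ⊣ SiteCmp.RpushD (SiteCmp.eps h O))

include h h3 h4 in
/-- The unit is invertible on the image of the class. -/
theorem isIso_unit (F' : _root_.ModSite.Mod (SiteCmp.epsRing h O))
    (hF' : (A.map (SiteCmp.eps h O).push) F') :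
    IsIso (adj.unit.app (SiteCmp.inD (SiteCmp.epsRing h O) F')) := by
  let f := SiteCmp.eps h O
  obtain ⟨M, hM, ⟨e⟩⟩ := hF'
  haveI := (full_faithful h O).1
  haveI := (full_faithful h O).2
  haveI := isIso_counit h O
  have hu : IsIso (f.adj.unit.app F') := (NatTrans.isIso_app_iff_of_iso f.adj.unit e).1 (by
    have := f.adj.right_triangle_components M
    exact @IsIso.of_isIso_comp_right _ _ _ _ _ (f.adj.unit.app (f.push.obj M))
      (f.push.map (f.adj.counit.app M)) inferInstance (by rw [this]; infer_instance))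
  let s := DerivedCategory.singleFunctor (_root_.ModSite.Mod (SiteCmp.epsRing h O)) 0
  let eM : (SiteCmp.pullD f).obj (s.obj F') ≅ W M 0 :=
    DR.ExactPush.mapSingle f.pull F' 0 ≪≫ (DerivedCategory.singleFunctor _ 0).mapIso
      (f.pull.mapIso e.symm ≪≫ asIso (f.adj.counit.app M))
  let eT := (SiteCmp.RpushD f).mapIso eM ≪≫
    ((DerivedOX.RightDerived.totalRightDerivedIso (SiteCmp.pushKh f)).app (W M 0)).symm
  have hGE : ((RightPres.R f.push).obj (W M 0)).IsGE 0 := RightGE.preservesGE f.push _ 0 inferInstance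
  have hLE : ((RightPres.R f.push).obj (W M 0)).IsLE 0 := (isLE_iff _ _).2 fun i hi =>
    RightSingle.isZero_homology_R_W f.push M 0 i fun p hp =>
      isZero_rpush h O A B h3 h4 M hM p (by omega)
  haveI := hGE
  haveI := hLE
  obtain ⟨G, ⟨eG⟩⟩ := exists_iso_singleFunctor_obj_of_isGE_of_isLE
    ((RightPres.R f.push).obj (W M 0)) 0
  let c := eT ≪≫ eG
  obtain ⟨φ, hφ⟩ := s.map_surjective (adj.unit.app (s.obj F') ≫ c.hom)
  have hb : ∀ T, Function.Bijective (fun x : T ⟶ F' => x ≫ φ) := fun T => by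
    have hpull : Function.Bijective (fun x : T ⟶ F' => f.pull.map x) := by
      have : (fun x : T ⟶ F' => f.pull.map x) =
          (f.adj.homEquiv T (f.pull.obj F')).symm ∘ fun x => x ≫ f.adj.unit.app F' := by
        funext x
        simp [Adjunction.homEquiv_counit]
      rw [this]
      exact (Equiv.bijective _).comp ⟨fun a b hab => (cancel_mono (f.adj.unit.app F')).1 hab,
        fun y => ⟨y ≫ inv (f.adj.unit.app F'), by simp⟩⟩
    let e₀ := f.pull.mapDerivedCategorySingleFunctor 0
    have hs : ∀ X Y : _root_.ModSite.Mod O,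
        Function.Bijective (fun x : X ⟶ Y => (DerivedCategory.singleFunctor _ 0).map x) :=
      fun X Y => ⟨(DerivedCategory.singleFunctor _ 0).map_injective,
        (DerivedCategory.singleFunctor _ 0).map_surjective⟩
    have hD : Function.Bijective (fun x : T ⟶ F' => (SiteCmp.pullD f).map (s.map x)) := by
      have : (fun x : T ⟶ F' => (SiteCmp.pullD f).map (s.map x)) =
          (Iso.homCongr (e₀.app T).symm (e₀.app F').symm) ∘
            ((fun x => (DerivedCategory.singleFunctor _ 0).map x) ∘ fun x => f.pull.map x) := by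
        funext x
        change _ = e₀.hom.app T ≫ (DerivedCategory.singleFunctor _ 0).map (f.pull.map x) ≫
          e₀.inv.app F'
        exact (NatIso.naturality_2 e₀ x).symm
      rw [this]
      exact (Equiv.bijective _).comp ((hs _ _).comp hpull)
    have hsb : Function.Bijective (fun x : T ⟶ G => s.map x) :=
      ⟨s.map_injective, s.map_surjective⟩
    refine (Function.Bijective.of_comp_iff' hsb _).1 ?_
    have : ((fun x : T ⟶ G => s.map x) ∘ fun x : T ⟶ F' => x ≫ φ) =
        (fun y => y ≫ c.hom) ∘ ((adj.homEquiv _ _) ∘ fun x => (SiteCmp.pullD f).map (s.map x)) := by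
      funext x
      simp only [Function.comp_apply, Functor.map_comp, hφ, Adjunction.homEquiv_unit]
      exact (Category.assoc _ _ _).symm.trans
        (congrArg (· ≫ c.hom) (adj.unit.naturality (s.map x)))
    rw [this]
    exact ((c.homToEquiv).bijective).comp ((Equiv.bijective _).comp hD)
  obtain ⟨g, hg⟩ := (hb G).2 (𝟙 G)
  have hφi : IsIso φ := ⟨g, (hb F').1 (by
    change (φ ≫ g) ≫ φ = 𝟙 F' ≫ φ
    rw [Category.assoc, show g ≫ φ = 𝟙 G from hg, Category.comp_id, Category.id_comp]), hg⟩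
  have : IsIso (adj.unit.app (s.obj F') ≫ c.hom) := by rw [← hφ]; infer_instance
  exact IsIso.of_isIso_comp_right (adj.unit.app (s.obj F')) c.hom

include h h3 h4 in
/-- `ε^*` and `Rε_*` are inverse equivalences on the classes. -/
theorem equiv_cohIn [WSerre.IsWeakSerre A] :
    WSerre.IsWeakSerre (A.map (SiteCmp.eps h O).push) ∧
    (∀ Y : DerivedCategory (_root_.ModSite.Mod (SiteCmp.epsRing h O)),
      WSerre.cohIn (A.map (SiteCmp.eps h O).push) Y →
      WSerre.cohIn A ((SiteCmp.pullD (SiteCmp.eps h O)).obj Y) ∧ IsIso (adj.unit.app Y)) ∧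
    (∀ X : DerivedCategory (_root_.ModSite.Mod O), WSerre.cohIn A X →
      WSerre.cohIn (A.map (SiteCmp.eps h O).push) ((SiteCmp.RpushD (SiteCmp.eps h O)).obj X) ∧
      IsIso (adj.counit.app X)) := by
  let f := SiteCmp.eps h O
  haveI := (full_faithful h O).1
  haveI := (full_faithful h O).2
  haveI := isIso_counit h O
  haveI := isWeakSerre_map h O A B h3 h4
  have h2a : ∀ F', (A.map f.push) F' → A (f.pull.obj F') := fun F' ⟨M, hM, ⟨e⟩⟩ =>
    A.prop_of_iso ((asIso (f.adj.counit.app M)).symm ≪≫ f.pull.mapIso e) hM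
  have h2c : ∀ F, A F → ∃ F', (A.map f.push) F' ∧ Nonempty (f.pull.obj F' ≅ F) := fun F hF =>
    ⟨f.push.obj F, A.prop_map_obj _ hF, ⟨asIso (f.adj.counit.app F)⟩⟩
  have h2b : ∀ F' G', (A.map f.push) F' → (A.map f.push) G' →
      Function.Bijective (fun φ : F' ⟶ G' => f.pull.map φ) := fun F' G' _ ⟨N, _, ⟨e⟩⟩ => by
    have hu : IsIso (f.adj.unit.app G') := (NatTrans.isIso_app_iff_of_iso f.adj.unit e).1 (by
      have := f.adj.right_triangle_components N
      exact @IsIso.of_isIso_comp_right _ _ _ _ _ (f.adj.unit.app (f.push.obj N))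
        (f.push.map (f.adj.counit.app N)) inferInstance (by rw [this]; infer_instance))
    have : (fun x : F' ⟶ G' => f.pull.map x) =
        (f.adj.homEquiv F' (f.pull.obj G')).symm ∘ fun x => x ≫ f.adj.unit.app G' := by
      funext x
      simp [Adjunction.homEquiv_counit]
    rw [this]
    exact (Equiv.bijective _).comp ⟨fun a b hab => (cancel_mono (f.adj.unit.app G')).1 hab,
      fun y => ⟨y ≫ inv (f.adj.unit.app G'), by simp⟩⟩
  have hu := fun F' => isIso_unit h O A B h3 h4 adj F'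
  have hcls := ModEquiv.rpush_class f adj A (A.map f.push) h2c hu
  refine ⟨inferInstance, ModEquiv.equiv_cohIn f adj A (A.map f.push) h2a h2c hu h2b fun X hX => ?_⟩
  have hii := ModPush.isIso_homologyMap_rpushD f A (cofinalGood h O A B h3 h4) 0
    (fun M hM p hp => (hcls M hM p).1 (by exact_mod_cast hp)) X hX (cofinalGood' h O A B h3 h4)
  exact ⟨ModPush.cohIn_of_isIso f A 0 X hX (A.map f.push) (fun M hM p => (hcls M hM p).2) hii, hii⟩

end Groth.Agent.Lib.RlimTrunc.Eps
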