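import Groth.Agent.Lib.RlimTrunc.ModSheaf
import Groth.Agent.Lib.DerCat29.CohIn

/-!
# Derived limits of towers with eventually constant cohomology in a weak Serre class
-/

set_option autoImplicit false
set_option linter.unusedSectionVars false

universe w v' u' v u t'

open CategoryTheory CategoryTheory.Limits CategoryTheory.Pretriangulated DerivedCategory

namespace Groth.Agent.Lib.RlimTrunc.EvConst

open Tower Single Devissage Main

variable {A : Type u} [Category.{v} A] [Abelian A] [HasDerivedCategory.{w} A]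
  (P : ObjectProperty A) [WSerre.IsWeakSerre P]
  {C : Type u'} [Category.{v'} C] {J : GrothendieckTopology C} {free : C ⥤ A}

/-- Eventually constant cohomology is that of the derived limit. -/
theorem isIso_homologyMap (hd : IsDetecting J free)
    (hA : CofinalGood.{v', u', t'} J fun Y (d : ℕ) => ∀ F : A, P F → ∀ k : ℕ, d < k →
      ExtVanish (free.obj Y) F k)
    {K : ℕ → DerivedCategory A} {t : ∀ n, K (n + 1) ⟶ K n} [HasProduct K]
    (hK : ∀ n, WSerre.cohInPlus P (K n))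
    (hconst : ∀ j : ℤ, ∃ n₀ : ℕ, ∀ n, n₀ ≤ n → IsIso ((homologyFunctor A j).map (t n)))
    {L : DerivedCategory A} {a : ∀ n, L ⟶ K n} (hL : CohCx.IsRlimVia K t L a) (m : ℤ) :
    ∃ n₀ : ℕ, ∀ n, n₀ ≤ n → IsIso ((homologyFunctor A m).map (a n)) := by
  choose n₀ hn₀ using hconst
  refine ⟨n₀ m, Main.isIso_homologyMap hd m ?_ (Tower.comp_transition hL) (n₀ m) (hn₀ m)⟩
  refine hA.imp (fun d => (Finset.range (d + 3)).sup fun i => n₀ (m - 1 - d + i)) fun Y d hv =>
    bijective_of_cones hL _ fun n hn Z p q hT => ?_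
  obtain ⟨a₀, ha₀⟩ := (hK n).2
  obtain ⟨a₁, ha₁⟩ := (hK (n + 1)).2
  let T := Triangle.mk (t n) p q
  have hex₁ := fun i : ℤ => HomologySequence.exact₁ T hT i (i + 1) rfl
  have hex₂ := fun i : ℤ => HomologySequence.exact₂ T hT i
  have hex₃ := fun i : ℤ => HomologySequence.exact₃ T hT i (i + 1) rfl
  have hZA : ∀ i, P ((homologyFunctor A i).obj Z) := fun i =>
    DerCat29.CohIn.prop_of_five P (hex₂ i) (hex₃ i) (hex₁ i) ((hK (n + 1)).1 i) ((hK n).1 i)
      ((hK (n + 1)).1 (i + 1)) ((hK n).1 (i + 1))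
  have hge : Z.IsGE (min a₀ (a₁ - 1)) := (isGE_iff _ _).2 fun i hi => by
    have h₀ : IsZero ((homologyFunctor A i).obj (K n)) := @isZero_of_isGE _ _ _ _ _ a₀ i (by omega) ha₀
    have h₁ : IsZero ((homologyFunctor A (i + 1)).obj (K (n + 1))) :=
      @isZero_of_isGE _ _ _ _ _ a₁ (i + 1) (by omega) ha₁
    exact (hex₃ i).isZero_X₂ (h₀.eq_of_src _ _) (h₁.eq_of_tgt _ _)
  have hv' : ∀ μ, m - 1 ≤ μ → μ ≤ m → HomZero (W (free.obj Y) μ) Z := fun μ hμ₁ hμ₂ => by
    by_cases hμ : μ < min a₀ (a₁ - 1)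
    · have : Z.IsGE (μ + 1) := (isGE_iff _ _).2 fun i hi => isZero_of_isGE Z _ i (by omega : i < min a₀ (a₁ - 1))
      exact homZero_of_forall 0 (μ + 1) Z (by simp) fun i h₁ h₂ => absurd (h₁.trans h₂) (by omega)
    refine homZero_of_forall (μ + 1 - min a₀ (a₁ - 1)).toNat (min a₀ (a₁ - 1)) Z (by omega)
      fun i h₁ h₂ => ?_
    by_cases hi : i < μ - d
    · exact hv _ (hZA i) _ (by omega)
    have hle : ∀ j, m - 1 - d ≤ j → j ≤ m + 1 → n₀ j ≤ n := fun j hj₁ hj₂ => by
      refine le_trans ?_ hn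
      refine le_trans (le_of_eq (congrArg n₀ ?_))
        (Finset.le_sup (f := fun i : ℕ => n₀ (m - 1 - d + i))
          (Finset.mem_range.2 (show (j - (m - 1 - d)).toNat < d + 3 by omega)))
      omega
    have h' := hn₀ i n (hle i (by omega) (by omega))
    have h'' := hn₀ (i + 1) n (hle (i + 1) (by omega) (by omega))
    have he : Epi ((homologyFunctor A i).map (t n)) := @IsIso.epi_of_iso _ _ _ _ _ h'
    have hm : Mono ((homologyFunctor A (i + 1)).map (t n)) := @IsIso.mono_of_iso _ _ _ _ _ h''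
    exact extVanish_of_isZero _ (@isZero_homology_obj₃ _ _ _ _ T hT i (i + 1) rfl he hm) _
  exact ⟨hv' m (by omega) le_rfl, hv' (m - 1) le_rfl (by omega)⟩

end Groth.Agent.Lib.RlimTrunc.EvConst
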