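import Groth.Agent.Lib.RlimTrunc.Devissage
import Groth.Agent.Lib.RlimTrunc.RightSingle
import Groth.Agent.Lib.DerCat.RFAcyclic
import Mathlib.Algebra.Homology.DerivedCategory.DerivabilityStructureInjectives
import Mathlib.Algebra.Homology.DerivedCategory.Ext.ExactSequences
import Mathlib.Algebra.Homology.DerivedCategory.Ext.EnoughInjectives

/-!
# Maps out of one object into bounded below complexes of acyclic objects
-/

set_option autoImplicit false
set_option linter.unusedSectionVars false

universe w w' w'' v v₁ u u₁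

open CategoryTheory CategoryTheory.Limits CategoryTheory.Pretriangulated DerivedCategory Abelian

namespace Groth.Agent.Lib.RlimTrunc.HomAcyclic

open Single Tower

variable {A : Type u} [Category.{v} A] [Abelian A] [HasExt.{w''} A] [HasDerivedCategory.{w} A]

/-- No higher `Ext` out of `g`. -/
def IsAcyc (g X : A) : Prop := ∀ p : ℕ, Subsingleton (Ext g X (p + 1))

lemma isAcyc_of_isZero (g : A) {X : A} (h : IsZero X) : IsAcyc g X := fun p =>
  subsingleton_of_forall_eq 0 fun x => by
    rw [← x.comp_mk₀_id, h.eq_of_src (𝟙 X) 0, Ext.mk₀_zero, Ext.comp_zero]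

lemma isAcyc_X₃ (g : A) {S : ShortComplex A} (hS : S.ShortExact) (h₁ : IsAcyc g S.X₁)
    (h₂ : IsAcyc g S.X₂) : IsAcyc g S.X₃ := fun p => subsingleton_of_forall_eq 0 fun x => by
  obtain ⟨y, rfl⟩ := Ext.covariant_sequence_exact₃ g hS x rfl ((h₁ (p + 1)).elim _ _)
  rw [(h₂ p).elim y 0, Ext.zero_comp]

/-- Cycles of an acyclic bounded below complex of acyclic objects are boundaries. -/
lemma exists_lift_boundary (g : A) (N : CochainComplex A ℤ) (a : ℤ) [N.IsStrictlyGE a]
    (hN : N.Acyclic) (hX : ∀ k, IsAcyc g (N.X k)) (k : ℤ) (x : g ⟶ N.X k)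
    (hx : x ≫ N.d k (k + 1) = 0) : ∃ y : g ⟶ N.X (k - 1), y ≫ N.d (k - 1) k = x := by
  have hcyc : ∀ (m : ℕ) (j : ℤ), j < a + m → IsAcyc g (N.cycles j) := fun m => by
    induction m with
    | zero =>
      exact fun j hj => isAcyc_of_isZero g (IsZero.of_mono (N.iCycles _)
        (CochainComplex.isZero_of_isStrictlyGE N a _ (by omega)))
    | succ m ih =>
      intro j hj
      by_cases h : j < a + m
      · exact ih j h
      obtain ⟨i, rfl⟩ : ∃ i, j = i + 1 := ⟨j - 1, by omega⟩
      exact isAcyc_X₃ g (DerCat.RFAcyclic.cycSeq_shortExact N hN i) (ih i (by omega)) (hX i)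
  obtain ⟨i, rfl⟩ : ∃ i, k = i + 1 := ⟨k - 1, by omega⟩
  rw [show i + 1 - 1 = i by omega]
  have hS := DerCat.RFAcyclic.cycSeq_shortExact N hN i
  obtain ⟨y, hy⟩ := Ext.covariant_sequence_exact₃ g hS
    (Ext.mk₀ (N.liftCycles x (i + 1 + 1) (by simp) hx)) (zero_add 1)
    ((hcyc ((i - a).toNat + 1) i (by omega) 0).elim _ _)
  obtain ⟨y, rfl⟩ := (Ext.mk₀_bijective _ _).2 y
  rw [Ext.mk₀_comp_mk₀] at hy
  have h := congrArg (fun t => t ≫ N.iCycles (i + 1)) ((Ext.mk₀_bijective _ _).1 hy)
  simp only [DerCat.RFAcyclic.cycSeq, Category.assoc, HomologicalComplex.toCycles_i,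
    HomologicalComplex.liftCycles_i] at h
  exact ⟨y, h⟩

/-- Such complexes receive only the zero morphism in the homotopy category. -/
lemma homZero_quotient (g : A) (N : CochainComplex A ℤ) (a : ℤ) [N.IsStrictlyGE a]
    (hN : N.Acyclic) (hX : ∀ k, IsAcyc g (N.X k)) (k : ℤ) :
    HomZero ((HomotopyCategory.quotient A (ComplexShape.up ℤ)).obj
        ((HomologicalComplex.single A (ComplexShape.up ℤ) k).obj g))
      ((HomotopyCategory.quotient A (ComplexShape.up ℤ)).obj N) := fun φ => by
  obtain ⟨φ, rfl⟩ := (HomotopyCategory.quotient A (ComplexShape.up ℤ)).map_surjective φ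
  obtain ⟨y, hy⟩ := exists_lift_boundary g N a hN hX k
    ((HomologicalComplex.singleObjXSelf (ComplexShape.up ℤ) k g).inv ≫ φ.f k) (by simp)
  exact quotient_map_eq_zero φ y hy

/-- Into a bounded below complex of acyclic objects, morphisms out of one object in the homotopy
category inject into those of the derived category. -/
theorem quotient_map_eq_zero_of_Q [EnoughInjectives A] (g : A)
    (K : CochainComplex A ℤ) (a : ℤ) [K.IsStrictlyGE a] (hK : ∀ k, IsAcyc g (K.X k)) (k : ℤ)
    (φ : (HomologicalComplex.single A (ComplexShape.up ℤ) k).obj g ⟶ K)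
    (h : DerivedCategory.Q.map φ = 0) :
    (HomotopyCategory.quotient A (ComplexShape.up ℤ)).map φ = 0 := by
  obtain ⟨I, s, hs, hI, hIa⟩ := CochainComplex.Plus.modelCategoryQuillen.exists_quasiIso_injective K a
  haveI := hIa
  haveI : I.IsKInjective := CochainComplex.isKInjective_of_injective I a
  have hφs : (HomotopyCategory.quotient A (ComplexShape.up ℤ)).map (φ ≫ s) = 0 := by
    apply (CochainComplex.IsKInjective.Qh_map_bijective _ I).1
    refine Eq.trans ?_ (DerivedCategory.Qh.map_zero _ _).symm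
    change DerivedCategory.Q.map (φ ≫ s) = 0
    rw [Functor.map_comp, h, zero_comp]
  let T := CochainComplex.mappingCone.triangleh s
  have hT : T ∈ distTriang (HomotopyCategory A (ComplexShape.up ℤ)) :=
    HomotopyCategory.mappingCone_triangleh_distinguished s
  have hC : (CochainComplex.mappingCone s).Acyclic :=
    (DerCat.RFAcyclic.quasiIso_iff_acyclic_mappingCone s).1 hs
  haveI : (CochainComplex.mappingCone s).IsStrictlyGE (a - 1) := by
    rw [CochainComplex.isStrictlyGE_iff]
    intro i hi
    rw [IsZero.iff_id_eq_zero]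
    exact CochainComplex.mappingCone.ext_to s i (i + 1) rfl
      ((K.isZero_of_isStrictlyGE a _ (by omega)).eq_of_tgt _ _)
      ((I.isZero_of_isStrictlyGE a _ (by omega)).eq_of_tgt _ _)
  have hX : ∀ i, IsAcyc g ((CochainComplex.mappingCone s).X i) := fun i p =>
    subsingleton_of_forall_eq 0 fun x => by
      have h₁ := (hK (i + 1) p).elim
        (x.comp (Ext.mk₀ ((CochainComplex.mappingCone.fst s).1.v i (i + 1) rfl)) (add_zero _)) 0
      have hIi := hI i
      have h₂ := Ext.eq_zero_of_injective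
        (x.comp (Ext.mk₀ ((CochainComplex.mappingCone.snd s).v i i (add_zero i))) (add_zero _))
      rw [← x.comp_mk₀_id, ← CochainComplex.mappingCone.id_X s i (i + 1) rfl, Ext.mk₀_add,
        Ext.comp_add, ← Ext.mk₀_comp_mk₀, ← Ext.mk₀_comp_mk₀,
        ← Ext.comp_assoc x _ _ (add_zero _) (add_zero 0) (by omega),
        ← Ext.comp_assoc x _ _ (add_zero _) (add_zero 0) (by omega), h₁, h₂]
      simp
  have key : HomZero ((((HomotopyCategory.quotient A (ComplexShape.up ℤ)).obj
      ((HomologicalComplex.single A (ComplexShape.up ℤ) k).obj g)))⟦(1 : ℤ)⟧) T.obj₃ :=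
    (homZero_quotient g _ (a - 1) hC hX (k - 1)).of_iso
      (((HomotopyCategory.singleFunctors A).shiftIso 1 (k - 1) k (by omega)).app g).symm (Iso.refl _)
  have h0 := injective_comp_mor₁ T hT key
  refine h0 (Eq.trans ?_ zero_comp.symm)
  exact ((HomotopyCategory.quotient A (ComplexShape.up ℤ)).map_comp φ s).symm.trans hφs

end Groth.Agent.Lib.RlimTrunc.HomAcyclic
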