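import Groth.Agent.Lib.RlimTrunc.Milnor
import Groth.Agent.Lib.RlimTrunc.ThetaBij
import Groth.Agent.Lib.DerCat.ProdPlus

/-!
# Cohomology objects of derived limits
-/

set_option autoImplicit false
set_option linter.unusedSectionVars false

universe w v' u' u

open CategoryTheory CategoryTheory.Limits CategoryTheory.Pretriangulated DerivedCategory

namespace Groth.Agent.Lib.RlimTrunc.LimCoh

open Tower Single Devissage Main Milnor

variable {C : Type u} [SmallCategory C] {J : GrothendieckTopology C}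
  {A : Type (u + 1)} [Category.{u} A] [Abelian A] [HasDerivedCategory.{w} A] {free : C ⥤ A}
  (hd : IsDetecting J free)
  (B : Set C) (hB : ∀ U : C, ∃ (ι : Type u) (Y : ι → C) (f : ∀ i, Y i ⟶ U),
    Sieve.ofArrows Y f ∈ J U ∧ ∀ i, Y i ∈ B)

omit [HasDerivedCategory.{w} A] in
include hB in
/-- The objects of a covering class give cofinal good coverings. -/
theorem cofinalGood {β : Type*} {Q : C → β → Prop} (b : β) (h : ∀ V ∈ B, Q V b) :
    CofinalGood.{u, u, u} J Q := by
  refine CofinalGood.of_forall B b hB h fun U T => ⟨Σ Y, {f : Y ⟶ U // T.arrows f}, fun x => x.1,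
    fun x => x.2.1, Sieve.ext fun Z g => ⟨?_, fun hg => ?_⟩⟩
  · rintro ⟨_, e, _, ⟨x⟩, rfl⟩
    exact T.downward_closed x.2.2 e
  · exact ⟨Z, 𝟙 _, g, Presieve.ofArrows.mk (⟨Z, g, hg⟩ : Σ Y, {f : Y ⟶ U // T.arrows f}),
      Category.id_comp g⟩

include hd hB in
/-- Over a class of acyclic objects, cohomology of an object is sections of cohomology. -/
theorem bijective_θ [EnoughInjectives A] [HasLimitsOfShape (Discrete ℕ) A] (Z : DerivedCategory A)
    (h : ∀ V ∈ B, ∀ (q : ℤ) (k : ℕ), 0 < k →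
      ExtVanish (free.obj V) ((homologyFunctor A q).obj Z) k)
    (U : C) (hU : U ∈ B) (m : ℤ) :
    Function.Bijective (θ (g := free.obj U) (m := m) (L := Z)) := by
  haveI : HasProduct (CohCx.truncTower Z) :=
    DerCat.ProdPlus.hasProduct_of_isGE _ fun n => ⟨-(n : ℤ),
      (inferInstance : TStructure.t.IsGE ((TStructure.t.truncGE (-(n : ℤ))).obj Z) (-(n : ℤ)))⟩
  have hL := Trunc.isRlimVia_truncTower Z hd
    (cofinalGood B hB (fun m => (-m).toNat) fun V hV m n hn => h V hV _ _ (by
      have hn' : (-m).toNat ≤ n := hn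
      omega))
  let n := (-m).toNat + 1
  have hbij := Trunc.bijective_trunc Z hL (g := free.obj U) m (-m).toNat
    (fun k j hk _ hj => h U hU _ _ (by omega)) n (by omega)
  refine @ThetaBij.bijective_of_comp _ _ _ _ _ _ _ _ (CohCx.toTruncTower Z n)
    (Trunc.isIso_homologyMap_toTruncTower Z n m (by omega)) hbij ?_
  haveI : (CohCx.truncTower Z n).IsGE (-(n : ℤ)) :=
    (inferInstance : TStructure.t.IsGE ((TStructure.t.truncGE (-(n : ℤ))).obj Z) (-(n : ℤ)))
  refine ThetaBij.bijective_of_isGE _ m (-(n : ℤ)) _ fun q k _ hk => ?_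
  by_cases hq : -(n : ℤ) ≤ q
  · have := Trunc.isIso_homologyMap_toTruncTower Z n q hq
    exact (h U hU q k hk).of_iso (asIso ((homologyFunctor A q).map (CohCx.toTruncTower Z n)))
  · exact extVanish_of_isZero _ (Trunc.isZero_homology_truncTower Z n q (by omega)) _

variable {K : ℕ → DerivedCategory A} {t : ∀ n, K (n + 1) ⟶ K n} [HasProduct K]
  {L : DerivedCategory A} {a : ∀ n, L ⟶ K n} (hL : CohCx.IsRlimVia K t L a)

omit [HasProduct K] in
/-- `1 - shift` is surjective on morphisms if it is so on classes. -/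
lemma limSurj_of_θ {g : A} {m : ℤ} (hθ : ∀ n, Function.Bijective (θ (g := g) (m := m) (L := K n)))
    (h : ∀ s : ∀ n, g ⟶ (homologyFunctor A m).obj (K n), ∃ k : ∀ n, g ⟶ (homologyFunctor A m).obj (K n),
      ∀ n, k n - k (n + 1) ≫ (homologyFunctor A m).map (t n) = s n) :
    LimSurj (W g m) K t := fun y => by
  obtain ⟨k, hk⟩ := h fun n => θ (y n)
  choose x hx using fun n => (hθ n).2 (k n)
  refine ⟨x, fun n => (hθ n).1 ?_⟩
  have hs : θ (x n - x (n + 1) ≫ t n) = θ (x n) - θ (x (n + 1) ≫ t n) :=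
    map_sub (ThetaBij.θHom g m (K n)) _ _
  rw [hs, θ_comp, hx, hx]
  exact hk n

include hL in
lemma homZero_of_isZero {g : A} {m : ℤ}
    (hθ : ∀ n, Function.Bijective (θ (g := g) (m := m) (L := K n)))
    (hlim : LimSurj (W g (m - 1)) K t) (hz : ∀ n, IsZero ((homologyFunctor A m).obj (K n))) :
    HomZero (W g m) L := fun f =>
  eq_zero hL (limSurj_shift_one g m hlim) f fun n => (hθ n).1 ((hz n).eq_of_tgt _ _)

include hd hB hL in
/-- Cohomology objects of a derived limit are limits. -/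
theorem isIso_comparison
    (hθ : ∀ U ∈ B, ∀ (n : ℕ) (q : ℤ), Function.Bijective (θ (g := free.obj U) (m := q) (L := K n)))
    (hlim : ∀ U ∈ B, ∀ q : ℤ, LimSurj (W (free.obj U) q) K t) (q : ℤ)
    {P : A} (π : ∀ n, P ⟶ (homologyFunctor A q).obj (K n))
    (hπ : ∀ n, π (n + 1) ≫ (homologyFunctor A q).map (t n) = π n)
    (hext : ∀ {X : A} (x y : X ⟶ P), (∀ n, x ≫ π n = y ≫ π n) → x = y)
    (φ : (homologyFunctor A q).obj L ⟶ P) (hφ : ∀ n, φ ≫ π n = (homologyFunctor A q).map (a n)) :
    IsIso φ := by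
  have : Mono φ := by
    refine Preadditive.mono_of_cancel_zero _ fun {X} k hk => hd.separating k fun U s₀ => ?_
    obtain ⟨S, hS, hS'⟩ := (homologyPres hd q).exists_lift (s₀ ≫ k)
    refine hd.eq_zero_of_local _ S hS fun Y f hf => ?_
    obtain ⟨ι, Z, g, hg, hZ⟩ := hB Y
    refine hd.eq_zero_of_cover _ Z g hg fun i => ?_
    obtain ⟨w, hw⟩ := hS' (g i ≫ f) (S.downward_closed hf _)
    have hw' : θ w = free.map (g i ≫ f) ≫ s₀ ≫ k := hw
    have hw0 : w = 0 := eq_zero hL (limSurj_shift_one _ q (hlim _ (hZ i) (q - 1))) w fun n =>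
      (hθ _ (hZ i) n q).1 (by
        change θ (w ≫ a n) = θ 0
        rw [θ_comp, hw', Single.θ_zero, ← hφ n]
        simp only [Category.assoc]
        rw [← Category.assoc k φ, hk, zero_comp, comp_zero, comp_zero])
    rw [← Category.assoc, ← free.map_comp, ← hw', hw0, Single.θ_zero]
  have : Epi φ := by
    refine Preadditive.epi_of_cancel_zero _ fun {X} ψ hψ => hd.separating ψ fun U s => ?_
    obtain ⟨ι, Z, g, hg, hZ⟩ := hB U
    refine hd.eq_zero_of_cover _ Z g hg fun i => ?_
    choose w hw using fun n => (hθ _ (hZ i) n q).2 (free.map (g i) ≫ s ≫ π n)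
    obtain ⟨x, hx⟩ := exists_lift hL w fun n => (hθ _ (hZ i) n q).1 (by
      rw [θ_comp, hw, hw, Category.assoc, Category.assoc, hπ n])
    have key : θ x ≫ φ = free.map (g i) ≫ s := hext _ _ fun n => by
      rw [Category.assoc, hφ n, ← θ_comp, hx n, hw n, Category.assoc]
    rw [← Category.assoc, ← key, Category.assoc, hψ, comp_zero]
  exact isIso_of_mono_of_epi _

include hd hB hL in
/-- The cohomology of a derived limit, as a limit. -/
theorem exists_iso_limit [HasLimitsOfShape ℕᵒᵖ A]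
    (hθ : ∀ U ∈ B, ∀ (n : ℕ) (q : ℤ), Function.Bijective (θ (g := free.obj U) (m := q) (L := K n)))
    (hlim : ∀ U ∈ B, ∀ q : ℤ, LimSurj (W (free.obj U) q) K t) (q : ℤ) :
    Nonempty ((homologyFunctor A q).obj L ≅ limit (CohCx.opSequence
      (fun n => (homologyFunctor A q).obj (K n)) (fun n => (homologyFunctor A q).map (t n)))) := by
  let F := CohCx.opSequence (fun n => (homologyFunctor A q).obj (K n))
    (fun n => (homologyFunctor A q).map (t n))
  have hF : ∀ n, F.map (homOfLE (Nat.le_succ n)).op = (homologyFunctor A q).map (t n) := fun n =>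
    Functor.ofOpSequence_map_homOfLE_succ _ n
  let c : Cone F :=
    { pt := (homologyFunctor A q).obj L
      π := NatTrans.ofOpSequence (fun n => (homologyFunctor A q).map (a n)) fun n => by
        change 𝟙 _ ≫ (homologyFunctor A q).map (a n) = (homologyFunctor A q).map (a (n + 1)) ≫ F.map _
        rw [hF, Category.id_comp]
        exact ((congrArg _ (Tower.comp_transition hL n).symm).trans ((homologyFunctor A q).map_comp _ _)) }
  refine ⟨@asIso _ _ _ _ (limit.lift F c) (isIso_comparison hd B hB hL hθ hlim q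
    (fun n => limit.π F ⟨n⟩) (fun n => ?_) (fun x y h => limit.hom_ext fun ⟨n⟩ => h n) _
    fun n => limit.lift_π c ⟨n⟩)⟩
  have h := limit.w F (homOfLE (Nat.le_succ n)).op
  rw [hF] at h
  exact h

include hd in
/-- A class killed by a term of the tower vanishes, locally. -/
theorem eq_zero_of_local {V : C} {m : ℤ} (N : ℕ) (s : free.obj V ⟶ (homologyFunctor A m).obj L)
    (hs : s ≫ (homologyFunctor A m).map (a N) = 0)
    (h : ∀ T ∈ J V, ∃ (ι : Type u) (Y : ι → C) (f : ∀ i, Y i ⟶ V), (∀ i, T.arrows (f i)) ∧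
      Sieve.ofArrows Y f ∈ J V ∧ ∀ i, ∀ w : W (free.obj (Y i)) m ⟶ L, w ≫ a N = 0 → w = 0) :
    s = 0 := by
  let T : Sieve V :=
    { arrows := fun Z g => ∃ w : W (free.obj Z) m ⟶ L, θ w = free.map g ≫ s ∧ w ≫ a N = 0
      downward_closed := by
        rintro Z Z' g ⟨w, hw, hw'⟩ e
        exact ⟨(testObj free m).map e ≫ w,
          ((homologyPres hd m).θ_left e w).trans ((congrArg (free.map e ≫ ·) hw).trans (by
            rw [free.map_comp, Category.assoc])),
          by rw [Category.assoc, hw', comp_zero]⟩ }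
  have hT : T ∈ J V := by
    obtain ⟨S₀, hS₀, hS₀'⟩ := (homologyPres hd m).exists_lift s
    refine J.transitive hS₀ T fun Z g hg => ?_
    obtain ⟨w, hw⟩ := hS₀' g hg
    have hw' : θ w = free.map g ≫ s := hw
    obtain ⟨S₁, hS₁, hS₁'⟩ := (homologyPres hd m).exists_null (w ≫ a N) (by
      change θ (w ≫ a N) = 0
      rw [θ_comp, hw', Category.assoc, hs, comp_zero])
    refine J.superset_covering ?_ hS₁
    intro Z' e he
    exact ⟨(testObj free m).map e ≫ w,
      ((homologyPres hd m).θ_left e w).trans ((congrArg (free.map e ≫ ·) hw').trans (by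
        rw [free.map_comp, Category.assoc])),
      by rw [Category.assoc]; exact hS₁' e he⟩
  obtain ⟨ι, Y, f, hfT, hf, hz⟩ := h T hT
  refine hd.eq_zero_of_cover s Y f hf fun i => ?_
  obtain ⟨w, hw, hw'⟩ := hfT i
  rw [← hw, hz i w hw', Single.θ_zero]

end Groth.Agent.Lib.RlimTrunc.LimCoh
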