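import Groth.Prelude.Def_CohCx
import Mathlib.Algebra.Homology.ShortComplex.Ab

/-!
# Elements in inverse systems of complexes of abelian groups

With vanishing of `R^1 lim` in the neighbouring degrees, compatible families can be chosen.
-/

set_option autoImplicit false

universe u

open CategoryTheory CategoryTheory.Limits

namespace Groth.Agent.Lib.RlimTrunc.LimCxAb

section Single

variable (K : CochainComplex AddCommGrpCat.{u} ℤ) (i j : ℤ)

/-- Every cycle lifts to the object of cycles. -/
lemma exists_cycle (h : i + 1 = j) (x : K.X i) (hx : K.d i j x = 0) :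
    ∃ z : K.cycles i, K.iCycles i z = x := by
  have he : (ShortComplex.mk (K.iCycles i) (K.d i j) (K.iCycles_d i j)).Exact :=
    ShortComplex.exact_of_f_is_kernel _ (K.cyclesIsKernel i j (ComplexShape.next_eq' _ h))
  exact (ShortComplex.ab_exact_iff _).1 he x hx

lemma d_iCycles_apply (z : K.cycles i) : K.d i j (K.iCycles i z) = 0 :=
  (ConcreteCategory.comp_apply _ _ z).symm.trans
    (ConcreteCategory.congr_hom (K.iCycles_d i j) z)

lemma exists_rep (x : K.homology i) : ∃ z : K.cycles i, K.homologyπ i z = x :=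
  (AddCommGrpCat.epi_iff_surjective _).1 inferInstance x

lemma π_eq_zero_iff (h : j + 1 = i) (z : K.cycles i) :
    K.homologyπ i z = 0 ↔ ∃ w : K.X j, K.d j i w = K.iCycles i z := by
  have hexact : (ShortComplex.mk (K.toCycles j i) (K.homologyπ i)
      (K.toCycles_comp_homologyπ j i)).Exact :=
    ShortComplex.exact_of_g_is_cokernel _ (K.homologyIsCokernel j i (by simp; omega))
  have hinj : Function.Injective (K.iCycles i) := (AddCommGrpCat.mono_iff_injective _).1 inferInstance
  have hd : ∀ w, K.iCycles i (K.toCycles j i w) = K.d j i w := fun w =>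
    (ConcreteCategory.comp_apply _ _ w).symm.trans (ConcreteCategory.congr_hom (K.toCycles_i j i) w)
  constructor
  · intro hz
    obtain ⟨w, hw⟩ := (ShortComplex.ab_exact_iff _).1 hexact z hz
    exact ⟨w, (hd w).symm.trans (congrArg _ hw)⟩
  · rintro ⟨w, hw⟩
    rw [← hinj ((hd w).trans hw)]
    exact ConcreteCategory.congr_hom (K.toCycles_comp_homologyπ j i) w

variable {K} {L : CochainComplex AddCommGrpCat.{u} ℤ} (φ : K ⟶ L)

lemma homologyMap_π (z : K.cycles i) :
    HomologicalComplex.homologyMap φ i (K.homologyπ i z) =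
      L.homologyπ i (HomologicalComplex.cyclesMap φ i z) :=
  ((ConcreteCategory.comp_apply _ _ z).symm.trans
    (ConcreteCategory.congr_hom (HomologicalComplex.homologyπ_naturality φ i) z)).trans
      (ConcreteCategory.comp_apply _ _ z)

lemma iCycles_cyclesMap (z : K.cycles i) :
    L.iCycles i (HomologicalComplex.cyclesMap φ i z) = φ.f i (K.iCycles i z) :=
  ((ConcreteCategory.comp_apply _ _ z).symm.trans
    (ConcreteCategory.congr_hom (HomologicalComplex.cyclesMap_i φ i) z)).trans
      (ConcreteCategory.comp_apply _ _ z)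

lemma f_d (w : K.X i) : φ.f j (K.d i j w) = L.d i j (φ.f i w) :=
  ((ConcreteCategory.comp_apply _ _ w).symm.trans
    (ConcreteCategory.congr_hom (φ.comm i j).symm w)).trans (ConcreteCategory.comp_apply _ _ w)

variable {i j}

/-- An injective map on cohomology detects boundaries. -/
lemma exists_boundary_of_injective (h : j + 1 = i)
    (hφ : Function.Injective (HomologicalComplex.homologyMap φ i)) (x : K.X i)
    (hx : K.d i (i + 1) x = 0) (hb : ∃ w, L.d j i w = φ.f i x) : ∃ w, K.d j i w = x := by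
  obtain ⟨z, rfl⟩ := exists_cycle K i (i + 1) rfl x hx
  refine (π_eq_zero_iff K i j h z).1 (hφ ?_)
  rw [map_zero, homologyMap_π, π_eq_zero_iff L i j h, iCycles_cyclesMap]
  exact hb

/-- A surjective map on cohomology lifts cycles up to boundaries. -/
lemma exists_lift_of_surjective (h : j + 1 = i)
    (hφ : Function.Surjective (HomologicalComplex.homologyMap φ i)) (y : L.X i)
    (hy : L.d i (i + 1) y = 0) :
    ∃ x : K.X i, K.d i (i + 1) x = 0 ∧ ∃ w, L.d j i w = φ.f i x - y := by
  obtain ⟨z, rfl⟩ := exists_cycle L i (i + 1) rfl y hy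
  obtain ⟨c, hc⟩ := hφ (L.homologyπ i z)
  obtain ⟨z', rfl⟩ := exists_rep K i c
  refine ⟨K.iCycles i z', d_iCycles_apply K i (i + 1) z', ?_⟩
  rw [← iCycles_cyclesMap, ← map_sub, ← π_eq_zero_iff L i j h, map_sub, ← homologyMap_π, hc, sub_self]

end Single

variable (D : ℕ → CochainComplex AddCommGrpCat.{u} ℤ) (t : ∀ n, D (n + 1) ⟶ D n)

lemma transition_f_succ (n₀ k : ℕ) (i : ℤ) (x : (D (n₀ + (k + 1))).X i) :
    (CohCx.transition D t n₀ (k + 1)).f i x =
      (CohCx.transition D t n₀ k).f i ((t (n₀ + k)).f i x) := rfl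

/-- Compatible families of primitives of a compatible family of cycles. -/
theorem exists_compat_primitive (m : ℤ) (n₀ : ℕ)
    (ha : CohCx.LimOneIsZero (fun n => (D n).X (m - 2)) (fun n => ((t n).f (m - 2)).hom))
    (hb : CohCx.LimOneIsZero (fun n => (D n).homology (m - 1))
      (fun n => (HomologicalComplex.homologyMap (t n) (m - 1)).hom))
    (hc : ∀ k, Function.Injective (HomologicalComplex.homologyMap (CohCx.transition D t n₀ k) m))
    (x : ∀ n, (D n).X m) (hxt : ∀ n, (t n).f m (x (n + 1)) = x n)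
    (hxd : ∀ n, (D n).d m (m + 1) (x n) = 0) (hx₀ : ∃ w, (D n₀).d (m - 1) m w = x n₀) :
    ∃ Y : ∀ n, (D n).X (m - 1),
      (∀ n, (t n).f (m - 1) (Y (n + 1)) = Y n) ∧ ∀ n, (D n).d (m - 1) m (Y n) = x n := by
  have hτ : ∀ k, (CohCx.transition D t n₀ k).f m (x (n₀ + k)) = x n₀ := fun k => by
    induction k with
    | zero => rfl
    | succ k ih => exact (congrArg ((CohCx.transition D t n₀ k).f m) (hxt (n₀ + k))).trans ih
  have hup : ∀ n, n₀ ≤ n → ∃ w, (D n).d (m - 1) m w = x n := fun n hn => by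
    obtain ⟨k, rfl⟩ := Nat.exists_eq_add_of_le hn
    refine exists_boundary_of_injective (CohCx.transition D t n₀ k) (by omega) (hc k) _ (hxd _) ?_
    obtain ⟨w, hw⟩ := hx₀
    exact ⟨w, hw.trans (hτ k).symm⟩
  have hall : ∀ d n, n₀ ≤ n + d → ∃ w, (D n).d (m - 1) m w = x n := fun d => by
    induction d with
    | zero => exact fun n hn => hup n (by omega)
    | succ d ih =>
      intro n hn
      obtain ⟨w, hw⟩ := ih (n + 1) (by omega)
      exact ⟨(t n).f (m - 1) w, by rw [← f_d, hw, hxt]⟩
  choose y hy using fun n => hall n₀ n (by omega)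
  have hδ : ∀ n, (D n).d (m - 1) m (y n - (t n).f (m - 1) (y (n + 1))) = 0 := fun n => by
    rw [map_sub, ← f_d, hy, hy, hxt, sub_self]
  choose z hz using fun n => exists_cycle (D n) (m - 1) m (by omega) _ (hδ n)
  obtain ⟨e, he⟩ := hb fun n => (D n).homologyπ (m - 1) (z n)
  choose c hc' using fun n => exists_rep (D n) (m - 1) (e n)
  have hw : ∀ n, ∃ w, (D n).d (m - 2) (m - 1) w =
      (D n).iCycles (m - 1) (z n - (c n - HomologicalComplex.cyclesMap (t n) (m - 1) (c (n + 1)))) :=
    fun n => by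
      refine (π_eq_zero_iff (D n) (m - 1) (m - 2) (by omega) _).1 ?_
      rw [map_sub, map_sub, ← homologyMap_π, hc', hc', sub_eq_zero]
      exact (congrFun he n).symm
  choose w hw using hw
  obtain ⟨v, hv⟩ := ha w
  refine ⟨fun n => y n - (D n).iCycles (m - 1) (c n) - (D n).d (m - 2) (m - 1) (v n), fun n => ?_,
    fun n => ?_⟩
  · have h1 := hw n
    rw [← congrFun hv n] at h1
    simp only [map_sub, iCycles_cyclesMap] at h1
    rw [hz n, ← f_d] at h1
    simp only [map_sub]
    rw [← sub_eq_zero, ← sub_eq_zero.2 h1]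
    abel
  · have h0 : (D n).d (m - 1) m ((D n).d (m - 2) (m - 1) (v n)) = 0 :=
      (ConcreteCategory.comp_apply _ _ (v n)).symm.trans
        (ConcreteCategory.congr_hom ((D n).d_comp_d (m - 2) (m - 1) m) (v n))
    rw [map_sub, map_sub, d_iCycles_apply, h0, sub_zero, sub_zero, hy]

/-- Compatible families of cycles through a given class. -/
theorem exists_compat_cycle (m : ℤ) (n₀ : ℕ)
    (ha : CohCx.LimOneIsZero (fun n => (D n).X (m - 1)) (fun n => ((t n).f (m - 1)).hom))
    (hc : ∀ k, Function.Bijective (HomologicalComplex.homologyMap (CohCx.transition D t n₀ k) m))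
    (x₀ : (D n₀).X m) (hx₀ : (D n₀).d m (m + 1) x₀ = 0) :
    ∃ X : ∀ n, (D n).X m, (∀ n, (t n).f m (X (n + 1)) = X n) ∧
      (∀ n, (D n).d m (m + 1) (X n) = 0) ∧ ∃ w, (D n₀).d (m - 1) m w = X n₀ - x₀ := by
  -- lifts in the late terms
  choose xs hxs ws hws using fun k =>
    exists_lift_of_surjective (CohCx.transition D t n₀ k) (j := m - 1) (by omega) (hc k).2 x₀ hx₀
  have hex : ∀ n, ∃ y : (D n).X m, (D n).d m (m + 1) y = 0 ∧
      ∀ k, (h : n = n₀ + k) → ∃ w, (D n₀).d (m - 1) m w = (CohCx.transition D t n₀ k).f m (h ▸ y) - x₀ :=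
    fun n => by
      by_cases hn : n₀ ≤ n
      · obtain ⟨k, rfl⟩ := Nat.exists_eq_add_of_le hn
        refine ⟨xs k, hxs k, fun k' hk' => ?_⟩
        obtain rfl : k' = k := by omega
        exact ⟨ws k', hws k'⟩
      · exact ⟨0, map_zero _, fun k hk => absurd hk (by omega)⟩
  choose g hg hg' using hex
  -- classes of consecutive terms agree from `n₀` on
  have hstep : ∀ k, ∃ w, (D (n₀ + k)).d (m - 1) m w = (t (n₀ + k)).f m (g (n₀ + k + 1)) - g (n₀ + k) :=
    fun k => by
      refine exists_boundary_of_injective (CohCx.transition D t n₀ k) (by omega) (hc k).1 _ ?_ ?_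
      · rw [map_sub, ← f_d, hg, hg, map_zero, sub_zero]
      · obtain ⟨a, ha'⟩ := hg' (n₀ + (k + 1)) (k + 1) rfl
        obtain ⟨b, hb'⟩ := hg' (n₀ + k) k rfl
        rw [transition_f_succ] at ha'
        exact ⟨a - b, by rw [map_sub, ha', hb', map_sub]; exact sub_sub_sub_cancel_right _ _ _⟩
  -- extend below `n₀` by images
  let h' : ∀ d : ℕ, ∀ n, (D n).X m := fun d =>
    Nat.rec (motive := fun _ => ∀ n, (D n).X m) g
      (fun _ prev n => if n₀ ≤ n then g n else (t n).f m (prev (n + 1))) d
  have h'ge : ∀ d n, n₀ ≤ n → h' d n = g n := fun d n hn => by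
    cases d with
    | zero => rfl
    | succ d => exact if_pos hn
  have h'd : ∀ d n, (D n).d m (m + 1) (h' d n) = 0 := fun d => by
    induction d with
    | zero => exact hg
    | succ d ih =>
      intro n
      change (D n).d m (m + 1) (if n₀ ≤ n then g n else (t n).f m (h' d (n + 1))) = 0
      split_ifs
      · exact hg n
      · rw [← f_d, ih, map_zero]
  have h'stable : ∀ d n, n₀ ≤ n + d → h' (d + 1) n = h' d n := fun d => by
    induction d with
    | zero => exact fun n hn => (h'ge 1 n (by omega)).trans (h'ge 0 n (by omega)).symm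
    | succ d ih =>
      intro n hn
      change (if n₀ ≤ n then g n else (t n).f m (h' (d + 1) (n + 1))) =
        (if n₀ ≤ n then g n else (t n).f m (h' d (n + 1)))
      rw [ih (n + 1) (by omega)]
  let G : ∀ n, (D n).X m := h' n₀
  have hG : ∀ n, ∃ w, (D n).d (m - 1) m w = G n - (t n).f m (G (n + 1)) := fun n => by
    by_cases hn : n₀ ≤ n
    · obtain ⟨k, rfl⟩ := Nat.exists_eq_add_of_le hn
      obtain ⟨w, hw⟩ := hstep k
      refine ⟨-w, ?_⟩
      rw [map_neg, hw, show G (n₀ + k) = g (n₀ + k) from h'ge _ _ (by omega),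
        show G (n₀ + k + 1) = g (n₀ + k + 1) from h'ge _ _ (by omega), neg_sub]
    · refine ⟨0, ?_⟩
      rw [map_zero, show G n = h' (n₀ + 1) n from (h'stable n₀ n (by omega)).symm]
      change 0 = (if n₀ ≤ n then g n else (t n).f m (h' n₀ (n + 1))) - (t n).f m (G (n + 1))
      rw [if_neg hn, sub_self]
  choose w hw using hG
  obtain ⟨v, hv⟩ := ha w
  refine ⟨fun n => G n - (D n).d (m - 1) m (v n), fun n => ?_, fun n => ?_, ?_⟩
  · have h1 := hw n
    rw [← congrFun hv n] at h1
    simp only [map_sub] at h1 ⊢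
    rw [← f_d] at h1
    rw [← sub_eq_zero, ← sub_eq_zero.2 h1]
    abel
  · have h0 : (D n).d m (m + 1) ((D n).d (m - 1) m (v n)) = 0 :=
      (ConcreteCategory.comp_apply _ _ (v n)).symm.trans
        (ConcreteCategory.congr_hom ((D n).d_comp_d (m - 1) m (m + 1)) (v n))
    rw [map_sub, h'd, h0, sub_zero]
  · obtain ⟨b, hb⟩ := hg' n₀ 0 rfl
    refine ⟨b - v n₀, ?_⟩
    rw [map_sub, hb]
    change g n₀ - x₀ - (D n₀).d (m - 1) m (v n₀) = G n₀ - (D n₀).d (m - 1) m (v n₀) - x₀
    rw [show G n₀ = g n₀ from h'ge _ _ le_rfl]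
    abel

end Groth.Agent.Lib.RlimTrunc.LimCxAb
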