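import Groth.Agent.Lib.RlimTrunc.LimCxAb
import Groth.Agent.Lib.RlimTrunc.AbSheaf

/-!
# Cohomology sheaves of limits of complexes
-/

set_option autoImplicit false
set_option linter.unusedSectionVars false

universe u

open CategoryTheory CategoryTheory.Limits Opposite

namespace Groth.Agent.Lib.RlimTrunc.LimCxSheaf

open SiteCoh.Basic

variable {C : Type u} [SmallCategory C] (J : GrothendieckTopology C)
  (F : ℕ → CochainComplex (Sheaf J AddCommGrpCat.{u}) ℤ) (t : ∀ n, F (n + 1) ⟶ F n)

/-- The system of complexes of sections. -/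
noncomputable abbrev sT (U : C) (n : ℕ) : (CohCx.sectCx J U).obj (F (n + 1)) ⟶
    (CohCx.sectCx J U).obj (F n) := (CohCx.sectCx J U).map (t n)

lemma sectCx_transition (U : C) (n₀ k : ℕ) :
    (CohCx.sectCx J U).map (CohCx.transition F t n₀ k) =
      CohCx.transition (fun n => (CohCx.sectCx J U).obj (F n)) (sT J F t U) n₀ k := by
  induction k with
  | zero => exact (CohCx.sectCx J U).map_id _
  | succ k ih =>
    exact ((CohCx.sectCx J U).map_comp (t (n₀ + k)) (CohCx.transition F t n₀ k)).trans
      (congrArg (sT J F t U (n₀ + k) ≫ ·) ih)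

/-- The projections from the limit. -/
noncomputable abbrev π (n : ℕ) : limit (CohCx.opSequence F t) ⟶ F n :=
  limit.π (CohCx.opSequence F t) (op n)

lemma π_comp (n : ℕ) : π J F t (n + 1) ≫ t n = π J F t n := by
  have h := limit.w (CohCx.opSequence F t) (homOfLE (Nat.le_succ n)).op
  rwa [show (CohCx.opSequence F t).map (homOfLE (Nat.le_succ n)).op = t n from
    Functor.ofOpSequence_map_homOfLE_succ _ n] at h

/-- Sections of a term of the limit are compatible families of sections. -/
theorem exists_sect (U : C) (j : ℤ) (y : ∀ n, ((F n).X j).obj.obj (op U))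
    (hy : ∀ n, ((t n).f j).hom.app (op U) (y (n + 1)) = y n) :
    ∃ z : ((limit (CohCx.opSequence F t)).X j).obj.obj (op U),
      ∀ n, ((π J F t n).f j).hom.app (op U) z = y n := by
  let ev := HomologicalComplex.eval (Sheaf J AddCommGrpCat.{u}) (ComplexShape.up ℤ) j
  let hl := isLimitOfPreserves ev (limit.isLimit (CohCx.opSequence F t))
  let c : Cone (CohCx.opSequence F t ⋙ ev) :=
    { pt := CohCx.freeSheaf J U
      π := NatTrans.ofOpSequence (fun n => (homEquiv U ((F n).X j)).symm (y n)) fun n => by
        apply (homEquiv U _).injective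
        change homEquiv U ((F n).X j) (𝟙 _ ≫ (homEquiv U ((F n).X j)).symm (y n)) =
          homEquiv U ((F n).X j) ((homEquiv U ((F (n + 1)).X j)).symm (y (n + 1)) ≫
            ev.map ((CohCx.opSequence F t).map (homOfLE n.le_succ).op))
        rw [show (CohCx.opSequence F t).map (homOfLE n.le_succ).op = t n from
          Functor.ofOpSequence_map_homOfLE_succ _ n]
        rw [Category.id_comp, homEquiv_comp, AddEquiv.apply_symm_apply, AddEquiv.apply_symm_apply]
        exact (hy n).symm }
  refine ⟨homEquiv U _ (hl.lift c), fun n => ?_⟩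
  refine ((homEquiv_comp (hl.lift c) ((π J F t n).f j)).symm.trans ?_)
  exact (congrArg (homEquiv U _) (hl.fac c (op n))).trans (AddEquiv.apply_symm_apply _ _)

/-- Sections of a term of the limit are determined by their components. -/
theorem sect_ext (U : C) (j : ℤ) (z z' : ((limit (CohCx.opSequence F t)).X j).obj.obj (op U))
    (h : ∀ n, ((π J F t n).f j).hom.app (op U) z = ((π J F t n).f j).hom.app (op U) z') : z = z' := by
  let ev := HomologicalComplex.eval (Sheaf J AddCommGrpCat.{u}) (ComplexShape.up ℤ) j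
  let hl := isLimitOfPreserves ev (limit.isLimit (CohCx.opSequence F t))
  apply (homEquiv U _).symm.injective
  refine hl.hom_ext fun ⟨n⟩ => (homEquiv U _).injective ?_
  exact (homEquiv_comp _ _).trans (((congrArg _ (AddEquiv.apply_symm_apply _ z)).trans (h n)).trans
    ((homEquiv_comp _ _).trans (congrArg _ (AddEquiv.apply_symm_apply _ z'))).symm)

/-- Naturality of sections in a composite. -/
lemma app_comp {U : C} {M N P : Sheaf J AddCommGrpCat.{u}} (a : M ⟶ N) (b : N ⟶ P)
    (x : M.obj.obj (op U)) : (a ≫ b).hom.app (op U) x = b.hom.app (op U) (a.hom.app (op U) x) := rfl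

variable (m : ℤ) (B : Set C)
  (hB : ∀ U : C, ∃ (ι : Type u) (Y : ι → C) (f : ∀ i, Y i ⟶ U), Sieve.ofArrows Y f ∈ J U ∧ ∀ i, Y i ∈ B)
  (n₀ : ℕ)
  (ha : ∀ U ∈ B, ∀ j : ℤ, (j = m - 2 ∨ j = m - 1) →
    CohCx.LimOneIsZero (fun n => ((F n).X j).obj.obj (op U)) (fun n => (((t n).f j).hom.app (op U)).hom))
  (hb : ∀ U ∈ B, CohCx.LimOneIsZero
    (fun n => ((CohCx.sectCx J U).obj (F n)).homology (m - 1))
    (fun n => (HomologicalComplex.homologyMap ((CohCx.sectCx J U).map (t n)) (m - 1)).hom))
  (hc : ∀ U ∈ B, ∀ k : ℕ, IsIso (HomologicalComplex.homologyMap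
    ((CohCx.sectCx J U).map (CohCx.transition F t n₀ k)) m))

include hc in
lemma bijective_transition (U : C) (hU : U ∈ B) (k : ℕ) :
    Function.Bijective (HomologicalComplex.homologyMap
      (CohCx.transition (fun n => (CohCx.sectCx J U).obj (F n)) (sT J F t U) n₀ k) m) := by
  have := hc U hU k
  rw [sectCx_transition] at this
  exact ConcreteCategory.bijective_of_isIso _

include hB ha hb hc in
/-- The comparison of cohomology sheaves. -/
theorem isIso_homologyMap : IsIso (HomologicalComplex.homologyMap (π J F t n₀) m) := by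
  let L := limit (CohCx.opSequence F t)
  let free := AbSheaf.free J
  let hd := AbSheaf.isDetecting J
  have hmono : Mono (HomologicalComplex.homologyMap (π J F t n₀) m) := by
    refine Preadditive.mono_of_cancel_zero _ fun {X} k hk => hd.separating k fun U s₀ => ?_
    obtain ⟨S, hS, hS'⟩ := hd.exists_liftSieve (L.homologyπ m) inferInstance (s₀ ≫ k)
    refine hd.eq_zero_of_local _ S hS fun Y f hf => ?_
    obtain ⟨x, hx⟩ := hS' f hf
    rw [← hx]
    let x₀ := x ≫ HomologicalComplex.cyclesMap (π J F t n₀) m
    have hx₀ : x₀ ≫ (F n₀).homologyπ m = 0 := by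
      rw [Category.assoc, ← HomologicalComplex.homologyπ_naturality, ← Category.assoc, hx,
        Category.assoc, Category.assoc, hk, comp_zero, comp_zero]
    have hex : (ShortComplex.mk ((F n₀).toCycles (m - 1) m) ((F n₀).homologyπ m)
        ((F n₀).toCycles_comp_homologyπ (m - 1) m)).Exact :=
      ShortComplex.exact_of_g_is_cokernel _ ((F n₀).homologyIsCokernel (m - 1) m (by simp))
    obtain ⟨T, hT, hT'⟩ := hd.exists_liftSieve _
      ((ShortComplex.exact_iff_epi_kernel_lift _).1 hex) (kernel.lift _ x₀ hx₀)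
    refine hd.eq_zero_of_local _ T hT fun Z g hg => ?_
    obtain ⟨w, hw⟩ := hT' g hg
    have hw' : w ≫ (F n₀).toCycles (m - 1) m = free.map g ≫ x₀ := by
      have h1 := congrArg (fun q => q ≫ kernel.ι ((F n₀).homologyπ m)) hw
      simpa [free] using h1
    have hw'' : w ≫ (F n₀).d (m - 1) m =
        free.map g ≫ (x ≫ L.iCycles m) ≫ (π J F t n₀).f m := by
      rw [← (F n₀).toCycles_i (m - 1) m, ← Category.assoc, hw']
      simp only [x₀, Category.assoc, HomologicalComplex.cyclesMap_i, L]
    obtain ⟨ι, V, e, he, hV⟩ := hB Z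
    refine hd.eq_zero_of_cover _ V e he fun i => ?_
    let W := V i
    let q : CohCx.freeSheaf J W ⟶ L.cycles m := free.map (e i) ≫ free.map g ≫ x
    let X : L.X m |>.obj.obj (op W) := homEquiv W _ (q ≫ L.iCycles m)
    let xs : ∀ n, ((F n).X m).obj.obj (op W) := fun n => ((π J F t n).f m).hom.app (op W) X
    obtain ⟨Ys, hYt, hYd⟩ := LimCxAb.exists_compat_primitive
      (fun n => (CohCx.sectCx J W).obj (F n)) (sT J F t W) m n₀ (ha W (hV i) _ (Or.inl rfl))
      (hb W (hV i)) (fun k => (bijective_transition J F t m B n₀ hc W (hV i) k).1) xs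
      (fun n => by
        change ((t n).f m).hom.app (op W) (((π J F t (n + 1)).f m).hom.app (op W) X) = _
        rw [← app_comp, ← HomologicalComplex.comp_f, π_comp])
      (fun n => by
        change ((F n).d m (m + 1)).hom.app (op W) (((π J F t n).f m).hom.app (op W) X) = 0
        rw [← app_comp, (π J F t n).comm m (m + 1), ← homEquiv_comp]
        rw [Category.assoc, ← Category.assoc (L.iCycles m), L.iCycles_d, zero_comp, comp_zero, map_zero])
      ⟨homEquiv W _ (free.map (e i) ≫ w), by
        change ((F n₀).d (m - 1) m).hom.app (op W) _ = _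
        rw [← homEquiv_comp, Category.assoc, hw'']
        refine Eq.trans ?_ (homEquiv_comp (q ≫ L.iCycles m) ((π J F t n₀).f m))
        simp only [q, Category.assoc]⟩
    obtain ⟨Yz, hYz⟩ := exists_sect J F t W (m - 1) Ys hYt
    have hdY : (L.d (m - 1) m).hom.app (op W) Yz = X := sect_ext J F t W m _ _ fun n => by
      rw [← app_comp, ← (π J F t n).comm (m - 1) m, app_comp, hYz n]
      exact hYd n
    have hq : q = (homEquiv W _).symm Yz ≫ L.toCycles (m - 1) m := by
      rw [← cancel_mono (L.iCycles m)]
      refine Eq.trans ?_ (Category.assoc _ _ _).symm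
      rw [L.toCycles_i]
      apply (homEquiv W _).injective
      refine Eq.trans ?_ (homEquiv_comp _ _).symm
      rw [AddEquiv.apply_symm_apply, hdY]
    have : q ≫ L.homologyπ m = 0 := by
      rw [hq, Category.assoc, L.toCycles_comp_homologyπ, comp_zero]
    simpa [q, free] using this
  have hepi : Epi (HomologicalComplex.homologyMap (π J F t n₀) m) := by
    refine Preadditive.epi_of_cancel_zero _ fun {X} ψ hψ => hd.separating ψ fun U s => ?_
    obtain ⟨S, hS, hS'⟩ := hd.exists_liftSieve ((F n₀).homologyπ m) inferInstance s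
    refine hd.eq_zero_of_local _ S hS fun Y f hf => ?_
    obtain ⟨x, hx⟩ := hS' f hf
    obtain ⟨ι, V, e, he, hV⟩ := hB Y
    refine hd.eq_zero_of_cover _ V e he fun i => ?_
    let W := V i
    let q : CohCx.freeSheaf J W ⟶ (F n₀).cycles m := free.map (e i) ≫ x
    let x₀ : ((F n₀).X m).obj.obj (op W) := homEquiv W _ (q ≫ (F n₀).iCycles m)
    obtain ⟨Xs, hXt, hXd, w, hw⟩ := LimCxAb.exists_compat_cycle
      (fun n => (CohCx.sectCx J W).obj (F n)) (sT J F t W) m n₀ (ha W (hV i) _ (Or.inr rfl))
      (bijective_transition J F t m B n₀ hc W (hV i)) x₀ (by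
        change ((F n₀).d m (m + 1)).hom.app (op W) _ = 0
        rw [← homEquiv_comp, Category.assoc, (F n₀).iCycles_d, comp_zero, map_zero])
    obtain ⟨Xz, hXz⟩ := exists_sect J F t W m Xs hXt
    let c := L.liftCycles ((homEquiv W _).symm Xz) (m + 1) (by simp) (by
      apply (homEquiv W _).injective
      rw [map_zero, homEquiv_comp, AddEquiv.apply_symm_apply]
      refine sect_ext J F t W (m + 1) _ _ fun n => ?_
      rw [map_zero, ← app_comp, ← (π J F t n).comm m (m + 1), app_comp, hXz n]
      exact hXd n)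
    have hcq : c ≫ HomologicalComplex.cyclesMap (π J F t n₀) m =
        q + (homEquiv W _).symm w ≫ (F n₀).toCycles (m - 1) m := by
      rw [← cancel_mono ((F n₀).iCycles m), Category.assoc, HomologicalComplex.cyclesMap_i,
        ← Category.assoc, L.liftCycles_i, Preadditive.add_comp]
      refine Eq.trans ?_ (congrArg (q ≫ (F n₀).iCycles m + ·) (Category.assoc _ _ _).symm)
      rw [(F n₀).toCycles_i]
      apply (homEquiv W _).injective
      rw [map_add, homEquiv_comp ((homEquiv W _).symm w), AddEquiv.apply_symm_apply,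
        homEquiv_comp ((homEquiv W _).symm Xz), AddEquiv.apply_symm_apply, hXz n₀]
      exact (eq_add_of_sub_eq' hw.symm)
    have hfin := congrArg (fun r => r ≫ (F n₀).homologyπ m ≫ ψ) hcq
    simp only [Category.assoc, Preadditive.add_comp] at hfin
    rw [← reassoc_of% (HomologicalComplex.homologyπ_naturality (π J F t n₀) m), hψ, comp_zero,
      comp_zero, reassoc_of% ((F n₀).toCycles_comp_homologyπ (m - 1) m), zero_comp, comp_zero,
      add_zero] at hfin
    simp only [q, Category.assoc] at hfin
    rw [← Category.assoc x, hx, Category.assoc] at hfin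
    exact hfin.symm
  exact isIso_of_mono_of_epi _

end Groth.Agent.Lib.RlimTrunc.LimCxSheaf
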