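import Groth.Agent.Lib.RlimTrunc.LimCoh
import Groth.Prelude.Def_DCoh2

/-!
# Limits of acyclic systems as derived limits
-/

set_option autoImplicit false
set_option linter.unusedSectionVars false

universe w u

open CategoryTheory CategoryTheory.Limits CategoryTheory.Pretriangulated DerivedCategory

namespace Groth.Agent.Lib.RlimTrunc.LimSingle

open Tower Single Devissage Main Milnor

variable {C : Type u} [SmallCategory C] {J : GrothendieckTopology C}
  {A : Type (u + 1)} [Category.{u} A] [Abelian A] [HasDerivedCategory.{w} A] [EnoughInjectives A]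
  [HasLimitsOfShape (Discrete ℕ) A] [HasLimitsOfShape ℕᵒᵖ A] {free : C ⥤ A}

/-- The limit of an acyclic system, surjective on classes up to shift, is its derived limit. -/
theorem isRlim_limit (hd : IsDetecting J free) (B : Set C)
    (hB : ∀ U : C, ∃ (ι : Type u) (Y : ι → C) (f : ∀ i, Y i ⟶ U),
      Sieve.ofArrows Y f ∈ J U ∧ ∀ i, Y i ∈ B)
    (F : ℕ → A) (s : ∀ n, F (n + 1) ⟶ F n)
    [HasProduct fun n => (singleFunctor A 0).obj (F n)]
    (h1 : ∀ U ∈ B, ∀ (n k : ℕ), 0 < k → ExtVanish (free.obj U) (F n) k)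
    (h2 : ∀ U ∈ B, ∀ y : ∀ n, free.obj U ⟶ F n, ∃ x : ∀ n, free.obj U ⟶ F n,
      ∀ n, x n - x (n + 1) ≫ s n = y n) :
    DCoh.IsRlim (fun n => (singleFunctor A 0).obj (F n)) (fun n => (singleFunctor _ 0).map (s n))
      ((singleFunctor _ 0).obj (limit (CohCx.opSequence F s))) ∧
    ∀ U ∈ B, ∀ p : ℕ, HomZero (W (free.obj U) ((p : ℤ) + 1))
      ((singleFunctor A 0).obj (limit (CohCx.opSequence F s))) := by
  let K₀ : ℕ → DerivedCategory A := fun n => (singleFunctor A 0).obj (F n)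
  let t₀ : ∀ n, K₀ (n + 1) ⟶ K₀ n := fun n => (singleFunctor A 0).map (s n)
  obtain ⟨L₀, a₀, c₀, hd₀⟩ := distinguished_cocone_triangle₁
    (Pi.lift fun n => Pi.π K₀ n - Pi.π K₀ (n + 1) ≫ t₀ n)
  have hL : CohCx.IsRlimVia K₀ t₀ L₀ (fun n => a₀ ≫ Pi.π K₀ n) :=
    ⟨c₀, by
      rwa [show (Pi.lift fun n => a₀ ≫ Pi.π K₀ n) = a₀ from
        Pi.hom_ext _ _ fun n => Pi.lift_π _ n]⟩
  have hz : ∀ n (q : ℤ), q ≠ 0 → IsZero ((homologyFunctor A q).obj (K₀ n)) := fun n q hq => by
    rcases lt_or_gt_of_ne hq with h | h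
    · exact isZero_of_isGE _ 0 q h
    · exact isZero_of_isLE _ 0 q h
  let eF : ∀ n, (homologyFunctor A 0).obj (K₀ n) ≅ F n := fun n =>
    (singleFunctorCompHomologyFunctorIso A 0).app (F n)
  have hθ : ∀ U ∈ B, ∀ (n : ℕ) (q : ℤ),
      Function.Bijective (θ (g := free.obj U) (m := q) (L := K₀ n)) := fun U hU n q =>
    LimCoh.bijective_θ hd B hB (K₀ n) (fun V hV q k hk => by
      by_cases hq : q = 0
      · subst hq
        exact (h1 V hV n k hk).of_iso (eF n).symm
      · exact extVanish_of_isZero _ (hz n q hq) _) U hU q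
  have hlim : ∀ U ∈ B, ∀ q : ℤ, LimSurj (W (free.obj U) q) K₀ t₀ := fun U hU q => by
    by_cases hq : q = 0
    · subst hq
      refine LimCoh.limSurj_of_θ (fun n => hθ U hU n 0) fun y => ?_
      obtain ⟨x, hx⟩ := h2 U hU fun n => y n ≫ (eF n).hom
      refine ⟨fun n => x n ≫ (eF n).inv, fun n => ?_⟩
      have hnat : (eF (n + 1)).inv ≫ (homologyFunctor A 0).map (t₀ n) = s n ≫ (eF n).inv :=
        ((singleFunctorCompHomologyFunctorIso A 0).inv.naturality (s n)).symm
      rw [Category.assoc, hnat, ← Category.assoc, ← Preadditive.sub_comp, hx n, Category.assoc,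
        Iso.hom_inv_id, Category.comp_id]
    · exact limSurj_of_homZero fun n f => (hθ U hU n q).1 ((hz n q hq).eq_of_tgt _ _)
  have hiso := fun q => LimCoh.exists_iso_limit hd B hB hL hθ hlim q
  have hzL : ∀ q : ℤ, q ≠ 0 → IsZero ((homologyFunctor A q).obj L₀) := fun q hq => by
    obtain ⟨e⟩ := hiso q
    refine IsZero.of_iso ?_ e
    exact (IsZero.iff_id_eq_zero _).2 (limit.hom_ext fun ⟨n⟩ => (hz n q hq).eq_of_tgt _ _)
  haveI : L₀.IsGE 0 := (isGE_iff _ _).2 fun i hi => hzL i hi.ne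
  haveI : L₀.IsLE 0 := (isLE_iff _ _).2 fun i hi => hzL i hi.ne'
  obtain ⟨M, ⟨eM⟩⟩ := exists_iso_singleFunctor_obj_of_isGE_of_isLE L₀ 0
  obtain ⟨e0⟩ := hiso 0
  have hnatF : ∀ n, (homologyFunctor A 0).map (t₀ n) ≫ (eF n).hom = (eF (n + 1)).hom ≫ s n := fun n =>
    (singleFunctorCompHomologyFunctorIso A 0).hom.naturality (s n)
  let eSeq : CohCx.opSequence (fun n => (homologyFunctor A 0).obj (K₀ n))
      (fun n => (homologyFunctor A 0).map (t₀ n)) ≅ CohCx.opSequence F s :=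
    NatIso.ofComponents (fun n => eF n.unop) fun {i j} f => by
      exact (NatTrans.ofOpSequence (F := CohCx.opSequence (fun n => (homologyFunctor A 0).obj (K₀ n))
        (fun n => (homologyFunctor A 0).map (t₀ n))) (G := CohCx.opSequence F s)
        (fun n => (eF n).hom) (fun n => by
          rw [Functor.ofOpSequence_map_homOfLE_succ, Functor.ofOpSequence_map_homOfLE_succ]
          exact hnatF n)).naturality f
  let eL : L₀ ≅ (singleFunctor A 0).obj (limit (CohCx.opSequence F s)) :=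
    eM ≪≫ (singleFunctor A 0).mapIso (((singleFunctorCompHomologyFunctorIso A 0).app M).symm ≪≫
      (homologyFunctor A 0).mapIso eM.symm ≪≫ e0 ≪≫ HasLimit.isoOfNatIso eSeq)
  refine ⟨⟨eL.inv ≫ a₀, c₀ ≫ eL.hom⟦(1 : ℤ)⟧', isomorphic_distinguished _ hd₀ _
    (Triangle.isoMk _ _ eL.symm (Iso.refl _) (Iso.refl _) (Category.comp_id _)
      ((Category.comp_id _).trans (Category.id_comp _).symm) ?_)⟩, fun U hU p => ?_⟩
  · change (c₀ ≫ eL.hom⟦(1 : ℤ)⟧') ≫ eL.inv⟦(1 : ℤ)⟧' = 𝟙 _ ≫ c₀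
    rw [Category.id_comp, Category.assoc, ← Functor.map_comp, eL.hom_inv_id,
      CategoryTheory.Functor.map_id, Category.comp_id]
  · have hzero : HomZero (W (free.obj U) ((p : ℤ) + 1)) L₀ :=
      LimCoh.homZero_of_isZero hL (fun n => hθ U hU n _) (hlim U hU _) fun n => hz n _ (by omega)
    exact Tower.HomZero.of_iso hzero (Iso.refl _) eL

end Groth.Agent.Lib.RlimTrunc.LimSingle
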