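import Groth.Agent.Lib.RlimTrunc.Pres
import Groth.Agent.Lib.RlimTrunc.Devissage

/-!
# Cohomology of derived limits on a site
-/

set_option autoImplicit false
set_option linter.unusedSectionVars false

universe w v v' u u' t'

open CategoryTheory CategoryTheory.Limits CategoryTheory.Pretriangulated DerivedCategory

namespace Groth.Agent.Lib.RlimTrunc.Main

open Tower Single Devissage

variable {C : Type u'} [Category.{v'} C] {J : GrothendieckTopology C}
variable {A : Type u} [Category.{v} A] [Abelian A] {free : C ⥤ A} [HasDerivedCategory.{w} A]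

/-- The objects of the site, as test objects in degree `m`. -/
noncomputable abbrev testObj (free : C ⥤ A) (m : ℤ) : C ⥤ DerivedCategory A :=
  free ⋙ HomologicalComplex.single A (ComplexShape.up ℤ) m ⋙ DerivedCategory.Q

/-- Cohomology objects are presented by the objects of the site. -/
noncomputable def homologyPres (hd : IsDetecting J free) (m : ℤ) :
    LocPres J free (testObj free m) (homologyFunctor A m) where
  θ w := Single.θ w
  θ_comp w ψ := Single.θ_comp w ψ
  θ_left f _ w := θ_Wmap (free.map f) w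
  θ_zero _ _ := Single.θ_zero
  exists_lift {U L} s := by
    obtain ⟨N, π, hπ, hlift⟩ := Single.exists_lift L m
    obtain ⟨S, hS, hS'⟩ := hd.exists_liftSieve π hπ s
    refine ⟨S, hS, fun Y f hf => ?_⟩
    obtain ⟨x, hx⟩ := hS' f hf
    obtain ⟨w, hw⟩ := hlift x
    exact ⟨w, hw.trans hx⟩
  exists_null {U L} w hw := by
    obtain ⟨N, M, p, z, hp, hnull⟩ := Single.exists_null w hw
    obtain ⟨S, hS, hS'⟩ := hd.exists_liftSieve p hp z
    refine ⟨S, hS, fun Y f hf => ?_⟩
    obtain ⟨x, hx⟩ := hS' f hf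
    exact hnull _ x hx

/-- The criterion for cohomology objects. -/
theorem isIso_homologyMap (hd : IsDetecting J free) (m : ℤ) {K : ℕ → DerivedCategory A}
    {t : ∀ n, K (n + 1) ⟶ K n} {L : DerivedCategory A} {a : ∀ n, L ⟶ K n}
    (hgood : CofinalGood.{v', u', t'} J fun Y (N : ℕ) => ∀ n, N ≤ n →
      Function.Bijective fun x : W (free.obj Y) m ⟶ L => x ≫ a n)
    (hat : ∀ n, a (n + 1) ≫ t n = a n) (n₀ : ℕ)
    (hconst : ∀ n, n₀ ≤ n → IsIso ((homologyFunctor A m).map (t n))) (n : ℕ) (hn : n₀ ≤ n) :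
    IsIso ((homologyFunctor A m).map (a n)) :=
  (homologyPres hd m).isIso_map hd hgood hat n₀ hconst n hn

/-- Maps out of `W g m` into a derived limit, by vanishing into the cones of the transition maps. -/
theorem bijective_of_cones {K : ℕ → DerivedCategory A} {t : ∀ n, K (n + 1) ⟶ K n} [HasProduct K]
    {L : DerivedCategory A} {a : ∀ n, L ⟶ K n} (hL : CohCx.IsRlimVia K t L a) {g : A} {m : ℤ}
    (N : ℕ) (h : ∀ n, N ≤ n → ∀ (Z : DerivedCategory A) (p : K n ⟶ Z) (q : Z ⟶ (K (n + 1))⟦(1 : ℤ)⟧),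
      Triangle.mk (t n) p q ∈ distTriang (DerivedCategory A) →
      HomZero (W g m) Z ∧ HomZero (W g (m - 1)) Z) (n : ℕ) (hn : N ≤ n) :
    Function.Bijective fun x : W g m ⟶ L => x ≫ a n := by
  refine Tower.bijective_comp hL N (fun k hk => ?_) (fun k hk => ?_) n hn
  all_goals obtain ⟨Z, p, q, hT⟩ := distinguished_cocone_triangle (t k)
  all_goals obtain ⟨h₁, h₂⟩ := h k hk Z p q hT
  · exact ⟨injective_comp_mor₁ _ hT (homZero_shift_one h₂), surjective_comp_mor₁ _ hT h₁⟩
  · exact surjective_comp_mor₁ _ hT (homZero_shift_one h₂)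

end Groth.Agent.Lib.RlimTrunc.Main
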