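import Groth.Agent.Lib.RlimTrunc.ModPush
import Groth.Agent.S9069
import Mathlib.CategoryTheory.Triangulated.TStructure.TruncLTGE

/-!
# `f^*` and `Rf_*` between unbounded derived categories of modules with cohomology in weak Serre classes
-/

set_option autoImplicit false
set_option linter.unusedSectionVars false

universe u

open CategoryTheory CategoryTheory.Limits CategoryTheory.Pretriangulated DerivedCategory

attribute [local instance] HasDerivedCategory.standard
attribute [local instance] Groth.Agent.Lib.DerivedOX.Exists.isLeftAdjoint_Qh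

namespace Groth.Agent.Lib.RlimTrunc.ModEquiv

open Single Devissage

variable {C : Type u} [SmallCategory C] {J : GrothendieckTopology C} {O_C : Sheaf J CommRingCat.{u}}
  {D : Type u} [SmallCategory D] {K : GrothendieckTopology D} {O_D : Sheaf K CommRingCat.{u}}
  (f : _root_.ModSite.RMor O_C O_D) [PreservesFiniteLimits f.pull] [SiteCmp.HasRpushD f]
  (adj : SiteCmp.pullD f ⊣ SiteCmp.RpushD f)
  (P : ObjectProperty (_root_.ModSite.Mod O_C)) [WSerre.IsWeakSerre P]
  (P' : ObjectProperty (_root_.ModSite.Mod O_D)) [WSerre.IsWeakSerre P']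

/-- A morphism inverted in the degrees above `-n` stays so after an exact functor. -/
lemma isIso_homologyMap_map {A B : Type (u + 1)} [Category.{u} A] [Abelian A] [Category.{u} B]
    [Abelian B] (G : A ⥤ B) [G.Additive] [PreservesFiniteLimits G] [PreservesFiniteColimits G]
    {X Y : DerivedCategory A} (φ : X ⟶ Y) (a : ℤ)
    (h : ∀ i, a ≤ i → IsIso ((homologyFunctor A i).map φ)) (j : ℤ) (hj : a < j) :
    IsIso ((homologyFunctor B j).map (G.mapDerivedCategory.map φ)) := by
  obtain ⟨Z, p, q, hT⟩ := distinguished_cocone_triangle φ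
  have hz : WSerre.cohIn (fun M => IsZero M) (G.mapDerivedCategory.obj
      ((TStructure.t.truncGE a).obj Z)) := by
    intro i
    obtain ⟨K, ⟨e⟩⟩ : ∃ K, Nonempty (DerivedCategory.Q.obj K ≅ (TStructure.t.truncGE a).obj Z) :=
      ⟨_, ⟨DerivedCategory.Q.objObjPreimageIso _⟩⟩
    have hZ : IsZero ((homologyFunctor A i).obj ((TStructure.t.truncGE a).obj Z)) := by
      by_cases hi : a ≤ i
      · have h₁ := h i hi
        have h₂ := h (i + 1) (by omega)
        exact (@isZero_homology_obj₃ _ _ _ _ _ hT i (i + 1) rfl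
          (@IsIso.epi_of_iso _ _ _ _ _ h₁) (@IsIso.mono_of_iso _ _ _ _ _ h₂)).of_iso
          (@asIso _ _ _ _ _ (@DerCat.TStruct.isIso_homologyMap_mor₂ _ _ _ _ _
            (TStructure.t.triangleLTGE_distinguished a Z) (a - 1)
            (inferInstance : TStructure.t.IsLE ((TStructure.t.truncLT a).obj Z) (a - 1)) i
            (by omega))).symm
      · exact @isZero_of_isGE _ _ _ _ _ a i (by omega)
          (inferInstance : TStructure.t.IsGE ((TStructure.t.truncGE a).obj Z) a)
    exact ((G.map_isZero hZ).of_iso (((K.sc i).mapHomologyIso G) ≪≫ G.mapIso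
      ((homologyFunctorFactors A i).symm.app K ≪≫ (homologyFunctor A i).mapIso e))).of_iso
      ((homologyFunctor B i).mapIso (G.mapDerivedCategory.mapIso e.symm ≪≫ DR.ExactPush.mapQ G K) ≪≫
        (homologyFunctorFactors B i).app _)
  have hZ' : ∀ i, a ≤ i → IsZero ((homologyFunctor B i).obj (G.mapDerivedCategory.obj Z)) :=
    fun i hi => (hz i).of_iso (@asIso _ _ _ _ _ (@DerCat.TStruct.isIso_homologyMap_mor₂ _ _ _ _ _
      (G.mapDerivedCategory.map_distinguished _ (TStructure.t.triangleLTGE_distinguished a Z)) (a - 1)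
      (DR.ExactPush.isLE_map G
        (inferInstance : TStructure.t.IsLE ((TStructure.t.truncLT a).obj Z) (a - 1))) i (by omega)))
  have hT' := G.mapDerivedCategory.map_distinguished _ hT
  have : Epi ((homologyFunctor B j).map (G.mapDerivedCategory.map φ)) :=
    (HomologySequence.epi_homologyMap_mor₁_iff _ hT' j).2 ((hZ' j (by omega)).eq_of_tgt _ _)
  have : Mono ((homologyFunctor B j).map (G.mapDerivedCategory.map φ)) :=
    (HomologySequence.mono_homologyMap_mor₁_iff _ hT' (j - 1) j (by omega)).2
      ((hZ' (j - 1) (by omega)).eq_of_src _ _)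
  exact isIso_of_mono_of_epi _

variable (h2a : ∀ F' : _root_.ModSite.Mod O_D, P' F' → P (f.pull.obj F'))
  (h2c : ∀ F : _root_.ModSite.Mod O_C, P F →
    ∃ F' : _root_.ModSite.Mod O_D, P' F' ∧ Nonempty (f.pull.obj F' ≅ F))
  (h3 : ∀ F' : _root_.ModSite.Mod O_D, P' F' → IsIso (adj.unit.app (SiteCmp.inD O_D F')))

include adj h2c h3 in
/-- Higher direct images of the class vanish, and the direct image lands in the target class. -/
lemma rpush_class (M : _root_.ModSite.Mod O_C) (hM : P M) (p : ℕ) :
    (0 < p → IsZero ((f.Rpush p).obj M)) ∧ P' ((f.Rpush p).obj M) := by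
  obtain ⟨F', hF', ⟨e⟩⟩ := h2c M hM
  have := h3 F' hF'
  let i₁ : SiteCmp.inD O_D F' ≅ (SiteCmp.RpushD f).obj (SiteCmp.inD O_C M) :=
    (@asIso _ _ _ _ (adj.unit.app (SiteCmp.inD O_D F')) this) ≪≫ (SiteCmp.RpushD f).mapIso
      (DR.ExactPush.mapSingle f.pull F' 0 ≪≫ (DerivedCategory.singleFunctor _ 0).mapIso e)
  let i₂ : (homologyFunctor (_root_.ModSite.Mod O_D) (p : ℤ)).obj (W F' 0) ≅ (f.Rpush p).obj M :=
    (homologyFunctor (_root_.ModSite.Mod O_D) (p : ℤ)).mapIso (i₁ ≪≫
      ((DerivedOX.RightDerived.totalRightDerivedIso (SiteCmp.pushKh f)).app (W M 0)).symm ≪≫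
      RightSingle.RWIso f.push (injectiveResolution M)) ≪≫ (hIso _ (p : ℤ)).symm ≪≫
    DerCat.RFObj.mapResHomologyIso f.push (injectiveResolution M) p
  constructor
  · intro hp
    exact (isZero_of_isLE (W F' 0) 0 (p : ℤ) (by omega)).of_iso i₂.symm
  · refine P'.prop_of_iso i₂ ?_
    rcases Nat.eq_zero_or_pos p with rfl | hp
    · exact P'.prop_of_iso
        ((singleFunctorCompHomologyFunctorIso (_root_.ModSite.Mod O_D) 0).app F').symm hF'
    · exact DerCat29.CohIn.prop_of_isZero P' (isZero_of_isLE (W F' 0) 0 (p : ℤ) (by omega))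

variable (h2b : ∀ F' G' : _root_.ModSite.Mod O_D, P' F' → P' G' →
    Function.Bijective (fun φ : F' ⟶ G' => f.pull.map φ))
  (hR : ∀ X, WSerre.cohIn P X → WSerre.cohIn P' ((SiteCmp.RpushD f).obj X) ∧
    ∀ (n : ℕ) (j : ℤ), (0 : ℤ) - (n : ℤ) ≤ j →
      IsIso ((homologyFunctor (_root_.ModSite.Mod O_D) j).map
        ((SiteCmp.RpushD f).map (CohCx.toTruncTower X n))))

include h2a h2b h2c h3 hR

/-- `f^*` and `Rf_*` are inverse equivalences between the unbounded categories. -/
theorem equiv_cohIn :
    (∀ Y : DerivedCategory (_root_.ModSite.Mod O_D), WSerre.cohIn P' Y →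
      WSerre.cohIn P ((SiteCmp.pullD f).obj Y) ∧ IsIso (adj.unit.app Y)) ∧
    (∀ X : DerivedCategory (_root_.ModSite.Mod O_C), WSerre.cohIn P X →
      WSerre.cohIn P' ((SiteCmp.RpushD f).obj X) ∧ IsIso (adj.counit.app X)) := by
  obtain ⟨hunit, hcounit⟩ := Groth.Agent.S9069.result f adj P P' h2a h2b h2c h3
  refine ⟨fun Y hY => ⟨DerCat29.CohIn.cohIn_mapDerivedCategory P' P f.pull h2a Y hY,
    (DerivedCategory.isIso_iff _ _).2 fun j => ?_⟩,
    fun X hX => ⟨(hR X hX).1, (DerivedCategory.isIso_iff _ _).2 fun j => ?_⟩⟩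
  · let n := (1 - j).toNat
    let τY := CohCx.truncTower Y n
    have hge : TStructure.t.IsGE τY (-(n : ℤ)) := inferInstance
    obtain ⟨-, hu⟩ := hunit τY ⟨DerCat29.CohIn.cohIn_truncGE P' hY _, _, hge⟩
    let X := (SiteCmp.pullD f).obj Y
    have : TStructure.t.IsGE ((SiteCmp.pullD f).obj τY) (-(n : ℤ)) := DR.ExactPush.isGE_map f.pull hge
    let σ := TStructure.t.descTruncGE ((SiteCmp.pullD f).map (CohCx.toTruncTower Y n)) (-(n : ℤ))
    have hσ : CohCx.toTruncTower X n ≫ σ = (SiteCmp.pullD f).map (CohCx.toTruncTower Y n) :=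
      TStructure.t.π_descTruncGE _ _
    have hσiso : IsIso ((homologyFunctor (_root_.ModSite.Mod O_D) j).map
        ((SiteCmp.RpushD f).map σ)) := by
      have : IsIso σ := (DerivedCategory.isIso_iff _ _).2 fun i => by
        by_cases hi : -(n : ℤ) ≤ i
        · have h₁ := Trunc.isIso_homologyMap_toTruncTower X n i hi
          have h₂ : IsIso ((homologyFunctor _ i).map
              ((SiteCmp.pullD f).map (CohCx.toTruncTower Y n))) :=
            @DerCat.TStruct.isIso_homologyMap_mor₂ _ _ _ _ _
              ((SiteCmp.pullD f).map_distinguished _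
                (TStructure.t.triangleLTGE_distinguished (-(n : ℤ)) Y)) (-(n : ℤ) - 1)
              (DR.ExactPush.isLE_map f.pull (inferInstance :
                TStructure.t.IsLE ((TStructure.t.truncLT (-(n : ℤ))).obj Y) (-(n : ℤ) - 1)))
              i (by omega)
          rw [← hσ, Functor.map_comp] at h₂
          exact IsIso.of_isIso_comp_left ((homologyFunctor _ i).map (CohCx.toTruncTower X n)) _
        · exact isIso_of_source_target_iso_zero _
            (Trunc.isZero_homology_truncTower X n i (not_le.1 hi)).isoZero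
            (@isZero_of_isGE _ _ _ _ _ (-(n : ℤ)) i (not_le.1 hi) this).isoZero
      infer_instance
    have h₀ : IsIso ((homologyFunctor (_root_.ModSite.Mod O_D) j).map (adj.unit.app Y) ≫
        (homologyFunctor (_root_.ModSite.Mod O_D) j).map
          ((SiteCmp.RpushD f).map ((SiteCmp.pullD f).map (CohCx.toTruncTower Y n)))) := by
      rw [← Functor.map_comp]
      refine Eq.mpr (congrArg (fun k => IsIso ((homologyFunctor _ j).map k))
        (adj.unit.naturality (CohCx.toTruncTower Y n)).symm) ?_
      rw [Functor.map_comp, Functor.id_map]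
      have := Trunc.isIso_homologyMap_toTruncTower Y n j (by omega)
      infer_instance
    have h₁ : IsIso ((homologyFunctor (_root_.ModSite.Mod O_D) j).map
        ((SiteCmp.RpushD f).map ((SiteCmp.pullD f).map (CohCx.toTruncTower Y n)))) := by
      rw [← hσ, Functor.map_comp, Functor.map_comp]
      have := (hR X (DerCat29.CohIn.cohIn_mapDerivedCategory P' P f.pull h2a Y hY)).2 n j (by omega)
      infer_instance
    exact IsIso.of_isIso_comp_right _ ((homologyFunctor (_root_.ModSite.Mod O_D) j).map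
      ((SiteCmp.RpushD f).map ((SiteCmp.pullD f).map (CohCx.toTruncTower Y n))))
  · let n := (2 - j).toNat
    let τX := CohCx.truncTower X n
    have hge : TStructure.t.IsGE τX (-(n : ℤ)) := inferInstance
    obtain ⟨-, hc⟩ := hcounit τX ⟨DerCat29.CohIn.cohIn_truncGE P hX _, _, hge⟩
    have h₁ := isIso_homologyMap_map f.pull ((SiteCmp.RpushD f).map (CohCx.toTruncTower X n))
      (-(n : ℤ)) (fun i hi => (hR X hX).2 n i (by omega)) j (by omega)
    have h₂ := Trunc.isIso_homologyMap_toTruncTower X n j (by omega)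
    have h₀ : IsIso ((homologyFunctor (_root_.ModSite.Mod O_C) j).map (adj.counit.app X) ≫
        (homologyFunctor (_root_.ModSite.Mod O_C) j).map (CohCx.toTruncTower X n)) := by
      rw [← Functor.map_comp]
      refine Eq.mpr (congrArg (fun k => IsIso ((homologyFunctor _ j).map k))
        (adj.counit.naturality (CohCx.toTruncTower X n)).symm) ?_
      rw [Functor.map_comp]
      exact @IsIso.comp_isIso _ _ _ _ _ _ _ h₁ inferInstance
    exact IsIso.of_isIso_comp_right _
      ((homologyFunctor (_root_.ModSite.Mod O_C) j).map (CohCx.toTruncTower X n))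

end Groth.Agent.Lib.RlimTrunc.ModEquiv
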