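import Groth.Agent.Lib.RlimTrunc.AbLimCoh
import Mathlib.Topology.Sheaves.Stalks

/-!
# Cohomology of derived limits of abelian sheaves on a space
-/

set_option autoImplicit false
set_option linter.unusedSectionVars false

universe u

open CategoryTheory CategoryTheory.Limits TopologicalSpace Opposite DerivedCategory

namespace Groth.Agent.Lib.RlimTrunc.SpaceLimCoh

open SiteCoh.Basic

variable {X : TopCat.{u}}

/-- A basis of opens gives coverings. -/
theorem exists_cover (B : Set (Opens X)) (hB : Opens.IsBasis B) (U : Opens X) :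
    ∃ (ι : Type u) (Y : ι → Opens X) (f : ∀ i, Y i ⟶ U),
      Sieve.ofArrows Y f ∈ Opens.grothendieckTopology X U ∧ ∀ i, Y i ∈ B := by
  refine ⟨{W : Opens X // W ∈ B ∧ W ≤ U}, fun W => W.1, fun W => homOfLE W.2.2, fun x hx => ?_,
    fun W => W.2.1⟩
  obtain ⟨W, hW, hxW, hWU⟩ := Opens.isBasis_iff_nbhd.1 hB hx
  exact ⟨W, homOfLE hWU,
    ⟨_, 𝟙 _, _, Presieve.ofArrows.mk (⟨W, hW, hWU⟩ : {W : Opens X // W ∈ B ∧ W ≤ U}),
      Category.id_comp _⟩, hxW⟩

variable [HasDerivedCategory.{u} (CohTop.Ab X)] {K : ℕ → DerivedCategory (CohTop.Ab X)}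
  {t : ∀ n, K (n + 1) ⟶ K n} [HasProduct K] {L : DerivedCategory (CohTop.Ab X)} {a : ∀ n, L ⟶ K n}

/-- Injectivity on stalks of the projection from a derived limit. -/
theorem injective_stalk (hL : CohCx.IsRlimVia K t L a) (x : X) (m : ℤ) (nx : ℕ)
    (h : ∀ V : Opens X, x ∈ V → ∃ U : Opens X, x ∈ U ∧ U ≤ V ∧
      CohCx.LimOneIsZero (fun n => CohCx.HDU (K n) (m - 1) U)
        (fun n => Preadditive.rightComp _ ((shiftFunctor _ (m - 1)).map (t n))) ∧
      ∀ k : ℕ, Function.Injective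
        (Preadditive.rightComp _ ((shiftFunctor _ m).map (CohCx.transition K t nx k)) :
          CohCx.HDU (K (nx + k)) m U → CohCx.HDU (K nx) m U)) :
    Function.Injective ((TopCat.Presheaf.stalkFunctor AddCommGrpCat.{u} x).map
      ((homologyFunctor (CohTop.Ab X) m).map (a nx)).hom) := by
  refine (injective_iff_map_eq_zero _).2 fun z hz => ?_
  obtain ⟨V₀, hx₀, s₀, rfl⟩ := TopCat.Presheaf.germ_exist _ z
  let ψ := (homologyFunctor (CohTop.Ab X) m).map (a nx)
  have hgz : TopCat.Presheaf.germ (CohCx.HD (K nx) m).obj V₀ x hx₀ (ψ.hom.app (op V₀) s₀) =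
      TopCat.Presheaf.germ (CohCx.HD (K nx) m).obj V₀ x hx₀ 0 :=
    ((TopCat.Presheaf.stalkFunctor_map_germ_apply V₀ x hx₀ ψ.hom s₀).symm.trans hz).trans
      (map_zero _).symm
  obtain ⟨V, hxV, i₁, i₂, he⟩ := TopCat.Presheaf.germ_eq _ x hx₀ hx₀ _ _ hgz
  let s := (CohCx.HD L m).obj.map i₁.op s₀
  have hs : ψ.hom.app (op V) s = 0 :=
    ((ConcreteCategory.congr_hom (ψ.hom.naturality i₁.op) s₀).trans he).trans
      (map_zero ((CohCx.HD (K nx) m).obj.map i₂.op).hom)
  -- lift the class locally at `x`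
  let σ := (homEquiv V (CohCx.HD L m)).symm s
  have hσ : σ ≫ ψ = 0 := by
    apply (homEquiv V _).injective
    refine ((homEquiv_comp _ _).trans ?_).trans (map_zero _).symm
    exact (congrArg _ (AddEquiv.apply_symm_apply _ s)).trans hs
  let free := AbSheaf.free (Opens.grothendieckTopology X)
  let hd := AbSheaf.isDetecting (Opens.grothendieckTopology X)
  obtain ⟨S₀, hS₀, hS₀'⟩ := (Main.homologyPres hd m).exists_lift σ
  obtain ⟨V₁, g₁, hg₁, hx₁⟩ := hS₀ x hxV
  obtain ⟨w, hw⟩ := hS₀' g₁ hg₁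
  have hw' : Single.θ w = free.map g₁ ≫ σ := hw
  obtain ⟨S₁, hS₁, hS₁'⟩ := (Main.homologyPres hd m).exists_null (w ≫ a nx) (by
    change Single.θ (w ≫ a nx) = 0
    rw [Single.θ_comp, hw', Category.assoc, hσ, comp_zero])
  obtain ⟨V₂, g₂, hg₂, hx₂⟩ := hS₁ x hx₁
  obtain ⟨U, hxU, hUV, hlim, hinj⟩ := h V₂ hx₂
  have hw₂ : (Main.testObj free m).map (homOfLE hUV ≫ g₂) ≫ w = 0 :=
    Milnor.eq_zero_of_injective_hdu hL (CohCx.freeSheaf _ U) m nx hlim hinj _ (by
      rw [Category.assoc, (Main.testObj free m).map_comp, Category.assoc]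
      exact (congrArg ((Main.testObj free m).map (homOfLE hUV) ≫ ·) (hS₁' g₂ hg₂)).trans comp_zero)
  have hzero : free.map ((homOfLE hUV ≫ g₂) ≫ g₁) ≫ σ = 0 := by
    rw [free.map_comp, Category.assoc, ← hw']
    exact ((Main.homologyPres hd m).θ_left _ w).symm.trans
      ((congrArg Single.θ hw₂).trans Single.θ_zero)
  have hsU : (CohCx.HD L m).obj.map (((homOfLE hUV ≫ g₂) ≫ g₁) ≫ i₁).op s₀ = 0 := by
    have h1 := congrArg (homEquiv U (CohCx.HD L m)) hzero
    rw [map_zero] at h1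
    refine Eq.trans ?_ h1
    refine Eq.trans ?_ (AbSheaf.homEquiv_free_map_comp (Opens.grothendieckTopology X) _ σ).symm
    rw [op_comp, Functor.map_comp]
    exact congrArg ((CohCx.HD L m).obj.map ((homOfLE hUV ≫ g₂) ≫ g₁).op)
      (AddEquiv.apply_symm_apply _ s).symm
  exact ((TopCat.Presheaf.germ_res_apply _ (((homOfLE hUV ≫ g₂) ≫ g₁) ≫ i₁) x hxU s₀).symm.trans
    (congrArg _ hsU)).trans (map_zero _)

end Groth.Agent.Lib.RlimTrunc.SpaceLimCoh
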