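import Groth.Agent.Lib.RlimTrunc.LimSingle
import Groth.Agent.Lib.RlimTrunc.ModSheaf
import Groth.Agent.Lib.RlimTrunc.SpaceLimCoh
import Groth.Agent.Lib.DerivedOX.Grothendieck
import Groth.Agent.Lib.ZarCoh.Affine
import Groth.Agent.Lib.QCoh.Closure
import Groth.Agent.Lib.CohDelta.Basic
import Groth.Prelude.Def_DCoh2

/-!
# Derived limits of quasi-coherent modules on a scheme
-/

set_option autoImplicit false
set_option linter.unusedSectionVars false

universe u

open CategoryTheory CategoryTheory.Limits AlgebraicGeometry TopologicalSpace Opposite Abelian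
open DerivedCategory

attribute [local instance] HasDerivedCategory.standard

namespace Groth.Agent.Lib.RlimTrunc.SchemeLim

open Single Devissage Main

variable (X : Scheme.{u})

/-- The free modules on the opens. -/
noncomputable abbrev free : X.Opens ⥤ X.Modules := ModSheaf.free X.sheaf

/-- The affine opens. -/
abbrev aff : Set X.Opens := {U | IsAffineOpen U}

theorem exists_cover (U : X.Opens) : ∃ (ι : Type u) (Y : ι → X.Opens) (f : ∀ i, Y i ⟶ U),
    Sieve.ofArrows Y f ∈ (Opens.grothendieckTopology X) U ∧ ∀ i, Y i ∈ aff X :=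
  SpaceLimCoh.exists_cover (aff X) (Scheme.isBasis_affineOpens X) U

theorem isDetecting : IsDetecting (Opens.grothendieckTopology X) (free X) :=
  ModSheaf.isDetecting X.sheaf

/-- `Ext` out of a free module is cohomology. -/
theorem subsingleton_ext_iff (U : X.Opens) (M : X.Modules) (k : ℕ) :
    Subsingleton (Ext ((free X).obj U) M k) ↔ Subsingleton (CohTop.HU (Coh.toAb M) k U) := by
  obtain ⟨eqv⟩ := ModSS29.ExtCompare.nonempty_extEquiv (SheafOfModules.toSheaf _)
    ((ModSheaf.free X.sheaf).obj U) ((AbSheaf.free (Opens.grothendieckTopology X)).obj U)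
    (ModSheaf.homIso X.sheaf U)
    (fun I _ p => SiteCoh.FreeSheaf.subsingleton_hu_of_isTotallyAcyclic
      (ModSS29.TA.ta_injective X.sheaf I) U p) k M
  exact eqv.toEquiv.subsingleton_congr

variable {X} in
/-- Sections solve `x - t x = y` for a system surjective from the first term on. -/
theorem exists_primitive {F : ℕ → X.Modules} (t : ∀ n, F (n + 1) ⟶ F n) (hF : ∀ n, Coh.IsQCoh (F n))
    (ht : ∀ n, 1 ≤ n → Epi (t n)) {U : X.Opens} (hU : IsAffineOpen U)
    (y : ∀ n, (free X).obj U ⟶ F n) :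
    ∃ x : ∀ n, (free X).obj U ⟶ F n, ∀ n, x n - x (n + 1) ≫ t n = y n := by
  have key : ∀ n, ∀ z : (free X).obj U ⟶ F (n + 1), ∃ w : (free X).obj U ⟶ F (n + 2),
      w ≫ t (n + 1) = z := fun n z => by
    haveI := hF (n + 1)
    haveI := hF (n + 2)
    haveI := ht (n + 1) (Nat.le_add_left 1 n)
    obtain ⟨b, hb⟩ := QCoh.Closure.sections_surjective_of_epi (t (n + 1)) hU
      (SiteCoh.Basic.homEquiv U (_root_.ModSite.toAb (O := X.sheaf) (F (n + 1)))
        (ModSheaf.e X.sheaf U (F (n + 1)) z))
    refine ⟨(ModSheaf.e X.sheaf U (F (n + 2))).symm ((SiteCoh.Basic.homEquiv U _).symm b), ?_⟩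
    apply (ModSheaf.e X.sheaf U (F (n + 1))).injective
    refine (ModSheaf.e_right X.sheaf _ (t (n + 1))).trans ?_
    rw [Equiv.apply_symm_apply]
    apply (SiteCoh.Basic.homEquiv U _).injective
    refine (SiteCoh.Basic.homEquiv_comp _ _).trans ?_
    rw [AddEquiv.apply_symm_apply]
    exact hb
  choose w hw using key
  let x' : ∀ n, (free X).obj U ⟶ F (n + 1) := fun n =>
    Nat.rec (motive := fun n => (free X).obj U ⟶ F (n + 1)) 0 (fun k xk => w k (xk - y (k + 1))) n
  refine ⟨fun n => Nat.casesOn n (y 0 + x' 0 ≫ t 0) x', fun n => ?_⟩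
  cases n with
  | zero => exact add_sub_cancel_right _ _
  | succ k =>
    change x' k - w k (x' k - y (k + 1)) ≫ t (k + 1) = _
    rw [hw, sub_sub_cancel]

variable {X} in
/-- The limit of a system of quasi-coherent modules with surjective transition maps. -/
theorem isRlim_limit (F : ℕ → X.Modules) (hF : ∀ n, Coh.IsQCoh (F n))
    (t : ∀ n, F (n + 1) ⟶ F n) (ht : ∀ n, 1 ≤ n → Epi (t n))
    [HasProduct fun n => DCoh.inD X (F n)] :
    DCoh.IsRlim (fun n => DCoh.inD X (F n))
        (fun n => (DerivedCategory.singleFunctor X.Modules 0).map (t n))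
        (DCoh.inD X (Limits.limit (Functor.ofOpSequence t))) ∧
      ∀ (U : X.Opens), IsAffineOpen U → ∀ p : ℕ,
        Subsingleton (CohTop.HU (Coh.toAb (Limits.limit (Functor.ofOpSequence t))) (p + 1) U) := by
  obtain ⟨h1, h2⟩ := LimSingle.isRlim_limit (isDetecting X) (aff X) (exists_cover X) F t
    (fun U hU n k hk => by
      obtain ⟨j, rfl⟩ := Nat.exists_eq_succ_of_ne_zero hk.ne'
      haveI := hF n
      exact extVanish_of_subsingleton
        ((subsingleton_ext_iff X U (F n) (j + 1)).2 (ZarCoh.Affine.HU_subsingleton (F n) hU j)))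
    (fun U hU y => exists_primitive t hF ht hU y)
  refine ⟨h1, fun U hU p => (subsingleton_ext_iff X U _ (p + 1)).1 ⟨fun a b => ?_⟩⟩
  apply Ext.homEquiv.injective
  apply (Milnor.shiftEquivHom ((free X).obj U) (((p + 1 : ℕ) : ℤ)) _).symm.injective
  have h0 := Tower.HomZero.of_iso (h2 U hU p) (eqToIso (by norm_num) :
    W ((free X).obj U) ((p : ℤ) + 1) ≅ W ((free X).obj U) (((p + 1 : ℕ) : ℤ))) (Iso.refl _)
  exact (h0 _).trans (h0 _).symm

end Groth.Agent.Lib.RlimTrunc.SchemeLim
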