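import Groth.Agent.Lib.RlimTrunc.SystInjective
import Groth.Agent.Lib.RlimTrunc.ModFlasque
import Groth.Agent.Lib.ZarCoh.Basic
import Groth.Agent.Lib.MLSeq.Basic
import Groth.Agent.Lib.SiteMod.Basic
import Groth.Agent.H30.RightAcyc
import Mathlib.CategoryTheory.Sites.EpiMono
import Mathlib.CategoryTheory.Limits.Types.Limits

/-!
# Derived limits of inverse systems of sheaves of modules
-/

set_option autoImplicit false
set_option linter.unusedSectionVars false

universe u

open CategoryTheory CategoryTheory.Limits TopologicalSpace Opposite CategoryTheory.Abelian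

namespace Groth.Agent.Lib.RlimTrunc.SystDerived

open Groth.Agent.Lib.ZarCoh.Basic Groth.Agent.Lib.MLSeq.Basic

variable {X : TopCat.{u}} {R : Sheaf (Opens.grothendieckTopology X) RingCat.{u}}

/-- Inverse systems of sheaves of modules. -/
abbrev Sys (R : Sheaf (Opens.grothendieckTopology X) RingCat.{u}) := ℕᵒᵖ ⥤ SheafOfModules.{u} R

/-- Sections over an open. -/
noncomputable abbrev Sec (U : Opens X) : SheafOfModules.{u} R ⥤ AddCommGrpCat.{u} :=
  SheafOfModules.toSheaf R ⋙ sheafToPresheaf (Opens.grothendieckTopology X) AddCommGrpCat.{u} ⋙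
    (evaluation _ _).obj (op U)

variable (B : Set (Opens X))

/-- Systems whose terms are acyclic on the basis. -/
def Acyc (E : Sys R) : Prop := ∀ U ∈ B, ∀ n i : ℕ, 1 ≤ i →
  Subsingleton (Ext.{u} (Zs.obj U) ((SheafOfModules.toSheaf R).obj (E.obj (op n))) i)

lemma acyc_of_iso {E E' : Sys R} (e : E ≅ E') (h : Acyc B E) : Acyc B E' := fun U hU n i hi => by
  let g := (SheafOfModules.toSheaf R).mapIso (e.app (op n))
  have := h U hU n i hi
  refine subsingleton_of_forall_eq 0 fun x => ?_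
  rw [← Ext.comp_mk₀_id x, ← g.inv_hom_id, ← Ext.mk₀_comp_mk₀,
    ← Ext.comp_assoc_of_third_deg_zero,
    Subsingleton.elim (x.comp (Ext.mk₀ g.inv) (add_zero i)) 0, Ext.zero_comp]

section AbSheaf

variable {S : ShortComplex (CohTop.Ab X)} (hS : S.ShortExact) (U : Opens X)

/-- Sections of abelian sheaves over an open. -/
noncomputable abbrev secA : CohTop.Ab X ⥤ AddCommGrpCat.{u} :=
  sheafToPresheaf (Opens.grothendieckTopology X) AddCommGrpCat.{u} ⋙ (evaluation _ _).obj (op U)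

include hS in
lemma surjA (h : Subsingleton (Ext.{u} (Zs.obj U) S.X₁ 1)) (z : (secA U).obj S.X₃) :
    ∃ y : (secA U).obj S.X₂, (secA U).map S.g y = z := by
  let x : Zs.obj U ⟶ S.X₃ := (homEquiv U S.X₃).symm z
  obtain ⟨i, hi⟩ := Ext.covariant_sequence_exact₃ _ hS (Ext.mk₀ x)
    (zero_add 1) (Subsingleton.elim _ _)
  obtain ⟨i, rfl⟩ := (Ext.mk₀_bijective _ _).2 i
  rw [Ext.mk₀_comp_mk₀] at hi
  refine ⟨homEquiv U S.X₂ i, ?_⟩
  refine (homEquiv_comp i S.g).symm.trans ?_
  rw [(Ext.mk₀_bijective _ _).1 hi]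
  exact (homEquiv U S.X₃).apply_symm_apply z

include hS in
lemma exactA (y : (secA U).obj S.X₂) (hy : (secA U).map S.g y = 0) :
    ∃ a : (secA U).obj S.X₁, (secA U).map S.f a = y := by
  let x : Zs.obj U ⟶ S.X₂ := (homEquiv U S.X₂).symm y
  have h0 : homEquiv U S.X₃ 0 = 0 := by rw [homEquiv_apply]; rfl
  have hx : x ≫ S.g = 0 :=
    (homEquiv U S.X₃).injective ((homEquiv_comp x S.g).trans
      ((congrArg _ ((homEquiv U S.X₂).apply_symm_apply y)).trans (hy.trans h0.symm)))
  have := hS.mono_f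
  refine ⟨homEquiv U S.X₁ (hS.exact.lift x hx), ?_⟩
  refine (homEquiv_comp _ S.f).symm.trans ?_
  rw [ShortComplex.Exact.lift_f]
  exact (homEquiv U S.X₂).apply_symm_apply y

include hS in
lemma acycA {i : ℕ} (h₂ : Subsingleton (Ext.{u} (Zs.obj U) S.X₂ i))
    (h₁ : Subsingleton (Ext.{u} (Zs.obj U) S.X₁ (i + 1))) :
    Subsingleton (Ext.{u} (Zs.obj U) S.X₃ i) := by
  refine subsingleton_of_forall_eq 0 fun x => ?_
  obtain ⟨y, hy⟩ := Ext.covariant_sequence_exact₃ _ hS x rfl (Subsingleton.elim _ _)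
  rw [← hy, Subsingleton.elim y 0, Ext.zero_comp]

end AbSheaf

section ShortExact

variable {B} {S : ShortComplex (Sys R)} (hS : S.ShortExact)

/-- The sequence of the `n`-th terms. -/
noncomputable abbrev lvl (S : ShortComplex (Sys R)) (n : ℕ) :
    ShortComplex (CohTop.Ab X) :=
  ShortComplex.mk ((SheafOfModules.toSheaf R).map (S.f.app (op n)))
    ((SheafOfModules.toSheaf R).map (S.g.app (op n)))
    (by rw [← Functor.map_comp, ← NatTrans.comp_app, S.zero]; exact Functor.map_zero _ _ _)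

include hS in
lemma lvl_shortExact (n : ℕ) : (lvl S n).ShortExact :=
  hS.map_of_exact ((evaluation ℕᵒᵖ (SheafOfModules.{u} R)).obj (op n) ⋙ SheafOfModules.toSheaf R)

include hS in
lemma surj_sec (ha : Acyc B S.X₁) (U : Opens X) (hU : U ∈ B) (n : ℕ)
    (z : (S.X₃ ⋙ Sec U).obj (op n)) :
    ∃ y : (S.X₂ ⋙ Sec U).obj (op n), ((Functor.whiskerRight S.g (Sec U)).app (op n)).hom y = z :=
  surjA (lvl_shortExact hS n) U (ha U hU n 1 le_rfl) z

include hS in
lemma exact_sec (U : Opens X) (n : ℕ) (y : (S.X₂ ⋙ Sec U).obj (op n))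
    (hy : ((Functor.whiskerRight S.g (Sec U)).app (op n)).hom y = 0) :
    ∃ a : (S.X₁ ⋙ Sec U).obj (op n), ((Functor.whiskerRight S.f (Sec U)).app (op n)).hom a = y :=
  exactA (lvl_shortExact hS n) U y hy

instance hasCoproducts_hom (a b : ℕᵒᵖ) : HasCoproductsOfShape (a ⟶ b) (SheafOfModules.{u} R) :=
  inferInstance

variable [Injective S.X₂]

include hS in
lemma acyc₃ (ha : Acyc B S.X₁) : Acyc B S.X₃ := fun U hU n i hi => by
  obtain ⟨j, rfl⟩ := Nat.exists_eq_add_of_le' hi
  have := SystInjective.injective_obj S.X₂ (op n)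
  have hfl := ModFlasque.isFlasque_toSheaf (S.X₂.obj (op n))
  exact acycA (lvl_shortExact hS n) U (HU_flasque _ U j) (ha U hU n _ (by omega))

include hS in
lemma ml₃ (ha : Acyc B S.X₁) (U : Opens X) (hU : U ∈ B) : ML (S.X₃ ⋙ Sec U) :=
  ml_of_surjective fun i j h z => by
    obtain ⟨y, hy⟩ := surj_sec hS ha U hU i z
    obtain ⟨s, hs⟩ := SystInjective.exists_section S.X₂ (homOfLE h).op
    let y' : (S.X₂ ⋙ Sec U).obj (op j) := ((Sec U).map s).hom y
    refine ⟨((Functor.whiskerRight S.g (Sec U)).app (op j)).hom y', ?_⟩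
    refine (app_tr (Functor.whiskerRight S.g (Sec U)) h y').symm.trans ?_
    refine Eq.trans (congrArg _ ?_) hy
    change ((Sec U).map s ≫ (Sec U).map (S.X₂.map (homOfLE h).op)).hom y = y
    rw [← Functor.map_comp, hs, CategoryTheory.Functor.map_id]
    rfl

omit [Injective S.X₂] in
include hS in
/-- Compatible families lift. -/
lemma lift_family (ha : Acyc B S.X₁) (U : Opens X) (hU : U ∈ B) (hml : ML (S.X₁ ⋙ Sec U))
    (z : ∀ n, (S.X₃ ⋙ Sec U).obj (op n))
    (hz : ∀ n, tr (S.X₃ ⋙ Sec U) (Nat.le_succ n) (z (n + 1)) = z n) :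
    ∃ y : ∀ n, (S.X₂ ⋙ Sec U).obj (op n),
      (∀ ⦃i j : ℕ⦄ (h : i ≤ j), tr (S.X₂ ⋙ Sec U) h (y j) = y i) ∧
        ∀ n, ((Functor.whiskerRight S.g (Sec U)).app (op n)).hom (y n) = z n := by
  let g := Functor.whiskerRight S.g (Sec U)
  let f := Functor.whiskerRight S.f (Sec U)
  choose y hy using fun n => surj_sec hS ha U hU n (z n)
  have hd : ∀ n, ∃ a, (f.app (op n)).hom a = y n - tr (S.X₂ ⋙ Sec U) n.le_succ (y (n + 1)) :=
    fun n => exact_sec hS U n _ (by
      rw [map_sub, app_tr, hy, hy, hz, sub_self])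
  choose a ha' using hd
  obtain ⟨x, hx⟩ := exists_primitive (F := S.X₁ ⋙ Sec U) (φ := id) monotone_id
    (fun i => ⟨i, le_rfl⟩) hml a
  let y' : ∀ n, (S.X₂ ⋙ Sec U).obj (op n) := fun n => y n - (f.app (op n)).hom (x n)
  obtain ⟨β, hβ, hβ'⟩ := exists_extend (F := S.X₂ ⋙ Sec U) (φ := id) monotone_id
    (fun i => ⟨i, le_rfl⟩) y' (fun n => by
      have h1 : (f.app (op n)).hom (x n) -
          (f.app (op n)).hom (tr (S.X₁ ⋙ Sec U) n.le_succ (x (n + 1))) =
            y n - tr (S.X₂ ⋙ Sec U) n.le_succ (y (n + 1)) := by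
        rw [← map_sub, ← ha' n]; exact congrArg _ (hx n)
      change tr (S.X₂ ⋙ Sec U) n.le_succ (y (n + 1) - (f.app (op (n + 1))).hom (x (n + 1))) =
        y n - (f.app (op n)).hom (x n)
      rw [map_sub, ← app_tr, sub_eq_sub_iff_sub_eq_sub]
      rw [sub_eq_sub_iff_sub_eq_sub] at h1
      rw [← neg_sub ((f.app (op n)).hom _) ((f.app (op n)).hom _), ← neg_sub (y n) _]
      exact congrArg Neg.neg ((sub_eq_sub_iff_sub_eq_sub.2 h1).symm))
  refine ⟨β, hβ, fun n => ?_⟩
  rw [show β n = y' n from hβ' n]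
  simp only [y']
  rw [map_sub, hy]
  refine (congrArg (z n - ·) ?_).trans (sub_zero _)
  change ((Sec U).map (S.f.app (op n)) ≫ (Sec U).map (S.g.app (op n))).hom (x n) = 0
  rw [← Functor.map_comp, ← NatTrans.comp_app, S.zero]
  exact congrArg (fun t : (Sec U).obj _ ⟶ (Sec U).obj _ => t.hom (x n)) (Functor.map_zero (Sec U) _ _)

omit [Injective S.X₂] in
include hS in
/-- The map of limits is epi. -/
lemma epi_lim (hB : Opens.IsBasis B) (ha : Acyc B S.X₁) (hml : ∀ U ∈ B, ML (S.X₁ ⋙ Sec U)) :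
    Epi ((lim : Sys R ⥤ SheafOfModules.{u} R).map S.g) := by
  have : Sheaf.IsLocallySurjective
      ((SheafOfModules.toSheaf R).map ((lim : Sys R ⥤ SheafOfModules.{u} R).map S.g)) := by
    refine ⟨fun {U} s x hx => ?_⟩
    obtain ⟨V, hV, hxV, hVU⟩ := Opens.isBasis_iff_nbhd.1 hB hx
    refine ⟨V, homOfLE hVU, ?_, hxV⟩
    let s' : (Sec V).obj ((lim : Sys R ⥤ SheafOfModules.{u} R).obj S.X₃) :=
      ((SheafOfModules.toSheaf R).obj ((lim : Sys R ⥤ SheafOfModules.{u} R).obj S.X₃)).obj.map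
        (homOfLE hVU).op s
    obtain ⟨y, hy, hyz⟩ := lift_family hS ha V hV (hml V hV)
      (fun n => (Sec V).map (limit.π S.X₃ (op n)) s') (fun n => by
        change ((Sec V).map (limit.π S.X₃ (op (n + 1))) ≫ (Sec V).map (S.X₃.map _)) s' = _
        rw [← Functor.map_comp, limit.w])
    haveI : PreservesLimitsOfShape ℕᵒᵖ (SheafOfModules.toSheaf.{u} R) :=
      (preservesLimitsOfSize_shrink.{0, u, 0, u} (SheafOfModules.toSheaf.{u} R)).preservesLimitsOfShape
    haveI : PreservesLimitsOfShape ℕᵒᵖ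
        (Sec (R := R) V ⋙ forget AddCommGrpCat.{u}) := inferInstance
    let hl := isLimitOfPreserves (Sec V ⋙ forget AddCommGrpCat.{u}) (limit.isLimit S.X₂)
    let sec : (S.X₂ ⋙ Sec V ⋙ forget AddCommGrpCat.{u}).sections :=
      ⟨fun j => y j.unop, fun {j k} q => by
        rw [show q = (homOfLE (leOfHom q.unop)).op from Subsingleton.elim _ _]
        exact hy _⟩
    let hl' := isLimitOfPreserves (Sec V ⋙ forget AddCommGrpCat.{u}) (limit.isLimit S.X₃)
    refine ⟨(Types.isLimitEquivSections hl).symm sec, ?_⟩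
    apply (Types.isLimitEquivSections hl').injective
    refine Subtype.ext (funext fun j => ?_)
    obtain ⟨n⟩ := j
    refine Eq.trans ?_ (hyz n)
    change ((Sec V).map ((lim : Sys R ⥤ SheafOfModules.{u} R).map S.g) ≫
      (Sec V).map (limit.π S.X₃ (op n))) _ = _
    rw [← Functor.map_comp, show (lim : Sys R ⥤ SheafOfModules.{u} R).map S.g ≫ limit.π S.X₃ (op n) =
      limit.π S.X₂ (op n) ≫ S.g.app (op n) from limMap_π _ _, Functor.map_comp]
    exact congrArg ((Sec V).map (S.g.app (op n)))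
      (Types.isLimitEquivSections_symm_apply hl sec (op n))
  have : Epi ((SheafOfModules.toSheaf R).map ((lim : Sys R ⥤ SheafOfModules.{u} R).map S.g)) :=
    inferInstance
  exact (SheafOfModules.toSheaf R).epi_of_epi_map this

end ShortExact

open Groth.Agent.Lib.EtJ.RightAcyclic

variable [(lim : Sys R ⥤ SheafOfModules.{u} R).Additive] [HasInjectiveResolutions (Sys R)]

/-- Derived limits vanish for acyclic systems. -/
theorem isZero_rightDerived (hB : Opens.IsBasis B) (E : Sys R) (ha : Acyc B E) :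
    (∀ k, IsZero (((lim : Sys R ⥤ SheafOfModules.{u} R).rightDerived (k + 2)).obj E)) ∧
      ((∀ U ∈ B, ML (E ⋙ Sec U)) → ∀ k,
        IsZero (((lim : Sys R ⥤ SheafOfModules.{u} R).rightDerived (k + 1)).obj E)) := by
  let P := injectiveResolution E
  have hacyc : ∀ k, Acyc B (cyc P k) := fun k => by
    induction k with
    | zero => exact acyc_of_iso B (isoCyc₀ P) ha
    | succ k ih =>
      have : Injective (seq P k).X₂ := P.injective k
      exact acyc₃ (seq_shortExact P k) ih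
  have hml : ∀ k, ∀ U ∈ B, ML (cyc P (k + 1) ⋙ Sec U) := fun k U hU => by
    have : Injective (seq P k).X₂ := P.injective k
    exact ml₃ (seq_shortExact P k) (hacyc k) U hU
  refine ⟨fun k => H30.RightAcyc.isZero_rightDerived P _ (k + 1)
    (epi_lim (seq_shortExact P (k + 1)) hB (hacyc (k + 1)) (hml k)), fun h k => ?_⟩
  refine H30.RightAcyc.isZero_rightDerived P _ k (epi_lim (seq_shortExact P k) hB (hacyc k) ?_)
  cases k with
  | zero =>
    exact fun U hU => ml_of_epi (Functor.whiskerRight (isoCyc₀ P).hom (Sec U))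
      (fun i => (ConcreteCategory.bijective_of_isIso
        ((Functor.whiskerRight (isoCyc₀ P).hom (Sec U)).app i)).2) (h U hU)
  | succ k => exact hml k

end Groth.Agent.Lib.RlimTrunc.SystDerived
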