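import Mathlib.CategoryTheory.Adjunction.Evaluation
import Mathlib.CategoryTheory.Preadditive.Injective.Preserves
import Mathlib.CategoryTheory.Abelian.FunctorCategory
import Mathlib.CategoryTheory.Abelian.Basic

/-!
# Injective inverse systems

The terms of an injective inverse system are injective and its transition maps are split epi.
-/

set_option autoImplicit false

universe v u

open CategoryTheory CategoryTheory.Limits Opposite

namespace Groth.Agent.Lib.RlimTrunc.SystInjective

variable {A : Type u} [Category.{v} A] [Abelian A]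
  [∀ a b : ℕᵒᵖ, HasCoproductsOfShape (a ⟶ b) A]

/-- The codiagonal of a coproduct over a subsingleton is mono. -/
lemma mono_fold {ι : Type} [Subsingleton ι] (M : A) [HasCoproduct fun _ : ι => M] :
    Mono (Sigma.desc fun _ : ι => 𝟙 M) := by
  refine Preadditive.mono_of_cancel_zero _ fun {Z} k hk => ?_
  rcases isEmpty_or_nonempty ι with h | ⟨⟨i⟩⟩
  · have : 𝟙 (∐ fun _ : ι => M) = 0 := Sigma.hom_ext _ _ fun i => (h.false i).elim
    rw [← Category.comp_id k, this, comp_zero]
  · have : (Sigma.desc fun _ : ι => 𝟙 M) ≫ Sigma.ι (fun _ : ι => M) i = 𝟙 _ :=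
      Sigma.hom_ext _ _ fun j => by rw [Sigma.ι_desc_assoc, Category.id_comp, Category.comp_id,
        Subsingleton.elim i j]
    rw [← Category.comp_id k, ← this, ← Category.assoc, hk, zero_comp]

instance preservesMono (c : ℕᵒᵖ) : (evaluationLeftAdjoint A c).PreservesMonomorphisms where
  preserves {M N} f _ := by
    haveI : ∀ b, Mono (((evaluationLeftAdjoint A c).map f).app b) := fun b => by
      refine Preadditive.mono_of_cancel_zero _ fun {Z} k hk => ?_
      have e : ((evaluationLeftAdjoint A c).map f).app b ≫ (Sigma.desc fun _ : c ⟶ b => 𝟙 N) =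
          (Sigma.desc fun _ : c ⟶ b => 𝟙 M) ≫ f :=
        Sigma.hom_ext _ _ fun j => by simp [evaluationLeftAdjoint]
      have := mono_fold (ι := c ⟶ b) M
      refine (cancel_mono (Sigma.desc fun _ : c ⟶ b => 𝟙 M)).1 ((cancel_mono f).1 ?_)
      refine (Category.assoc _ _ _).trans ((congrArg (k ≫ ·) e.symm).trans ?_)
      refine (Category.assoc _ _ _).symm.trans ((congrArg (· ≫ _) hk).trans ?_)
      exact zero_comp.trans (zero_comp.symm.trans (congrArg (· ≫ f) zero_comp.symm))
    exact NatTrans.mono_of_mono_app _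

/-- The terms of an injective system are injective. -/
theorem injective_obj (I : ℕᵒᵖ ⥤ A) [Injective I] (c : ℕᵒᵖ) : Injective (I.obj c) :=
  Injective.injective_of_adjoint (evaluationAdjunctionRight A c) I

/-- The transition maps of an injective system are split epi. -/
theorem exists_section (I : ℕᵒᵖ ⥤ A) [Injective I] {a b : ℕᵒᵖ} (h : a ⟶ b) :
    ∃ s : I.obj b ⟶ I.obj a, s ≫ I.map h = 𝟙 _ := by
  let M := I.obj b
  let μ : (evaluationLeftAdjoint A b).obj M ⟶ (evaluationLeftAdjoint A a).obj M :=
    { app := fun c => Sigma.desc fun g : b ⟶ c => Sigma.ι (fun _ : a ⟶ c => M) (h ≫ g)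
      naturality := fun c d φ => Sigma.hom_ext _ _ fun j => by simp [evaluationLeftAdjoint] }
  have hμ : ∀ c, μ.app c ≫ (Sigma.desc fun _ : a ⟶ c => 𝟙 M) = Sigma.desc fun _ : b ⟶ c => 𝟙 M :=
    fun c => Sigma.hom_ext _ _ fun j => by simp [μ, evaluationLeftAdjoint]
  have : ∀ c, Mono (μ.app c) := fun c =>
    @mono_of_mono_fac _ _ _ _ _ _ _ _ (mono_fold (ι := b ⟶ c) M) (hμ c)
  have := NatTrans.mono_of_mono_app μ
  let e := ((evaluationAdjunctionRight A b).homEquiv M I).symm (𝟙 _)
  let g := Injective.factorThru e μ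
  refine ⟨Sigma.ι (fun _ : a ⟶ a => M) (𝟙 a) ≫ g.app a, ?_⟩
  have he : Sigma.ι (fun _ : b ⟶ b => M) (𝟙 b) ≫ e.app b = 𝟙 _ := by
    simp only [e, evaluationAdjunctionRight, Adjunction.mkOfHomEquiv_homEquiv]
    simp [M]
  have hg : μ ≫ g = e := Injective.comp_factorThru _ _
  rw [← hg] at he
  refine (Category.assoc _ _ _).trans ((congrArg (_ ≫ ·) (g.naturality h).symm).trans (Eq.trans ?_ he))
  simp [μ, evaluationLeftAdjoint]

end Groth.Agent.Lib.RlimTrunc.SystInjective
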