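import Groth.Prelude.Def_CohCx

/-!
# Morphisms into a derived limit of an eventually constant tower
-/

set_option autoImplicit false
set_option linter.unusedSectionVars false

universe v u

open CategoryTheory CategoryTheory.Limits CategoryTheory.Pretriangulated

namespace Groth.Agent.Lib.RlimTrunc.Tower

variable {T : Type u} [Category.{v} T] [Preadditive T]

/-- If the transition maps are surjective on `Hom(W, -)` from `N` on, then `1 - shift` is surjective. -/
lemma exists_sub_comp {W : T} (N : ℕ) : ∀ (K : ℕ → T) (t : ∀ n, K (n + 1) ⟶ K n),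
    (∀ n, N ≤ n → Function.Surjective fun x : W ⟶ K (n + 1) => x ≫ t n) →
    ∀ h : ∀ n, W ⟶ K n, ∃ k : ∀ n, W ⟶ K n, ∀ n, k n - k (n + 1) ≫ t n = h n := by
  induction N with
  | zero =>
    intro K t ht h
    choose l hl using fun n => ht n (Nat.zero_le n)
    let k : ∀ n, W ⟶ K n := fun n =>
      Nat.rec (motive := fun n => W ⟶ K n) 0 (fun m x => l m (x - h m)) n
    refine ⟨k, fun n => ?_⟩
    change k n - l n (k n - h n) ≫ t n = h n
    exact (congrArg (k n - ·) (hl n (k n - h n))).trans (sub_sub_cancel _ _)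
  | succ N ih =>
    intro K t ht h
    obtain ⟨k, hk⟩ := ih (fun n => K (n + 1)) (fun n => t (n + 1))
      (fun n hn => ht (n + 1) (by omega)) (fun n => h (n + 1))
    refine ⟨fun n => Nat.casesOn (motive := fun n => W ⟶ K n) n (h 0 + k 0 ≫ t 0) k, fun n => ?_⟩
    cases n with
    | zero => exact add_sub_cancel_right _ _
    | succ n => exact hk n

/-- If the transition maps are surjective on `Hom(W, -)` from `n` on, every map to the `n`-th term
extends to a compatible family. -/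
lemma exists_compat {W : T} (n : ℕ) : ∀ (K : ℕ → T) (t : ∀ n, K (n + 1) ⟶ K n),
    (∀ j, n ≤ j → Function.Surjective fun x : W ⟶ K (j + 1) => x ≫ t j) →
    ∀ x : W ⟶ K n, ∃ y : ∀ j, W ⟶ K j, (∀ j, y (j + 1) ≫ t j = y j) ∧ y n = x := by
  induction n with
  | zero =>
    intro K t ht x
    choose l hl using fun j => ht j (Nat.zero_le j)
    exact ⟨fun j => Nat.rec (motive := fun j => W ⟶ K j) x (fun m z => l m z) j,
      fun j => hl j _, rfl⟩
  | succ n ih =>
    intro K t ht x
    obtain ⟨y, hy, hyn⟩ := ih (fun j => K (j + 1)) (fun j => t (j + 1))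
      (fun j hj => ht (j + 1) (by omega)) x
    refine ⟨fun j => Nat.casesOn (motive := fun j => W ⟶ K j) j (y 0 ≫ t 0) y, fun j => ?_, hyn⟩
    cases j with
    | zero => rfl
    | succ j => exact hy j

variable [HasZeroObject T] [HasShift T ℤ] [∀ n : ℤ, (shiftFunctor T n).Additive] [Pretriangulated T]

/-- No nonzero morphisms from `W` to `Z`. -/
def HomZero (W Z : T) : Prop := ∀ f : W ⟶ Z, f = 0

lemma HomZero.of_iso {W W' Z Z' : T} (h : HomZero W Z) (e : W ≅ W') (e' : Z ≅ Z') :
    HomZero W' Z' := fun f => by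
  have h0 := h (e.hom ≫ f ≫ e'.inv)
  rwa [← cancel_epi e.hom, ← cancel_mono e'.inv, Category.assoc, comp_zero, zero_comp]

lemma HomZero.of_isZero {W Z : T} (h : IsZero Z) : HomZero W Z := fun _ => h.eq_of_tgt _ _

lemma surjective_comp_mor₁ (S : Triangle T) (hS : S ∈ distTriang T) {W : T}
    (h : HomZero W S.obj₃) : Function.Surjective fun x : W ⟶ S.obj₁ => x ≫ S.mor₁ := fun g => by
  obtain ⟨x, hx⟩ := Triangle.coyoneda_exact₂ S hS g (h _)
  exact ⟨x, hx.symm⟩

lemma injective_comp_mor₁ (S : Triangle T) (hS : S ∈ distTriang T) {W : T}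
    (h : HomZero (W⟦(1 : ℤ)⟧) S.obj₃) : Function.Injective fun x : W ⟶ S.obj₁ => x ≫ S.mor₁ := by
  intro x y hxy
  have hf : (x - y) ≫ S.mor₁ = 0 := by rw [Preadditive.sub_comp, sub_eq_zero]; exact hxy
  rw [← sub_eq_zero]
  apply (shiftFunctor T (1 : ℤ)).map_injective
  obtain ⟨g, hg⟩ := Triangle.coyoneda_exact₂ S.rotate.rotate
    (rot_of_distTriang _ (rot_of_distTriang _ hS)) ((x - y)⟦(1 : ℤ)⟧') (by
      change (x - y)⟦(1 : ℤ)⟧' ≫ (-S.mor₁⟦(1 : ℤ)⟧') = 0
      rw [Preadditive.comp_neg, ← Functor.map_comp, hf, Functor.map_zero, neg_zero])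
  rw [Functor.map_zero]
  exact hg.trans ((congrArg (· ≫ S.rotate.rotate.mor₁) (h g)).trans zero_comp)

variable {K : ℕ → T} {t : ∀ n, K (n + 1) ⟶ K n} [HasProduct K] {L : T} {a : ∀ n, L ⟶ K n}

lemma comp_transition (hL : CohCx.IsRlimVia K t L a) (n : ℕ) : a (n + 1) ≫ t n = a n := by
  obtain ⟨c, hc⟩ := hL
  have h0 : Pi.lift a ≫ (Pi.lift fun j => Pi.π K j - Pi.π K (j + 1) ≫ t j) = 0 :=
    comp_distTriang_mor_zero₁₂ _ hc
  have h := congrArg (fun φ => φ ≫ Pi.π K n) h0
  simp only [Category.assoc, Pi.lift_π, zero_comp, Preadditive.comp_sub, Pi.lift_π_assoc,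
    sub_eq_zero] at h
  exact h.symm

/-- Morphisms from `W` into a derived limit are those into any late term of the tower. -/
theorem bijective_comp (hL : CohCx.IsRlimVia K t L a) {W : T} (N : ℕ)
    (h : ∀ n, N ≤ n → Function.Bijective fun x : W ⟶ K (n + 1) => x ≫ t n)
    (h' : ∀ n, N ≤ n → Function.Surjective fun x : W⟦(1 : ℤ)⟧ ⟶ K (n + 1) => x ≫ t n)
    (n : ℕ) (hn : N ≤ n) : Function.Bijective fun x : W ⟶ L => x ≫ a n := by
  have hcomp := comp_transition hL
  obtain ⟨c, hc⟩ := hL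
  refine ⟨fun x y hxy => ?_, fun x => ?_⟩
  · rw [← sub_eq_zero]
    have hf : (x - y) ≫ a n = 0 := by rw [Preadditive.sub_comp, sub_eq_zero]; exact hxy
    generalize x - y = f at hf
    have hup : ∀ j, n ≤ j → f ≫ a j = 0 := fun j hj => by
      induction j, hj using Nat.le_induction with
      | base => exact hf
      | succ j hj ihj =>
        apply (h j (hn.trans hj)).1
        simp only [Category.assoc, hcomp j, zero_comp, ihj]
    have hall : ∀ d j, n ≤ j + d → f ≫ a j = 0 := fun d => by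
      induction d with
      | zero => exact fun j hj => hup j (by omega)
      | succ d ih =>
        intro j hj
        rw [← hcomp j, ← Category.assoc, ih (j + 1) (by omega), zero_comp]
    have h0 : f ≫ Pi.lift a = 0 := Pi.hom_ext _ _ fun j => by
      rw [Category.assoc, Pi.lift_π, hall n j (by omega), zero_comp]
    apply (shiftFunctor T (1 : ℤ)).map_injective
    rw [Functor.map_zero]
    obtain ⟨g, hg⟩ : ∃ g : W⟦(1 : ℤ)⟧ ⟶ ∏ᶜ K, f⟦(1 : ℤ)⟧' = g ≫ c :=
      Triangle.coyoneda_exact₂ _ (rot_of_distTriang _ (rot_of_distTriang _ hc))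
        (f⟦(1 : ℤ)⟧') (by
          change f⟦(1 : ℤ)⟧' ≫ (-(Pi.lift a)⟦(1 : ℤ)⟧') = 0
          rw [Preadditive.comp_neg, ← Functor.map_comp, h0, Functor.map_zero, neg_zero])
    obtain ⟨k, hk⟩ := exists_sub_comp N K t h' (fun j => g ≫ Pi.π K j)
    have hgk : g = Pi.lift k ≫ Pi.lift fun j => Pi.π K j - Pi.π K (j + 1) ≫ t j :=
      Pi.hom_ext _ _ fun j => by simp [hk j]
    have hd : (Pi.lift fun j => Pi.π K j - Pi.π K (j + 1) ≫ t j) ≫ c = 0 :=
      comp_distTriang_mor_zero₂₃ _ hc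
    rw [hg, hgk, Category.assoc, hd, comp_zero]
  · obtain ⟨y, hy, hyn⟩ := exists_compat n K t (fun j hj => (h j (hn.trans hj)).2) x
    obtain ⟨g, hg⟩ := Triangle.coyoneda_exact₂ _ hc (Pi.lift y) (by
      change Pi.lift y ≫ (Pi.lift fun j => Pi.π K j - Pi.π K (j + 1) ≫ t j) = 0
      refine Pi.hom_ext _ _ fun j => ?_
      rw [Category.assoc, Pi.lift_π, Preadditive.comp_sub, Pi.lift_π, ← Category.assoc, Pi.lift_π,
        hy j, sub_self, zero_comp])
    change Pi.lift y = g ≫ Pi.lift a at hg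
    refine ⟨g, ?_⟩
    have := congrArg (· ≫ Pi.π K n) hg
    simp only [Category.assoc, Pi.lift_π, hyn] at this
    exact this.symm

end Groth.Agent.Lib.RlimTrunc.Tower
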