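import Groth.Agent.Lib.RlimTrunc.RightSingle
import Groth.Agent.Lib.RlimTrunc.Trunc
import Groth.Agent.Lib.DerCat.HProd
import Groth.Prelude.Def_WeakSerre

/-!
# Truncations and right derived functors of bounded cohomological dimension on a class
-/

set_option autoImplicit false
set_option linter.unusedSectionVars false

universe w w' v v₁ v' v'' u u' u'' t' t''

open CategoryTheory CategoryTheory.Limits CategoryTheory.Pretriangulated DerivedCategory

namespace Groth.Agent.Lib.RlimTrunc.TruncR

open Tower Single Devissage Main RightPres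

variable {A : Type u} [Category.{v} A] [Abelian A] [HasDerivedCategory.{w} A]
  {B : Type (v₁ + 1)} [Category.{v₁} B] [Abelian B] [HasDerivedCategory.{w'} B]
  [(DerivedCategory.Qh (C := B)).IsLeftAdjoint] [HasInjectiveResolutions B]

/-- The cone of a transition map is concentrated in one degree with cohomology in the class. -/
lemma isZero_homology_R_cone (G : B ⥤ A) [G.Additive] (X : DerivedCategory B) (n : ℕ) (i : ℤ)
    (Z : DerivedCategory B) (p : CohCx.truncTower X n ⟶ Z)
    (q : Z ⟶ (CohCx.truncTower X (n + 1))⟦(1 : ℤ)⟧)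
    (hT : Triangle.mk (CohCx.truncTowerMap X n) p q ∈ distTriang (DerivedCategory B))
    (h : ∀ d : ℕ, -(n : ℤ) - 2 + (d : ℤ) = i →
      IsZero ((G.rightDerived d).obj ((homologyFunctor B (-((n : ℤ) + 1))).obj X))) :
    IsZero ((homologyFunctor A i).obj ((R G).obj Z)) := by
  have hz := Trunc.isZero_homology_cone X n Z p q hT
  have : Z.IsGE (-(n : ℤ) - 2) := (isGE_iff _ _).2 fun j hj => hz j (by omega)
  have : Z.IsLE (-(n : ℤ) - 2) := (isLE_iff _ _).2 fun j hj => hz j (by omega)
  refine RightSingle.isZero_homology_R G Z (-(n : ℤ) - 2) i fun d hd => ?_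
  exact (h d hd).of_iso ((G.rightDerived d).mapIso (Trunc.homologyConeIso X n Z p q hT).symm)

variable {C : Type u'} [Category.{v'} C] {J : GrothendieckTopology C} {freeC : C ⥤ B}
  {C' : Type u''} [Category.{v''} C'] {J' : GrothendieckTopology C'} {free : C' ⥤ A}
  {F : A ⥤ B} {G : B ⥤ A} [G.Additive] (P : ObjectProperty B)

/-- If `R^p G` vanishes on the class for `p > N` and maps out of test objects have locally bounded
`Ext` dimension on the class, `H^j(RG X) = H^j(RG τ_{≥ -n} X)` for `j ≥ N - n`. -/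
theorem isIso_homologyMap_R_toTruncTower [HasLimitsOfShape (Discrete ℕ) B]
    (hdC : IsDetecting J freeC) (hd : IsDetecting J' free) (adj : F ⊣ G)
    (hC : CofinalGood.{v', u', t'} J fun Y (d : ℕ) => ∀ M : B, P M → ∀ k : ℕ, d < k →
      ExtVanish (freeC.obj Y) M k)
    (hC' : CofinalGood.{v'', u'', t''} J' fun Y (d : ℕ) => ∀ M : B, P M → ∀ k : ℕ, d < k →
      ExtVanish (F.obj (free.obj Y)) M k)
    (N : ℤ) (hN : ∀ M : B, P M → ∀ p : ℕ, N < (p : ℤ) → IsZero ((G.rightDerived p).obj M))
    (X : DerivedCategory B) (hX : WSerre.cohIn P X) (n : ℕ) (j : ℤ) (hj : N - (n : ℤ) ≤ j) :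
    IsIso ((homologyFunctor A j).map ((R G).map (CohCx.toTruncTower X n))) := by
  haveI : HasLimitsOfShape (Discrete ℕ) (DerivedCategory B) :=
    DerCat.HProd.hasLimitsOfShape_derivedCategory
  have hL : CohCx.IsRlimVia (CohCx.truncTower X) (CohCx.truncTowerMap X) X (CohCx.toTruncTower X) :=
    Trunc.isRlimVia_truncTower X hdC (hC.imp (fun d m => ((d : ℤ) - m).toNat)
      fun Y d hv m k hk => hv _ (hX _) _ (by
        have hk' : ((d : ℤ) - m).toNat ≤ k := hk
        omega))
  refine (pres adj hd j).isIso_map hd (hC'.imp (fun d => ((d : ℤ) - j).toNat) fun Y d hv =>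
    Trunc.bijective_trunc X hL j _ fun i k hi₁ hi₂ hk => hv _ (hX _) _ (by
      have hk' : ((d : ℤ) - j).toNat ≤ k := hk
      omega)) (Trunc.toTruncTower_comp X) n (fun k hk => ?_) n le_rfl
  obtain ⟨Z, p, q, hT⟩ := distinguished_cocone_triangle (CohCx.truncTowerMap X k)
  refine RightSingle.isIso_homologyMap_R G _ hT j ?_ ?_
  all_goals
    exact isZero_homology_R_cone G X k _ Z p q hT fun d hd => hN _ (hX _) d (by omega)

end Groth.Agent.Lib.RlimTrunc.TruncR
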